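import Groth.Prelude.Def_CohDer
import Mathlib.CategoryTheory.Triangulated.Generators
import Mathlib.CategoryTheory.Adjunction.Additive
import Mathlib.CategoryTheory.Adjunction.Limits
import Mathlib.CategoryTheory.Limits.Preserves.Shapes.Products

/-!
# Compact objects (`CohDer.IsCompactObject`) : basic API

* `finHom K X` : the subgroup of `K ⟶ ∐ X` generated by morphisms factoring through one summand.
* `isCompactObject_iff` : `K` is compact iff every `K ⟶ ∐ X` lies in `finHom K X`.
* closure of compact objects under zero, retracts, left adjoints whose right adjoint preserves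
  coproducts, shifts, extensions: `compactProp D` is a triangulated object property, stable under
  retracts.
* `triangEnvelope_le_compact`.
-/

set_option autoImplicit false
universe v u u'
open CategoryTheory CategoryTheory.Limits

namespace Groth.Agent.H6

section Basic

variable {D : Type u} [Category.{v} D] [Preadditive D]

/-- The subgroup of morphisms `K ⟶ ∐ X` generated by those factoring through a summand. -/
noncomputable def finHom (K : D) {ι : Type v} (X : ι → D) [HasCoproduct X] : AddSubgroup (K ⟶ ∐ X) :=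
  AddSubgroup.closure {f | ∃ (i : ι) (g : K ⟶ X i), f = g ≫ Sigma.ι X i}

/-- The projection from a coproduct to a summand (classical decidability). -/
noncomputable def sigmaπ {ι : Type v} (X : ι → D) [HasCoproduct X] (i : ι) : ∐ X ⟶ X i :=
  letI := Classical.decEq ι
  Sigma.π X i

section

variable {K : D} {ι : Type v} {X : ι → D} [HasCoproduct X]

@[reassoc (attr := simp)]
lemma ι_sigmaπ_self (i : ι) : Sigma.ι X i ≫ sigmaπ X i = 𝟙 _ := by
  let _ := Classical.decEq ι
  exact Sigma.ι_π_eq_id X i

@[reassoc]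
lemma ι_sigmaπ_of_ne {i j : ι} (h : i ≠ j) : Sigma.ι X i ≫ sigmaπ X j = 0 := by
  let _ := Classical.decEq ι
  exact Sigma.ι_π_of_ne X h

lemma comp_ι_mem_finHom (i : ι) (g : K ⟶ X i) : g ≫ Sigma.ι X i ∈ finHom K X :=
  AddSubgroup.subset_closure ⟨i, g, rfl⟩

lemma comp_mem_finHom {K' : D} (p : K' ⟶ K) {f : K ⟶ ∐ X} (hf : f ∈ finHom K X) :
    p ≫ f ∈ finHom K' X := by
  induction hf using AddSubgroup.closure_induction with
  | mem f hf =>
    obtain ⟨i, g, rfl⟩ := hf
    rw [← Category.assoc]
    exact comp_ι_mem_finHom i (p ≫ g)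
  | zero => rw [Limits.comp_zero]; exact zero_mem _
  | add f₁ f₂ _ _ h₁ h₂ => rw [Preadditive.comp_add]; exact add_mem h₁ h₂
  | neg f _ h => rw [Preadditive.comp_neg]; exact neg_mem h

/-- Canonical finite form of an element of `finHom K X`. -/
lemma exists_finset_of_mem_finHom {f : K ⟶ ∐ X} (hf : f ∈ finHom K X) :
    ∃ s : Finset ι, (∀ i, i ∉ s → f ≫ sigmaπ X i = 0) ∧
      f = ∑ i ∈ s, (f ≫ sigmaπ X i) ≫ Sigma.ι X i := by
  classical
  induction hf using AddSubgroup.closure_induction with
  | mem f hf =>
    obtain ⟨i, g, rfl⟩ := hf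
    refine ⟨{i}, ?_, ?_⟩
    · intro j hj
      have hij : i ≠ j := by
        rintro rfl
        simp at hj
      rw [Category.assoc, ι_sigmaπ_of_ne hij, Limits.comp_zero]
    · rw [Finset.sum_singleton]
      simp only [Category.assoc, ι_sigmaπ_self_assoc]
  | zero => exact ⟨∅, by simp, by simp⟩
  | add f₁ f₂ _ _ h₁ h₂ =>
    obtain ⟨s₁, h₁, e₁⟩ := h₁
    obtain ⟨s₂, h₂, e₂⟩ := h₂
    refine ⟨s₁ ∪ s₂, ?_, ?_⟩
    · intro i hi
      rw [Finset.mem_union, not_or] at hi
      rw [Preadditive.add_comp, h₁ i hi.1, h₂ i hi.2, add_zero]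
    · have a₁ : f₁ = ∑ i ∈ s₁ ∪ s₂, (f₁ ≫ sigmaπ X i) ≫ Sigma.ι X i :=
        e₁.trans (Finset.sum_subset Finset.subset_union_left
          (fun i _ hi => by rw [h₁ i hi, Limits.zero_comp]))
      have a₂ : f₂ = ∑ i ∈ s₁ ∪ s₂, (f₂ ≫ sigmaπ X i) ≫ Sigma.ι X i :=
        e₂.trans (Finset.sum_subset Finset.subset_union_right
          (fun i _ hi => by rw [h₂ i hi, Limits.zero_comp]))
      simp only [Preadditive.add_comp, Finset.sum_add_distrib]
      exact congrArg₂ (· + ·) a₁ a₂
  | neg f _ h =>
    obtain ⟨s, h, e⟩ := h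
    refine ⟨s, ?_, ?_⟩
    · intro i hi
      rw [Preadditive.neg_comp, h i hi, neg_zero]
    · simp only [Preadditive.neg_comp, Finset.sum_neg_distrib]
      exact congrArg (- ·) e

lemma homSumToHomCoprod_of [DecidableEq ι] (i : ι) (g : K ⟶ X i) :
    CohDer.homSumToHomCoprod K X (DirectSum.of (fun i => K ⟶ X i) i g) = g ≫ Sigma.ι X i := by
  obtain rfl : ‹DecidableEq ι› = fun a b => Classical.propDecidable (a = b) :=
    Subsingleton.elim _ _
  classical
  unfold CohDer.homSumToHomCoprod
  rw [DirectSum.toAddMonoid_of]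
  rfl

lemma homSumToHomCoprod_mem_finHom (x : DirectSum ι (fun i => K ⟶ X i)) :
    CohDer.homSumToHomCoprod K X x ∈ finHom K X := by
  classical
  induction x using DirectSum.induction_on with
  | zero => rw [map_zero]; exact zero_mem _
  | of i g => rw [homSumToHomCoprod_of]; exact comp_ι_mem_finHom i g
  | add x y hx hy => rw [map_add]; exact add_mem hx hy

lemma homSumToHomCoprod_comp_sigmaπ (x : DirectSum ι (fun i => K ⟶ X i)) (i : ι) :
    CohDer.homSumToHomCoprod K X x ≫ sigmaπ X i = x i := by
  classical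
  induction x using DirectSum.induction_on with
  | zero => rw [map_zero, Limits.zero_comp]; rfl
  | of j g =>
    rw [homSumToHomCoprod_of, Category.assoc]
    by_cases h : j = i
    · subst h
      rw [ι_sigmaπ_self, Category.comp_id, DirectSum.of_eq_same]
    · rw [ι_sigmaπ_of_ne h, Limits.comp_zero, DirectSum.of_eq_of_ne _ _ _ (Ne.symm h)]
  | add x y hx hy => rw [map_add, Preadditive.add_comp, hx, hy, DirectSum.add_apply]

end

variable [HasCoproducts.{v} D]

/-- A usable characterization of compact objects. -/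
lemma isCompactObject_iff (K : D) :
    CohDer.IsCompactObject K ↔
      ∀ (ι : Type v) (X : ι → D) (f : K ⟶ ∐ X), f ∈ finHom K X := by
  constructor
  · intro h ι X f
    obtain ⟨x, rfl⟩ := (h ι X).2 f
    exact homSumToHomCoprod_mem_finHom x
  · intro h ι X
    constructor
    · rw [injective_iff_map_eq_zero]
      intro x hx
      refine DFinsupp.ext (fun i => ?_)
      rw [← homSumToHomCoprod_comp_sigmaπ x i, hx, Limits.zero_comp]
      rfl
    · intro f
      have hle : finHom K X ≤ (CohDer.homSumToHomCoprod K X).range := by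
        classical
        apply (AddSubgroup.closure_le _).2
        rintro _ ⟨i, g, rfl⟩
        exact ⟨DirectSum.of _ i g, homSumToHomCoprod_of i g⟩
      exact hle (h ι X f)

lemma IsCompactObject.mem_finHom {K : D} (hK : CohDer.IsCompactObject K) {ι : Type v}
    {X : ι → D} (f : K ⟶ ∐ X) : f ∈ finHom K X :=
  (isCompactObject_iff K).1 hK ι X f

lemma IsCompactObject.exists_finset {K : D} (hK : CohDer.IsCompactObject K) {ι : Type v}
    {X : ι → D} (f : K ⟶ ∐ X) :
    ∃ s : Finset ι, (∀ i, i ∉ s → f ≫ sigmaπ X i = 0) ∧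
      f = ∑ i ∈ s, (f ≫ sigmaπ X i) ≫ Sigma.ι X i :=
  exists_finset_of_mem_finHom (IsCompactObject.mem_finHom hK f)

lemma isCompactObject_of_isZero {K : D} (hK : IsZero K) : CohDer.IsCompactObject K := by
  rw [isCompactObject_iff]
  intro ι X f
  rw [hK.eq_of_src f 0]
  exact zero_mem _

lemma isCompactObject_of_retract {K L : D} (r : Retract K L) (hL : CohDer.IsCompactObject L) :
    CohDer.IsCompactObject K := by
  rw [isCompactObject_iff] at hL ⊢
  intro ι X f
  have h := comp_mem_finHom r.i (hL ι X (r.r ≫ f))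
  rwa [← Category.assoc, r.retract, Category.id_comp] at h

lemma isCompactObject_of_iso {K L : D} (e : K ≅ L) (hK : CohDer.IsCompactObject K) :
    CohDer.IsCompactObject L :=
  isCompactObject_of_retract ⟨e.inv, e.hom, e.inv_hom_id⟩ hK

/-- A left adjoint whose right adjoint preserves coproducts preserves compact objects. -/
lemma isCompactObject_of_adjunction {D' : Type u'} [Category.{v} D'] [Preadditive D']
    [HasCoproducts.{v} D'] {F : D ⥤ D'} {G : D' ⥤ D} (adj : F ⊣ G) [F.Additive]
    [∀ (ι : Type v) (X : ι → D'), PreservesColimit (Discrete.functor X) G]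
    {K : D} (hK : CohDer.IsCompactObject K) : CohDer.IsCompactObject (F.obj K) := by
  rw [isCompactObject_iff] at hK ⊢
  intro ι X f
  have key : ∀ h : K ⟶ ∐ fun i => G.obj (X i), h ∈ finHom K (fun i => G.obj (X i)) →
      (adj.homEquiv K (∐ X)).symm (h ≫ (PreservesCoproduct.iso G X).inv) ∈
        finHom (F.obj K) X := by
    intro h hh
    induction hh using AddSubgroup.closure_induction with
    | mem h hh =>
      obtain ⟨i, g, rfl⟩ := hh
      have e : (g ≫ Sigma.ι (fun i => G.obj (X i)) i) ≫ (PreservesCoproduct.iso G X).inv =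
          g ≫ G.map (Sigma.ι X i) := by
        rw [Category.assoc, PreservesCoproduct.inv_hom, ι_comp_sigmaComparison]
      rw [e, Adjunction.homEquiv_naturality_right_symm]
      exact comp_ι_mem_finHom i _
    | zero =>
      rw [Limits.zero_comp]
      have e : (adj.homEquiv K (∐ X)).symm 0 = 0 := map_zero (adj.homAddEquiv K (∐ X)).symm
      rw [e]
      exact zero_mem _
    | add h₁ h₂ _ _ e₁ e₂ =>
      rw [Preadditive.add_comp]
      have e : (adj.homEquiv K (∐ X)).symm (h₁ ≫ (PreservesCoproduct.iso G X).inv +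
          h₂ ≫ (PreservesCoproduct.iso G X).inv) =
          (adj.homEquiv K (∐ X)).symm (h₁ ≫ (PreservesCoproduct.iso G X).inv) +
          (adj.homEquiv K (∐ X)).symm (h₂ ≫ (PreservesCoproduct.iso G X).inv) :=
        map_add (adj.homAddEquiv K (∐ X)).symm _ _
      rw [e]
      exact add_mem e₁ e₂
    | neg h _ e₁ =>
      rw [Preadditive.neg_comp]
      have e : (adj.homEquiv K (∐ X)).symm (-(h ≫ (PreservesCoproduct.iso G X).inv)) =
          -(adj.homEquiv K (∐ X)).symm (h ≫ (PreservesCoproduct.iso G X).inv) :=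
        map_neg (adj.homAddEquiv K (∐ X)).symm _
      rw [e]
      exact neg_mem e₁
  have h := key (adj.homEquiv K (∐ X) f ≫ (PreservesCoproduct.iso G X).hom) (hK ι _ _)
  rwa [Category.assoc, Iso.hom_inv_id, Category.comp_id, Equiv.symm_apply_apply] at h

end Basic

section Triangulated

open Pretriangulated
open scoped ZeroObject

variable {D : Type u} [Category.{v} D] [Preadditive D] [HasZeroObject D] [HasShift D ℤ]
  [∀ n : ℤ, (shiftFunctor D n).Additive] [Pretriangulated D] [HasCoproducts.{v} D]

variable (D) in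
/-- The object property of being compact. -/
abbrev compactProp : ObjectProperty D := fun K => CohDer.IsCompactObject K

lemma isCompactObject_shift {K : D} (hK : CohDer.IsCompactObject K) (n : ℤ) :
    CohDer.IsCompactObject (K⟦n⟧) :=
  isCompactObject_of_adjunction (F := shiftFunctor D n) (G := shiftFunctor D (-n))
    (shiftEquiv D n).toAdjunction hK

lemma isCompactObject_ext₂ (T : Triangle D) (hT : T ∈ distTriang D)
    (h₁ : CohDer.IsCompactObject T.obj₁) (h₃ : CohDer.IsCompactObject T.obj₃) :
    CohDer.IsCompactObject T.obj₂ := by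
  rw [isCompactObject_iff] at h₁ h₃ ⊢
  intro ι X f
  obtain ⟨s, -, hs⟩ := exists_finset_of_mem_finHom (h₁ ι X (T.mor₁ ≫ f))
  have hf'mem : (∑ i ∈ s, (f ≫ sigmaπ X i) ≫ Sigma.ι X i) ∈ finHom T.obj₂ X :=
    sum_mem (fun i _ => comp_ι_mem_finHom i _)
  have h0 : T.mor₁ ≫ (f - ∑ i ∈ s, (f ≫ sigmaπ X i) ≫ Sigma.ι X i) = 0 := by
    rw [Preadditive.comp_sub, sub_eq_zero, Preadditive.comp_sum]
    simpa only [Category.assoc] using hs
  obtain ⟨c, hc⟩ := Triangle.yoneda_exact₂ T hT _ h0
  have e : f = (∑ i ∈ s, (f ≫ sigmaπ X i) ≫ Sigma.ι X i) + T.mor₂ ≫ c := by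
    rw [← hc]; abel
  rw [e]
  exact add_mem hf'mem (comp_mem_finHom _ (h₃ ι X c))

instance : (compactProp D).IsStableUnderRetracts where
  of_retract r h := isCompactObject_of_retract r h

instance : (compactProp D).ContainsZero where
  exists_zero := ⟨0, isZero_zero D, isCompactObject_of_isZero (isZero_zero D)⟩

instance : (compactProp D).IsStableUnderShift ℤ where
  isStableUnderShiftBy n := ⟨fun _ hK => isCompactObject_shift hK n⟩

instance : (compactProp D).IsTriangulatedClosed₂ :=
  .mk' (fun T hT h₁ h₃ => isCompactObject_ext₂ T hT h₁ h₃)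

instance : (compactProp D).IsTriangulated where

/-- The triangulated envelope of a class of compact objects consists of compact objects. -/
lemma triangEnvelope_le_compact [IsTriangulated D] (P : ObjectProperty D)
    (hP : P ≤ compactProp D) : P.triangEnvelope ≤ compactProp D :=
  (ObjectProperty.triangEnvelope_le_iff P).2 hP

end Triangulated

end Groth.Agent.H6
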