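import Mathlib
import Groth.Prelude.Def_CohDer
import Groth.Agent.S0477
import Groth.Agent.H6.Compact

/-!
# Coproducts in the derived category computed by complexes, and finite factorization of maps
from compact objects

The first part generalizes (in the universe of the derived category) the results of
`Groth.Agent.S0477`: for a Grothendieck abelian category `A`, the functor `Q` sends a coproduct of
complexes to a coproduct in `D(A)`, for any index type in bijection with the small index type.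

The second part is about the "finite factorization property" `FinFac K c` of maps from `K` into the
point of a cofan, and how to get it from the bijectivity of `CohDer.homSumToHomCoprod`.
-/

set_option autoImplicit false
universe w v u
open CategoryTheory CategoryTheory.Limits

namespace Groth.Agent.H6.DSum

open CochainComplex HomologicalComplex DerivedCategory

section Derived

variable {A : Type u} [Category.{v} A] [Abelian A] [HasDerivedCategory.{w} A]

theorem Q_map_eq_of_q {X Y : CochainComplex A ℤ} {a b : X ⟶ Y}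
    (h : (HomotopyCategory.quotient A (ComplexShape.up ℤ)).map a =
      (HomotopyCategory.quotient A (ComplexShape.up ℤ)).map b) : Q.map a = Q.map b :=
  Q_map_eq_of_homotopy A (HomotopyCategory.homotopyOfEq _ _ h)

set_option backward.isDefEq.respectTransparency.types false in
/-- Two maps of complexes which agree in the derived category become homotopic after
precomposition with a quasi-isomorphism. -/
theorem lemmaP {X Y : CochainComplex A ℤ} (a b : X ⟶ Y) (h : Q.map a = Q.map b) :
    ∃ (X' : CochainComplex A ℤ) (t : X' ⟶ X), QuasiIso t ∧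
      (HomotopyCategory.quotient A (ComplexShape.up ℤ)).map (t ≫ a) =
        (HomotopyCategory.quotient A (ComplexShape.up ℤ)).map (t ≫ b) := by
  have h' : Qh.map ((HomotopyCategory.quotient A (ComplexShape.up ℤ)).map a) =
      Qh.map ((HomotopyCategory.quotient A (ComplexShape.up ℤ)).map b) := by
    rw [← cancel_mono ((quotientCompQhIso A).hom.app Y), quotientCompQhIso_hom_naturality,
      quotientCompQhIso_hom_naturality, h]
  rw [MorphismProperty.map_eq_iff_precomp Qh
    (HomotopyCategory.quasiIso A (ComplexShape.up ℤ))] at h'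
  obtain ⟨Z, t, ht, eq⟩ := h'
  obtain ⟨X', rfl⟩ := HomotopyCategory.quotient_obj_surjective Z
  obtain ⟨t, rfl⟩ := (HomotopyCategory.quotient _ _).map_surjective t
  rw [HomotopyCategory.quotient_map_mem_quasiIso_iff, HomologicalComplex.mem_quasiIso_iff] at ht
  exact ⟨X', t, ht, by rw [Functor.map_comp, Functor.map_comp]; exact eq⟩

variable [IsGrothendieckAbelian.{v} A] {J : Type v} (K : J → CochainComplex A ℤ)

theorem exists_desc' (L : CochainComplex A ℤ) (φ : ∀ j, Q.obj (K j) ⟶ Q.obj L) :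
    ∃ Φ : Q.obj (∐ K) ⟶ Q.obj L, ∀ j, Q.map (Sigma.ι K j) ≫ Φ = φ j := by
  have := fun j => DerivedCategory.right_fac (φ j)
  choose K' s hs g hg using this
  have hs' : ∀ j, QuasiIso (s j) := fun j => (isIso_Q_map_iff_quasiIso A (s j)).1 (hs j)
  have : QuasiIso (Limits.Sigma.map s) := Groth.Agent.S0477.quasiIso_sigmaMap s hs'
  refine ⟨inv (Q.map (Limits.Sigma.map s)) ≫ Q.map (Sigma.desc g), fun j => ?_⟩
  have := hs j
  rw [hg j, ← cancel_epi (Q.map (s j)), IsIso.hom_inv_id_assoc, ← Functor.map_comp_assoc,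
    ← Sigma.ι_map s j, Functor.map_comp_assoc, IsIso.hom_inv_id_assoc, ← Functor.map_comp,
    Sigma.ι_desc]

theorem eq_zero_of_ι_comp_eq_zero (L : CochainComplex A ℤ) (Ψ : Q.obj (∐ K) ⟶ Q.obj L)
    (hΨ : ∀ j, Q.map (Sigma.ι K j) ≫ Ψ = 0) : Ψ = 0 := by
  obtain ⟨M, s, hs, g, rfl⟩ := DerivedCategory.right_fac Ψ
  have := hs
  have key : ∀ j, ∃ (K' : CochainComplex A ℤ) (t : K' ⟶ K j) (u : K' ⟶ M), QuasiIso t ∧
      (HomotopyCategory.quotient A (ComplexShape.up ℤ)).map (t ≫ Sigma.ι K j) =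
        (HomotopyCategory.quotient A (ComplexShape.up ℤ)).map (u ≫ s) ∧
      (HomotopyCategory.quotient A (ComplexShape.up ℤ)).map (u ≫ g) = 0 := by
    intro j
    obtain ⟨K₁, t₁, ht₁, u₁, h₁⟩ :=
      DerivedCategory.right_fac (Q.map (Sigma.ι K j) ≫ inv (Q.map s))
    have := ht₁
    have ht₁' : QuasiIso t₁ := (isIso_Q_map_iff_quasiIso A t₁).1 ht₁
    have hu₁ : Q.map u₁ = Q.map t₁ ≫ Q.map (Sigma.ι K j) ≫ inv (Q.map s) := by
      rw [h₁, IsIso.hom_inv_id_assoc]
    have e₁ : Q.map (t₁ ≫ Sigma.ι K j) = Q.map (u₁ ≫ s) := by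
      rw [Functor.map_comp, Functor.map_comp, hu₁, Category.assoc, Category.assoc,
        IsIso.inv_hom_id, Category.comp_id]
    have e₃ : Q.map (u₁ ≫ g) = Q.map (0 : K₁ ⟶ L) := by
      rw [Functor.map_comp, hu₁, Category.assoc, Category.assoc, hΨ j, comp_zero,
        Functor.map_zero]
    obtain ⟨K₂, w₂, hw₂, e₂⟩ := lemmaP _ _ e₁
    have := hw₂
    have e₄ : Q.map (w₂ ≫ u₁ ≫ g) = Q.map (0 : K₂ ⟶ L) := by
      rw [Functor.map_comp, e₃, Functor.map_zero, Functor.map_zero, comp_zero]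
    obtain ⟨K₃, w₃, hw₃, e₅⟩ := lemmaP _ _ e₄
    have := hw₃
    refine ⟨K₃, w₃ ≫ w₂ ≫ t₁, w₃ ≫ w₂ ≫ u₁, inferInstance, ?_, ?_⟩
    · simp only [Category.assoc]
      rw [Functor.map_comp, e₂, ← Functor.map_comp]
    · simp only [Category.assoc]
      rw [e₅, comp_zero, Functor.map_zero]
  choose K' t u ht h1 h2 using key
  have hσ : QuasiIso (Limits.Sigma.map t) := Groth.Agent.S0477.quasiIso_sigmaMap t ht
  have hU1 : (HomotopyCategory.quotient A (ComplexShape.up ℤ)).map (Sigma.desc u ≫ s) =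
      (HomotopyCategory.quotient A (ComplexShape.up ℤ)).map (Limits.Sigma.map t) := by
    apply Groth.Agent.S0477.q_map_eq_of_sigma
    intro j
    rw [Sigma.ι_desc_assoc, Sigma.ι_map]
    exact (h1 j).symm
  have hU2 : (HomotopyCategory.quotient A (ComplexShape.up ℤ)).map (Sigma.desc u ≫ g) =
      (HomotopyCategory.quotient A (ComplexShape.up ℤ)).map 0 := by
    apply Groth.Agent.S0477.q_map_eq_of_sigma
    intro j
    rw [Sigma.ι_desc_assoc, comp_zero, Functor.map_zero]
    exact h2 j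
  have hU1' : Q.map (Sigma.desc u) ≫ Q.map s = Q.map (Limits.Sigma.map t) := by
    rw [← Functor.map_comp]
    exact Q_map_eq_of_q hU1
  have hU2' : Q.map (Sigma.desc u) ≫ Q.map g = 0 := by
    rw [← Functor.map_comp, Q_map_eq_of_q hU2, Functor.map_zero]
  have : IsIso (Q.map (Sigma.desc u)) := IsIso.of_isIso_fac_right hU1'
  have hg0 : Q.map g = 0 := by
    rw [← cancel_epi (Q.map (Sigma.desc u)), hU2', comp_zero]
  rw [hg0, comp_zero]

theorem exists_desc (Y : DerivedCategory A) (φ : ∀ j, Q.obj (K j) ⟶ Y) :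
    ∃ Φ : Q.obj (∐ K) ⟶ Y, ∀ j, Q.map (Sigma.ι K j) ≫ Φ = φ j := by
  let e : Q.obj (Q.objPreimage Y) ≅ Y := Q.objObjPreimageIso Y
  obtain ⟨Φ, hΦ⟩ := exists_desc' K (Q.objPreimage Y) (fun j => φ j ≫ e.inv)
  exact ⟨Φ ≫ e.hom, fun j => by
    rw [← Category.assoc, hΦ j, Category.assoc, e.inv_hom_id, Category.comp_id]⟩

theorem hom_ext_Q (Y : DerivedCategory A) (Φ Φ' : Q.obj (∐ K) ⟶ Y)
    (h : ∀ j, Q.map (Sigma.ι K j) ≫ Φ = Q.map (Sigma.ι K j) ≫ Φ') : Φ = Φ' := by
  let e : Q.obj (Q.objPreimage Y) ≅ Y := Q.objObjPreimageIso Y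
  have h0 : (Φ - Φ') ≫ e.inv = 0 := by
    apply eq_zero_of_ι_comp_eq_zero K
    intro j
    rw [← Category.assoc, Preadditive.comp_sub, h j, sub_self, zero_comp]
  have h1 : Φ - Φ' = 0 := by
    rw [← cancel_mono e.inv, h0, zero_comp]
  exact sub_eq_zero.1 h1

/-! ### Reindexing along a bijection -/

variable {κ : Type*} (dn : κ → J)

lemma aux_eq {Y : DerivedCategory A} (φ : ∀ k, Q.obj (K (dn k)) ⟶ Y) {k k' : κ} (h : k' = k)
    (p : Q.obj (K (dn k)) = Q.obj (K (dn k'))) : eqToHom p ≫ φ k' = φ k := by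
  subst h
  simp

/-- A family of maps indexed by `κ` seen as a family indexed by `J`. -/
noncomputable def famOver (hdn : Function.Bijective dn) {Y : DerivedCategory A}
    (φ : ∀ k, Q.obj (K (dn k)) ⟶ Y) (j : J) :
    Q.obj (K j) ⟶ Y :=
  eqToHom (by rw [Function.surjInv_eq hdn.2 j]) ≫ φ (Function.surjInv hdn.2 j)

lemma famOver_dn (hdn : Function.Bijective dn) {Y : DerivedCategory A}
    (φ : ∀ k, Q.obj (K (dn k)) ⟶ Y) (k : κ) :
    famOver K dn hdn φ (dn k) = φ k :=
  aux_eq K dn φ (hdn.1 (Function.surjInv_eq hdn.2 (dn k))) _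

theorem exists_desc_over (hdn : Function.Bijective dn) (Y : DerivedCategory A)
    (φ : ∀ k, Q.obj (K (dn k)) ⟶ Y) :
    ∃ Φ : Q.obj (∐ K) ⟶ Y, ∀ k, Q.map (Sigma.ι K (dn k)) ≫ Φ = φ k := by
  obtain ⟨Φ, hΦ⟩ := exists_desc K Y (famOver K dn hdn φ)
  exact ⟨Φ, fun k => by rw [hΦ (dn k), famOver_dn]⟩

theorem hom_ext_over (hdn : Function.Bijective dn) (Y : DerivedCategory A)
    (Φ Φ' : Q.obj (∐ K) ⟶ Y)
    (h : ∀ k, Q.map (Sigma.ι K (dn k)) ≫ Φ = Q.map (Sigma.ι K (dn k)) ≫ Φ') : Φ = Φ' :=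
  hom_ext_Q K Y Φ Φ' (fun j => by
    obtain ⟨k, rfl⟩ := hdn.2 j
    exact h k)

/-- The image in the derived category of the coproduct of complexes is a coproduct, for any
index type in bijection with the index type of the complexes. -/
noncomputable def isColimitQ' (hdn : Function.Bijective dn) :
    IsColimit (Cofan.mk (Q.obj (∐ K)) (fun k : κ => Q.map (Sigma.ι K (dn k))) :
      Cofan (fun k : κ => Q.obj (K (dn k)))) :=
  Cofan.IsColimit.mk _ (fun t => (exists_desc_over K dn hdn t.pt t.inj).choose)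
    (fun t k => (exists_desc_over K dn hdn t.pt t.inj).choose_spec k)
    (fun t m hm => hom_ext_over K dn hdn t.pt _ _ (fun k => by
      rw [(exists_desc_over K dn hdn t.pt t.inj).choose_spec k]
      exact hm k))

/-- The image in the derived category of any colimit cofan of complexes is a colimit cofan. -/
noncomputable def isColimitQOfIsColimit (hdn : Function.Bijective dn) (c : Cofan K)
    (hc : IsColimit c) :
    IsColimit (Cofan.mk (Q.obj c.pt) (fun k : κ => Q.map (c.inj (dn k))) :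
      Cofan (fun k : κ => Q.obj (K (dn k)))) := by
  let e : ∐ K ≅ c.pt := (coproductIsCoproduct K).coconePointUniqueUpToIso hc
  have he : ∀ j, Sigma.ι K j ≫ e.hom = c.inj j := fun j =>
    IsColimit.comp_coconePointUniqueUpToIso_hom (coproductIsCoproduct K) hc ⟨j⟩
  refine IsColimit.ofIsoColimit (isColimitQ' K dn hdn) (Cofan.ext (Q.mapIso e) (fun k => ?_))
  show Q.map (Sigma.ι K (dn k)) ≫ Q.map e.hom = Q.map (c.inj (dn k))
  rw [← Functor.map_comp, he]

end Derived

/-! ### Finite factorization -/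

section FinFac

variable {D : Type u} [Category.{v} D] [Preadditive D]

/-- Every map from `K` to the point of the cofan is a finite sum of maps through the
injections. -/
def FinFac (K : D) {ι : Type*} {X : ι → D} (c : Cofan X) : Prop :=
  ∀ g : K ⟶ c.pt, ∃ (s : Finset ι) (a : ∀ i, K ⟶ X i), g = ∑ i ∈ s, a i ≫ c.inj i

lemma finFac_of_surjective (K : D) {ι : Type v} (X : ι → D) (c : Cofan X) (hc : IsColimit c)
    (h : ∀ [HasCoproduct X], Function.Surjective (CohDer.homSumToHomCoprod K X)) :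
    FinFac K c := by
  haveI : HasCoproduct X := ⟨⟨⟨c, hc⟩⟩⟩
  intro g
  let e : ∐ X ≅ c.pt := (coproductIsCoproduct X).coconePointUniqueUpToIso hc
  have he : ∀ i, Sigma.ι X i ≫ e.hom = c.inj i := fun i =>
    IsColimit.comp_coconePointUniqueUpToIso_hom (coproductIsCoproduct X) hc ⟨i⟩
  obtain ⟨x, hx⟩ := h (g ≫ e.inv)
  have hmem : g ≫ e.inv ∈ Groth.Agent.H6.finHom K X := by
    rw [← hx]
    exact Groth.Agent.H6.homSumToHomCoprod_mem_finHom x
  obtain ⟨s, -, hs⟩ := Groth.Agent.H6.exists_finset_of_mem_finHom hmem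
  refine ⟨s, fun i => (g ≫ e.inv) ≫ Groth.Agent.H6.sigmaπ X i, ?_⟩
  have h1 : g = (g ≫ e.inv) ≫ e.hom := by
    rw [Category.assoc, e.inv_hom_id, Category.comp_id]
  conv_lhs => rw [h1, hs, Preadditive.sum_comp]
  refine Finset.sum_congr rfl (fun i _ => ?_)
  rw [Category.assoc, he]

/-- Reindexing a colimit cofan along `ULift.down`. -/
def isColimitULift {ι : Type*} {X : ι → D} (c : Cofan X) (hc : IsColimit c) :
    IsColimit (Cofan.mk c.pt (fun i : ULift.{w} ι => c.inj i.down) :
      Cofan (fun i : ULift.{w} ι => X i.down)) :=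
  Cofan.IsColimit.mk _ (fun t => Cofan.IsColimit.desc hc (fun n => t.inj ⟨n⟩))
    (fun t i => Cofan.IsColimit.fac hc (fun n => t.inj ⟨n⟩) i.down)
    (fun t m hm => Cofan.IsColimit.hom_ext hc _ _ (fun n => by
      rw [Cofan.IsColimit.fac]
      exact hm ⟨n⟩))

lemma finFac_of_ulift (K : D) {ι : Type*} {X : ι → D} (c : Cofan X)
    (h : FinFac K (Cofan.mk c.pt (fun i : ULift.{w} ι => c.inj i.down) :
      Cofan (fun i : ULift.{w} ι => X i.down))) : FinFac K c := by
  classical
  intro g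
  obtain ⟨s, a, hs⟩ := h g
  refine ⟨s.map ⟨ULift.down, ULift.down_injective⟩, fun n => a ⟨n⟩, ?_⟩
  rw [Finset.sum_map]
  exact hs

end FinFac

end Groth.Agent.H6.DSum
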