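import Mathlib

/-!
# Coproducts of modules: joint injectivity of the projections, finiteness of supports

For a colimit cofan `c` in `ModuleCat R` with "projections" `prj i : c.pt ⟶ Z i` (i.e.
`c.inj i ≫ prj i = 𝟙`, `c.inj i ≫ prj j = 0` for `i ≠ j`):
* `eq_zero_of_prj` / `hom_eq_zero_of_prj` : the projections are jointly injective;
* `exists_finset_of_fg` : a map from a finitely generated module has only finitely many nonzero
  components.
-/

set_option autoImplicit false
universe u
open CategoryTheory CategoryTheory.Limits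

namespace Groth.Agent.H6.ModCoprod

variable {R : Type u} [Ring R] {ι : Type u} {Z : ι → ModuleCat.{u} R}
  (c : Cofan Z) (hc : IsColimit c) (prj : ∀ i, c.pt ⟶ Z i)
  (h1 : ∀ i, c.inj i ≫ prj i = 𝟙 _) (h2 : ∀ i j, i ≠ j → c.inj i ≫ prj j = 0)

open DirectSum in
/-- The comparison isomorphism with the direct sum. -/
noncomputable def isoDS [DecidableEq ι] : c.pt ≅ ModuleCat.of R (⨁ i, Z i) :=
  hc.coconePointUniqueUpToIso (ModuleCat.coproductCoconeIsColimit Z)

lemma inj_isoDS_hom [DecidableEq ι] (i : ι) :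
    c.inj i ≫ (isoDS c hc).hom = ModuleCat.ofHom (DirectSum.lof R ι (fun i => Z i) i) :=
  hc.comp_coconePointUniqueUpToIso_hom (ModuleCat.coproductCoconeIsColimit Z) ⟨i⟩

include h1 h2 in
lemma prj_eq [DecidableEq ι] (i : ι) :
    prj i = (isoDS c hc).hom ≫ ModuleCat.ofHom (DirectSum.component R ι (fun i => Z i) i) := by
  apply Cofan.IsColimit.hom_ext hc
  intro k
  rw [← Category.assoc, inj_isoDS_hom]
  by_cases hk : k = i
  · subst hk
    rw [h1]
    ext x
    simp [DirectSum.component.lof_self]
  · rw [h2 k i hk]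
    ext x
    simp [DirectSum.component.of, hk]

include hc h1 h2 in
/-- The projections are jointly injective. -/
lemma eq_zero_of_prj (z : c.pt) (hz : ∀ i, (prj i).hom z = 0) : z = 0 := by
  classical
  have h0 : (isoDS c hc).hom.hom z = 0 := by
    apply DirectSum.ext_component R
    intro i
    have := hz i
    rw [prj_eq c hc prj h1 h2 i] at this
    simpa using this
  have h3 : (isoDS c hc).inv.hom ((isoDS c hc).hom.hom z) = z := by
    rw [← LinearMap.comp_apply, ← ModuleCat.hom_comp, Iso.hom_inv_id]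
    rfl
  rw [← h3, h0, map_zero]

include hc h1 h2 in
lemma hom_eq_zero_of_prj {N : ModuleCat.{u} R} (ψ : N ⟶ c.pt) (hψ : ∀ i, ψ ≫ prj i = 0) :
    ψ = 0 := by
  ext x
  apply eq_zero_of_prj c hc prj h1 h2
  intro i
  have := congrArg (fun φ => φ.hom x) (hψ i)
  simpa using this

include hc h1 h2 in
/-- A map from a finitely generated module to a coproduct has finitely many nonzero components. -/
lemma exists_finset_of_fg (N : ModuleCat.{u} R) [Module.Finite R N] (ψ : N ⟶ c.pt) :
    ∃ s : Finset ι, ∀ j, j ∉ s → ψ ≫ prj j = 0 := by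
  classical
  obtain ⟨G, hG⟩ := (Module.Finite.fg_top : (⊤ : Submodule R N).FG)
  refine ⟨G.biUnion (fun g => DFinsupp.support ((isoDS c hc).hom.hom (ψ.hom g))), fun j hj => ?_⟩
  ext : 1
  apply LinearMap.ext_on hG
  intro g hg
  have hg' : g ∈ G := hg
  have hj' : j ∉ DFinsupp.support ((isoDS c hc).hom.hom (ψ.hom g)) :=
    fun h => hj (Finset.mem_biUnion.2 ⟨g, hg', h⟩)
  rw [DFinsupp.notMem_support_iff] at hj'
  rw [prj_eq c hc prj h1 h2 j]
  simp only [ModuleCat.hom_comp, ModuleCat.hom_ofHom, LinearMap.comp_apply, ModuleCat.hom_zero,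
    LinearMap.zero_apply]
  exact hj'

end Groth.Agent.H6.ModCoprod
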