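import Mathlib
import Groth.Agent.H6.DSum

/-!
# The telescope triangle and maps from countably compact objects

Abstract form (in a pretriangulated category) of: if `K` is "countably compact" and
`S --(1 - σ)--> S --π--> L --δ--> S⟦1⟧` is the telescope triangle of a sequence `X 0 ⟶ X 1 ⟶ ...`
(with `S` the coproduct of the `X n`), then maps `K ⟶ L` factor through a finite stage, and a map
`K ⟶ X n` which vanishes in `L` vanishes in some `X m`.
-/

set_option autoImplicit false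
universe v u
open CategoryTheory CategoryTheory.Limits

namespace Groth.Agent.H6.Telescope

section Prj

variable {D : Type*} [Category D] [Preadditive D] {ι : Type*} {X : ι → D} {S : D}
  (inj : ∀ i, X i ⟶ S) (prj : ∀ i, S ⟶ X i)
  (h1 : ∀ i, inj i ≫ prj i = 𝟙 _) (h2 : ∀ i j, i ≠ j → inj i ≫ prj j = 0)

include h1 h2 in
lemma sum_comp_prj [DecidableEq ι] {K : D} (s : Finset ι) (a : ∀ i, K ⟶ X i) (m : ι) :
    (∑ i ∈ s, a i ≫ inj i) ≫ prj m = if m ∈ s then a m else 0 := by
  rw [Preadditive.sum_comp]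
  by_cases hm : m ∈ s
  · rw [if_pos hm, Finset.sum_eq_single m]
    · rw [Category.assoc, h1, Category.comp_id]
    · intro n _ hn
      rw [Category.assoc, h2 n m hn, comp_zero]
    · intro h; exact absurd hm h
  · rw [if_neg hm]
    apply Finset.sum_eq_zero
    intro n hn
    have : n ≠ m := by rintro rfl; exact hm hn
    rw [Category.assoc, h2 n m this, comp_zero]

end Prj

section Tele

variable {D : Type*} [Category D] [Preadditive D] {X : ℕ → D} (f : ∀ n, X n ⟶ X (n + 1)) {S : D}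
  (inj : ∀ n, X n ⟶ S) (prj : ∀ n, S ⟶ X n)
  (h1 : ∀ n, inj n ≫ prj n = 𝟙 _) (h2 : ∀ m n, m ≠ n → inj m ≫ prj n = 0)
  (σ : S ⟶ S) (hσ : ∀ n, inj n ≫ σ = f n ≫ inj (n + 1))

/-- `z` is a finite sum of maps through the `inj n`. -/
def IsFin {K : D} (z : K ⟶ S) : Prop :=
  ∃ (s : Finset ℕ) (a : ∀ n, K ⟶ X n), z = ∑ n ∈ s, a n ≫ inj n

include h2 hσ in
lemma comp_σ_prj_zero {K : D} (z : K ⟶ S) (hz : IsFin inj z) : z ≫ σ ≫ prj 0 = 0 := by
  obtain ⟨s, a, rfl⟩ := hz
  rw [Preadditive.sum_comp]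
  apply Finset.sum_eq_zero
  intro n _
  rw [Category.assoc, ← Category.assoc (inj n) σ, hσ n, Category.assoc,
    h2 (n + 1) 0 (Nat.succ_ne_zero n), comp_zero, comp_zero]

include h1 h2 hσ in
lemma comp_σ_prj_succ {K : D} (z : K ⟶ S) (hz : IsFin inj z) (m : ℕ) :
    z ≫ σ ≫ prj (m + 1) = (z ≫ prj m) ≫ f m := by
  obtain ⟨s, a, rfl⟩ := hz
  simp only [Preadditive.sum_comp]
  refine Finset.sum_congr rfl (fun n _ => ?_)
  simp only [Category.assoc]
  rw [← Category.assoc (inj n) σ, hσ n, Category.assoc]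
  by_cases hn : n = m
  · subst hn
    rw [h1 (n + 1), Category.comp_id, ← Category.assoc (inj n) (prj n), h1 n, Category.id_comp]
  · have hn' : n + 1 ≠ m + 1 := fun h => hn (Nat.succ_injective h)
    rw [h2 (n + 1) (m + 1) hn', comp_zero, comp_zero, ← Category.assoc (inj n) (prj m), h2 n m hn,
      zero_comp, comp_zero]

include h1 h2 hσ in
/-- `1 - σ` is injective on finite sums. -/
lemma eq_zero_of_comp_one_sub {K : D} (z : K ⟶ S) (hz : IsFin inj z)
    (h0 : z ≫ (𝟙 S - σ) = 0) : z = 0 := by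
  have hzσ : z = z ≫ σ := by
    rw [Preadditive.comp_sub, Category.comp_id, sub_eq_zero] at h0
    exact h0
  have hp : ∀ n, z ≫ prj n = 0 := by
    intro n
    induction n with
    | zero =>
      rw [hzσ, Category.assoc]
      exact comp_σ_prj_zero f inj prj h2 σ hσ z hz
    | succ k ih =>
      rw [hzσ, Category.assoc, comp_σ_prj_succ f inj prj h1 h2 σ hσ z hz k, ih, zero_comp]
  obtain ⟨s, a, hs⟩ := hz
  rw [hs]
  apply Finset.sum_eq_zero
  intro n hn
  have := sum_comp_prj inj prj h1 h2 s a n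
  rw [← hs, hp n, if_pos hn] at this
  rw [← this, zero_comp]

/-- Pushing a finite sum of maps into the stages of a sequential cocone to a single stage. -/
lemma exists_factor_of_sum {C L : D} (j : ∀ n, X n ⟶ L) (hj : ∀ n, j n = f n ≫ j (n + 1))
    (a : ∀ n, C ⟶ X n) (N : ℕ) :
    ∃ b : C ⟶ X N, ∑ n ∈ Finset.range (N + 1), a n ≫ j n = b ≫ j N := by
  induction N with
  | zero => exact ⟨a 0, by simp⟩
  | succ N ih =>
    obtain ⟨b, hb⟩ := ih
    refine ⟨b ≫ f N + a (N + 1), ?_⟩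
    rw [Finset.sum_range_succ, hb, Preadditive.add_comp, Category.assoc, ← hj N]

end Tele

section Main

open Pretriangulated

variable {D : Type*} [Category D] [Preadditive D] [HasZeroObject D] [HasShift D ℤ]
  [∀ n : ℤ, (shiftFunctor D n).Additive] [Pretriangulated D]

/-- Countable compactness, in terms of finite factorization. -/
def CtblCompact (K : D) : Prop :=
  ∀ (X : ℕ → D) (c : Cofan X), IsColimit c → DSum.FinFac K c

theorem main (K : D) (hK : CtblCompact K) {X : ℕ → D} (f : ∀ n, X n ⟶ X (n + 1)) {S : D}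
    (inj : ∀ n, X n ⟶ S) (prj : ∀ n, S ⟶ X n) (hS : IsColimit (Cofan.mk S inj))
    (h1 : ∀ n, inj n ≫ prj n = 𝟙 _) (h2 : ∀ m n, m ≠ n → inj m ≫ prj n = 0)
    (σ : S ⟶ S) (hσ : ∀ n, inj n ≫ σ = f n ≫ inj (n + 1))
    {Lc : D} (π : S ⟶ Lc) (δ : Lc ⟶ S⟦(1 : ℤ)⟧)
    (hT : Triangle.mk (𝟙 S - σ) π δ ∈ distTriang D)
    (t : ∀ n m, n ≤ m → (X n ⟶ X m)) (t_self : ∀ n h, t n n h = 𝟙 _)
    (t_succ : ∀ n m (h : n ≤ m) (h' : n ≤ m + 1), t n (m + 1) h' = t n m h ≫ f m) :
    (∀ x : K ⟶ Lc, ∃ (n : ℕ) (y : K ⟶ X n), y ≫ inj n ≫ π = x) ∧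
    (∀ (n : ℕ) (y : K ⟶ X n), y ≫ inj n ≫ π = 0 → ∃ (m : ℕ) (h : n ≤ m), y ≫ t n m h = 0) := by
  have hfin : ∀ g : K ⟶ S, IsFin inj g := fun g => hK X (Cofan.mk S inj) hS g
  have hS' : IsColimit (Cofan.mk (S⟦(1 : ℤ)⟧) (fun n => (inj n)⟦(1 : ℤ)⟧')) :=
    isColimitCofanMkObjOfIsColimit (shiftFunctor D (1 : ℤ)) X inj hS
  have hfin' : ∀ g : K ⟶ S⟦(1 : ℤ)⟧, IsFin (fun n => (inj n)⟦(1 : ℤ)⟧') g :=
    fun g => hK _ _ hS' g
  have hj : ∀ n, inj n ≫ π = f n ≫ inj (n + 1) ≫ π := by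
    intro n
    have h : (𝟙 S - σ) ≫ π = 0 := comp_distTriang_mor_zero₁₂ _ hT
    have h' : inj n ≫ (𝟙 S - σ) ≫ π = 0 := by rw [h, comp_zero]
    rw [Preadditive.sub_comp, Preadditive.comp_sub, Category.id_comp, ← Category.assoc, hσ,
      Category.assoc, sub_eq_zero] at h'
    exact h'
  constructor
  · intro x
    have hxδ : x ≫ δ = 0 := by
      have h31 : δ ≫ (𝟙 S - σ)⟦(1 : ℤ)⟧' = 0 := comp_distTriang_mor_zero₃₁ _ hT
      apply eq_zero_of_comp_one_sub (X := fun n => (X n)⟦(1 : ℤ)⟧) (fun n => (f n)⟦(1 : ℤ)⟧')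
        (fun n => (inj n)⟦(1 : ℤ)⟧') (fun n => (prj n)⟦(1 : ℤ)⟧') ?_ ?_ (σ⟦(1 : ℤ)⟧') ?_ (x ≫ δ)
        (hfin' _) ?_
      · intro n
        rw [← Functor.map_comp, h1, CategoryTheory.Functor.map_id]
      · intro m n h
        rw [← Functor.map_comp, h2 m n h, Functor.map_zero]
      · intro n
        rw [← Functor.map_comp, hσ, Functor.map_comp]
      · rw [Category.assoc]
        have : (𝟙 (S⟦(1 : ℤ)⟧) - σ⟦(1 : ℤ)⟧') = (𝟙 S - σ)⟦(1 : ℤ)⟧' := by
          rw [Functor.map_sub, CategoryTheory.Functor.map_id]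
        rw [this, h31, comp_zero]
    obtain ⟨(g' : K ⟶ S), hg'⟩ := Triangle.coyoneda_exact₃ _ hT x hxδ
    replace hg' : x = g' ≫ π := hg'
    obtain ⟨s, a, hs⟩ := hfin g'
    obtain ⟨N, hN⟩ : ∃ N, s ⊆ Finset.range (N + 1) :=
      ⟨s.sup id, fun n hn => Finset.mem_range.2 (Nat.lt_succ_of_le (Finset.le_sup (f := id) hn))⟩
    obtain ⟨b, hb⟩ := exists_factor_of_sum f (fun n => inj n ≫ π) hj
      (fun n => if n ∈ s then a n else 0) N
    refine ⟨N, b, ?_⟩
    rw [← hb, hg', hs, Preadditive.sum_comp]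
    rw [← Finset.sum_subset hN]
    · refine Finset.sum_congr rfl (fun n hn => ?_)
      rw [if_pos hn, Category.assoc]
    · intro n _ hn
      rw [if_neg hn, zero_comp]
  · intro n y hy
    have hy' : (y ≫ inj n) ≫ π = 0 := by rw [Category.assoc]; exact hy
    obtain ⟨(w : K ⟶ S), hw⟩ := Triangle.coyoneda_exact₂ _ hT (y ≫ inj n) hy'
    replace hw : y ≫ inj n = w ≫ (𝟙 S - σ) := hw
    have hwf := hfin w
    have E : ∀ m, w ≫ prj m = (y ≫ inj n) ≫ prj m + w ≫ σ ≫ prj m := by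
      intro m
      rw [hw, Preadditive.comp_sub, Category.comp_id, Preadditive.sub_comp, Category.assoc,
        sub_add_cancel]
    have E0 : w ≫ prj 0 = (y ≫ inj n) ≫ prj 0 := by
      rw [E 0, comp_σ_prj_zero f inj prj h2 σ hσ w hwf, add_zero]
    have ES : ∀ m, w ≫ prj (m + 1) = (y ≫ inj n) ≫ prj (m + 1) + (w ≫ prj m) ≫ f m := by
      intro m
      rw [E (m + 1), comp_σ_prj_succ f inj prj h1 h2 σ hσ w hwf m]
    have hlt : ∀ m, m < n → w ≫ prj m = 0 := by
      intro m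
      induction m with
      | zero =>
        intro h
        rw [E0, Category.assoc, h2 n 0 (by omega), comp_zero]
      | succ k ih =>
        intro h
        rw [ES k, ih (by omega), zero_comp, add_zero, Category.assoc, h2 n (k + 1) (by omega),
          comp_zero]
    have hn : w ≫ prj n = y := by
      rcases n with _ | k
      · rw [E0, Category.assoc, h1, Category.comp_id]
      · rw [ES k, hlt k (by omega), zero_comp, add_zero, Category.assoc, h1, Category.comp_id]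
    have hge : ∀ m (h : n ≤ m), w ≫ prj m = y ≫ t n m h := by
      intro m h
      induction m, h using Nat.le_induction with
      | base => rw [hn, t_self, Category.comp_id]
      | succ m h ih =>
        rw [ES m, ih, Category.assoc y, h2 n (m + 1) (by omega), comp_zero, zero_add,
          t_succ n m h, Category.assoc]
    obtain ⟨s, a, hs⟩ := hwf
    have hm : n ≤ max n (s.sup id + 1) := le_max_left _ _
    have hms : max n (s.sup id + 1) ∉ s := fun h => by
      have h3 : max n (s.sup id + 1) ≤ s.sup id := Finset.le_sup (f := id) h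
      have h4 : s.sup id + 1 ≤ max n (s.sup id + 1) := le_max_right _ _
      omega
    refine ⟨_, hm, ?_⟩
    rw [← hge _ hm]
    have := sum_comp_prj inj prj h1 h2 s a (max n (s.sup id + 1))
    rw [← hs, if_neg hms] at this
    exact this

end Main

end Groth.Agent.H6.Telescope
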