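import Mathlib
import Groth.Agent.S0477
import Groth.Agent.H6.DSum
import Groth.Agent.H6.ModCoprod
import Groth.Agent.H6.Telescope

/-!
# The telescope short exact sequence of a sequence of complexes of modules

For `L : ℕ ⥤ CochainComplex (ModuleCat R) ℤ` with colimit cocone `c`, the sequence
`0 ⟶ ∐ L n --(1 - σ)--> ∐ L n ⟶ c.pt ⟶ 0` is short exact; hence maps in `D(R)` from countably
compact objects to `c.pt` factor through a finite stage.
-/

set_option autoImplicit false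
universe w u
open CategoryTheory CategoryTheory.Limits

namespace Groth.Agent.H6.TeleCx

open DerivedCategory

variable {R : Type u} [Ring R] (L : ℕ ⥤ CochainComplex (ModuleCat.{u} R) ℤ)

/-- The family of complexes, indexed by a `u`-small type. -/
abbrev Kf : ULift.{u} ℕ → CochainComplex (ModuleCat.{u} R) ℤ := fun j => L.obj j.down

/-- The shift map on the coproduct. -/
noncomputable def σ₀ : ∐ (Kf L) ⟶ ∐ (Kf L) :=
  Sigma.desc (fun j => L.map (homOfLE (Nat.le_add_right j.down 1)) ≫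
    Sigma.ι (Kf L) ⟨j.down + 1⟩)

lemma ι_σ₀ (n : ℕ) : Sigma.ι (Kf L) ⟨n⟩ ≫ σ₀ L =
    L.map (homOfLE (Nat.le_add_right n 1)) ≫ Sigma.ι (Kf L) ⟨n + 1⟩ :=
  Sigma.ι_desc _ _

lemma σ₀_π_zero : σ₀ L ≫ Sigma.π (Kf L) ⟨0⟩ = 0 := by
  apply Sigma.hom_ext
  rintro ⟨n⟩
  have hne : (⟨n + 1⟩ : ULift.{u} ℕ) ≠ ⟨0⟩ := fun h => Nat.succ_ne_zero n (congrArg ULift.down h)
  rw [← Category.assoc, ι_σ₀, Category.assoc, Sigma.ι_π_of_ne (Kf L) hne, comp_zero, comp_zero]

lemma σ₀_π_succ (k : ℕ) : σ₀ L ≫ Sigma.π (Kf L) ⟨k + 1⟩ =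
    Sigma.π (Kf L) ⟨k⟩ ≫ L.map (homOfLE (Nat.le_add_right k 1)) := by
  apply Sigma.hom_ext
  rintro ⟨n⟩
  rw [← Category.assoc, ι_σ₀, Category.assoc]
  by_cases hn : n = k
  · subst hn
    rw [Sigma.ι_π_eq_id, Category.comp_id, Sigma.ι_π_eq_id_assoc]
  · have hn' : (⟨n + 1⟩ : ULift.{u} ℕ) ≠ ⟨k + 1⟩ :=
      fun h => hn (Nat.succ_injective (congrArg ULift.down h))
    have hn'' : (⟨n⟩ : ULift.{u} ℕ) ≠ ⟨k⟩ := fun h => hn (congrArg ULift.down h)
    rw [Sigma.ι_π_of_ne (Kf L) hn', comp_zero, Sigma.ι_π_of_ne_assoc (Kf L) hn'', zero_comp]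

variable (c : Cocone L)

/-- The canonical map from the coproduct to the colimit. -/
noncomputable def π₀ : ∐ (Kf L) ⟶ c.pt := Sigma.desc (fun j => c.ι.app j.down)

lemma ι_π₀ (n : ℕ) : Sigma.ι (Kf L) ⟨n⟩ ≫ π₀ L c = c.ι.app n := Sigma.ι_desc _ _

lemma one_sub_σ₀_π₀ : (𝟙 _ - σ₀ L) ≫ π₀ L c = 0 := by
  apply Sigma.hom_ext
  rintro ⟨n⟩
  rw [Preadditive.sub_comp, Preadditive.comp_sub, Category.id_comp, ← Category.assoc, ι_σ₀,
    Category.assoc, comp_zero, sub_eq_zero, ι_π₀, ι_π₀]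
  exact (c.w _).symm

lemma ι_comp_eq {Z : CochainComplex (ModuleCat.{u} R) ℤ} (g : ∐ (Kf L) ⟶ Z)
    (hg : (𝟙 _ - σ₀ L) ≫ g = 0) (n : ℕ) :
    L.map (homOfLE (Nat.le_add_right n 1)) ≫ Sigma.ι (Kf L) ⟨n + 1⟩ ≫ g =
      Sigma.ι (Kf L) ⟨n⟩ ≫ g := by
  have h : Sigma.ι (Kf L) ⟨n⟩ ≫ (𝟙 _ - σ₀ L) ≫ g = 0 := by rw [hg, comp_zero]
  rw [Preadditive.sub_comp, Preadditive.comp_sub, Category.id_comp, ← Category.assoc, ι_σ₀,
    Category.assoc, sub_eq_zero] at h
  exact h.symm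

/-- The cocone associated to a map killing `1 - σ`. -/
noncomputable def coconeOf {Z : CochainComplex (ModuleCat.{u} R) ℤ} (g : ∐ (Kf L) ⟶ Z)
    (hg : (𝟙 _ - σ₀ L) ≫ g = 0) : Cocone L where
  pt := Z
  ι := NatTrans.ofSequence (fun n => Sigma.ι (Kf L) ⟨n⟩ ≫ g) (fun n => by
    dsimp
    rw [Category.comp_id]
    exact ι_comp_eq L g hg n)

variable {c} (hc : IsColimit c)

/-- `π₀` is a cokernel of `1 - σ₀`. -/
noncomputable def isColimitCofork :
    IsColimit (CokernelCofork.ofπ (π₀ L c) (one_sub_σ₀_π₀ L c)) :=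
  CokernelCofork.IsColimit.ofπ _ _ (fun g hg => hc.desc (coconeOf L g hg))
    (fun g hg => by
      apply Sigma.hom_ext
      rintro ⟨n⟩
      rw [← Category.assoc, ι_π₀]
      exact hc.fac (coconeOf L g hg) n)
    (fun g hg m hm => by
      apply hc.uniq (coconeOf L g hg)
      intro n
      show c.ι.app n ≫ m = Sigma.ι (Kf L) ⟨n⟩ ≫ g
      rw [← hm, ← Category.assoc, ι_π₀])

/-- The telescope short complex. -/
noncomputable abbrev SC (c : Cocone L) : ShortComplex (CochainComplex (ModuleCat.{u} R) ℤ) :=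
  ShortComplex.mk (𝟙 _ - σ₀ L) (π₀ L c) (one_sub_σ₀_π₀ L c)

include hc in
lemma exact_SC : (SC L c).Exact :=
  ShortComplex.exact_of_g_is_cokernel _ (isColimitCofork L hc)

include hc in
lemma epi_π₀ : Epi (π₀ L c) :=
  epi_of_isColimit_cofork (isColimitCofork L hc)

lemma mono_one_sub_σ₀ : Mono (𝟙 (∐ (Kf L)) - σ₀ L) := by
  apply HomologicalComplex.mono_of_mono_f
  intro i
  rw [ModuleCat.mono_iff_injective]
  refine (injective_iff_map_eq_zero ((𝟙 (∐ (Kf L)) - σ₀ L).f i).hom).2 (fun z hz => ?_)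
  have hz' : ((σ₀ L).f i).hom z = z := by
    have := hz
    simp only [HomologicalComplex.sub_f_apply, HomologicalComplex.id_f, ModuleCat.hom_sub,
      ModuleCat.hom_id, LinearMap.sub_apply, LinearMap.id_apply] at this
    exact (sub_eq_zero.1 this).symm
  have e0 : (σ₀ L).f i ≫ (Sigma.π (Kf L) ⟨0⟩).f i = 0 := by
    rw [← HomologicalComplex.comp_f, σ₀_π_zero, HomologicalComplex.zero_f]
  have eS : ∀ n : ℕ, (σ₀ L).f i ≫ (Sigma.π (Kf L) ⟨n + 1⟩).f i =
      (Sigma.π (Kf L) ⟨n⟩).f i ≫ (L.map (homOfLE (Nat.le_add_right n 1))).f i := by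
    intro n
    rw [← HomologicalComplex.comp_f, σ₀_π_succ, HomologicalComplex.comp_f]
  apply ModCoprod.eq_zero_of_prj
    (Cofan.mk ((∐ (Kf L)).X i) (fun j => (Sigma.ι (Kf L) j).f i))
    (Groth.Agent.S0477.xIsColimit (Kf L) i) (fun j => (Sigma.π (Kf L) j).f i) ?_ ?_ z ?_
  · intro j
    show (Sigma.ι (Kf L) j).f i ≫ (Sigma.π (Kf L) j).f i = 𝟙 _
    rw [← HomologicalComplex.comp_f, Sigma.ι_π_eq_id, HomologicalComplex.id_f]
  · intro j k h
    show (Sigma.ι (Kf L) j).f i ≫ (Sigma.π (Kf L) k).f i = 0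
    rw [← HomologicalComplex.comp_f, Sigma.ι_π_of_ne _ h, HomologicalComplex.zero_f]
  · rintro ⟨n⟩
    induction n with
    | zero =>
      have := congrArg (fun φ => φ.hom z) e0
      simp only [ModuleCat.hom_comp, LinearMap.comp_apply, ModuleCat.hom_zero,
        LinearMap.zero_apply] at this
      rw [hz'] at this
      exact this
    | succ k ih =>
      have := congrArg (fun φ => φ.hom z) (eS k)
      simp only [ModuleCat.hom_comp, LinearMap.comp_apply] at this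
      rw [hz'] at this
      rw [this, ih, map_zero]

include hc in
lemma shortExact_SC : (SC L c).ShortExact :=
  { exact := exact_SC L hc
    mono_f := mono_one_sub_σ₀ L
    epi_g := epi_π₀ L hc }

variable [HasDerivedCategory.{w} (ModuleCat.{u} R)]

/-- Maps from a countably compact object of `D(R)` to a sequential colimit of complexes. -/
theorem main (K : DerivedCategory (ModuleCat.{u} R)) (hK : Telescope.CtblCompact K)
    {c : Cocone L} (hc : IsColimit c) :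
    (∀ x : K ⟶ Q.obj c.pt, ∃ (n : ℕ) (y : K ⟶ Q.obj (L.obj n)),
        y ≫ Q.map (c.ι.app n) = x) ∧
      (∀ (n : ℕ) (y : K ⟶ Q.obj (L.obj n)), y ≫ Q.map (c.ι.app n) = 0 →
        ∃ (m : ℕ) (h : n ≤ m), y ≫ Q.map (L.map (homOfLE h)) = 0) := by
  have hSE := shortExact_SC L hc
  have hdist := DerivedCategory.triangleOfSES_distinguished hSE
  have hT : Pretriangulated.Triangle.mk (Q.map (𝟙 (∐ (Kf L)) - σ₀ L)) (Q.map (π₀ L c))
      (triangleOfSESδ hSE) ∈ distTriang _ := hdist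
  have e : Q.map (𝟙 (∐ (Kf L)) - σ₀ L) = 𝟙 (Q.obj (∐ (Kf L))) - Q.map (σ₀ L) := by
    rw [Functor.map_sub, CategoryTheory.Functor.map_id]
  rw [e] at hT
  have hdn : Function.Bijective (fun n : ℕ => (⟨n⟩ : ULift.{u} ℕ)) :=
    ⟨fun a b h => congrArg ULift.down h, fun ⟨n⟩ => ⟨n, rfl⟩⟩
  have hιπ : ∀ n : ℕ, Q.map (Sigma.ι (Kf L) ⟨n⟩) ≫ Q.map (π₀ L c) = Q.map (c.ι.app n) :=
    fun n => by rw [← Functor.map_comp, ι_π₀]
  obtain ⟨H1, H2⟩ := Telescope.main K hK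
    (X := fun n => Q.obj (L.obj n))
    (fun n => Q.map (L.map (homOfLE (Nat.le_add_right n 1))))
    (fun n => Q.map (Sigma.ι (Kf L) ⟨n⟩)) (fun n => Q.map (Sigma.π (Kf L) ⟨n⟩))
    (DSum.isColimitQ' (Kf L) (fun n : ℕ => (⟨n⟩ : ULift.{u} ℕ)) hdn)
    (fun n => by rw [← Functor.map_comp, Sigma.ι_π_eq_id, CategoryTheory.Functor.map_id])
    (fun m n h => by
      have h' : (⟨m⟩ : ULift.{u} ℕ) ≠ ⟨n⟩ := fun h'' => h (congrArg ULift.down h'')
      rw [← Functor.map_comp, Sigma.ι_π_of_ne (Kf L) h', Functor.map_zero])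
    (Q.map (σ₀ L))
    (fun n => by rw [← Functor.map_comp, ι_σ₀, Functor.map_comp])
    (Q.map (π₀ L c)) (triangleOfSESδ hSE) hT
    (fun n m h => Q.map (L.map (homOfLE h)))
    (fun n h => by
      rw [Subsingleton.elim (homOfLE h) (𝟙 n), L.map_id, CategoryTheory.Functor.map_id])
    (fun n m h h' => by
      rw [Subsingleton.elim (homOfLE h') (homOfLE h ≫ homOfLE (Nat.le_add_right m 1)),
        L.map_comp, Functor.map_comp])
  constructor
  · intro x
    obtain ⟨n, y, hy⟩ := H1 x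
    exact ⟨n, y, by rw [← hιπ n]; exact hy⟩
  · intro n y hy
    exact H2 n y (by rw [hιπ n]; exact hy)

end Groth.Agent.H6.TeleCx
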