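import Mathlib
import Groth.Agent.S0476

/-!
# `Q : C(A) ⥤ D(A)` preserves coproducts (helper6 library)

For a Grothendieck abelian category `A` and a colimit cofan `c` of a family of cochain complexes
`E : J → CochainComplex A ℤ`, the cofan `Q(E j) ⟶ Q(c.pt)` is a colimit cofan in `D(A)`.

* `nonempty_homotopy` : maps out of a coproduct of complexes which are homotopic on each summand
  are homotopic (any abelian category).
* `exists_lift`, `homotopy_of_Q_map_eq`, `Q_map_eq_of_homotopy` : `Hom_{D(A)}(Q K, Q I)` for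
  K-injective `I`.
* `existsUnique_desc` : the universal property.
* `isColimitQCofan` : the colimit cofan in `D(A)`.
-/

set_option autoImplicit false
universe w v u
open CategoryTheory CategoryTheory.Limits DerivedCategory

namespace Groth.Agent.H6.QCoprod

variable {A : Type u} [Category.{v} A] [Abelian A]

section Homotopy

variable {J : Type*} [HasColimitsOfShape (Discrete J) A]
  {E : J → CochainComplex A ℤ} (c : Cofan E) (hc : IsColimit c) {I : CochainComplex A ℤ}

include hc in
/-- two maps out of a coproduct of complexes which are homotopic on each summand are homotopic -/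
theorem nonempty_homotopy (m₁ m₂ : c.pt ⟶ I)
    (hk : ∀ k, Homotopy (c.inj k ≫ m₁) (c.inj k ≫ m₂)) : Nonempty (Homotopy m₁ m₂) := by
  have hd : ∀ i : ℤ, IsColimit ((HomologicalComplex.eval A (ComplexShape.up ℤ) i).mapCocone c) :=
    fun i => isColimitOfPreserves _ hc
  let Hh : ∀ i j : ℤ, c.pt.X i ⟶ I.X j := fun i j =>
    (hd i).desc (Cocone.mk (I.X j) (Discrete.natTrans (fun k => (hk k.as).hom i j)))
  have fac : ∀ (i j : ℤ) (k : J), (c.inj k).f i ≫ Hh i j = (hk k).hom i j :=
    fun i j k => (hd i).fac _ ⟨k⟩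
  have ext : ∀ (i : ℤ) {T : A} (a b : c.pt.X i ⟶ T),
      (∀ k, (c.inj k).f i ≫ a = (c.inj k).f i ≫ b) → a = b :=
    fun i T a b h => (hd i).hom_ext (fun ⟨k⟩ => h k)
  refine ⟨{ hom := Hh, zero := ?_, comm := ?_ }⟩
  · intro i j hij
    apply ext i
    intro k
    rw [fac, comp_zero, (hk k).zero i j hij]
  · intro i
    apply ext i
    intro k
    have h1 := (hk k).comm i
    rw [dNext_eq _ (show (ComplexShape.up ℤ).Rel i (i + 1) from rfl),
      prevD_eq _ (show (ComplexShape.up ℤ).Rel (i - 1) i by simp)] at h1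
    rw [dNext_eq _ (show (ComplexShape.up ℤ).Rel i (i + 1) from rfl),
      prevD_eq _ (show (ComplexShape.up ℤ).Rel (i - 1) i by simp)]
    simp only [HomologicalComplex.comp_f] at h1
    have t1 : (c.inj k).f i ≫ c.pt.d i (i + 1) ≫ Hh (i + 1) i =
        (E k).d i (i + 1) ≫ (hk k).hom (i + 1) i := by
      rw [HomologicalComplex.Hom.comm_assoc, fac]
    have t2 : (c.inj k).f i ≫ Hh i (i - 1) ≫ I.d (i - 1) i =
        (hk k).hom i (i - 1) ≫ I.d (i - 1) i := by
      rw [← Category.assoc, fac]
    rw [Preadditive.comp_add, Preadditive.comp_add, t1, t2]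
    exact h1

end Homotopy

section Q

variable [HasDerivedCategory.{w} A]

theorem exists_lift (K I : CochainComplex A ℤ) [I.IsKInjective] (γ : Q.obj K ⟶ Q.obj I) :
    ∃ g : K ⟶ I, Q.map g = γ := by
  obtain ⟨g', hg'⟩ := (CochainComplex.IsKInjective.Qh_map_bijective
    ((HomotopyCategory.quotient A (ComplexShape.up ℤ)).obj K) I).surjective γ
  obtain ⟨g, rfl⟩ := (HomotopyCategory.quotient A (ComplexShape.up ℤ)).map_surjective g'
  exact ⟨g, hg'⟩

theorem homotopy_of_Q_map_eq (K I : CochainComplex A ℤ) [I.IsKInjective] (g₁ g₂ : K ⟶ I)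
    (h : Q.map g₁ = Q.map g₂) : Nonempty (Homotopy g₁ g₂) := by
  have h' : Qh.map ((HomotopyCategory.quotient A (ComplexShape.up ℤ)).map g₁) =
      Qh.map ((HomotopyCategory.quotient A (ComplexShape.up ℤ)).map g₂) := h
  have := (CochainComplex.IsKInjective.Qh_map_bijective
    ((HomotopyCategory.quotient A (ComplexShape.up ℤ)).obj K) I).injective h'
  exact ⟨HomotopyCategory.homotopyOfEq _ _ this⟩

theorem Q_map_eq_of_homotopy {K L : CochainComplex A ℤ} (g₁ g₂ : K ⟶ L) (h : Homotopy g₁ g₂) :
    Q.map g₁ = Q.map g₂ := by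
  show Qh.map ((HomotopyCategory.quotient A (ComplexShape.up ℤ)).map g₁) =
      Qh.map ((HomotopyCategory.quotient A (ComplexShape.up ℤ)).map g₂)
  rw [HomotopyCategory.eq_of_homotopy _ _ h]

variable [IsGrothendieckAbelian.{v} A]

theorem exists_model (Y : DerivedCategory A) :
    ∃ (I : CochainComplex A ℤ), I.IsKInjective ∧ Nonempty (Q.obj I ≅ Y) := by
  obtain ⟨I, φ, hI, hφ, -, -⟩ := Groth.Agent.S0476.result (Q.objPreimage Y)
  have := hφ
  exact ⟨I, hI, ⟨(asIso (Q.map φ)).symm ≪≫ Q.objObjPreimageIso Y⟩⟩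

variable {J : Type*} [HasColimitsOfShape (Discrete J) A]
  {E : J → CochainComplex A ℤ} (c : Cofan E) (hc : IsColimit c)

include hc in
theorem existsUnique_desc (Y : DerivedCategory A) (γ : ∀ j, Q.obj (E j) ⟶ Y) :
    ∃! m : Q.obj c.pt ⟶ Y, ∀ j, Q.map (c.inj j) ≫ m = γ j := by
  obtain ⟨I, hI, ⟨e⟩⟩ := exists_model Y
  have := hI
  have hg : ∀ j, ∃ g : E j ⟶ I, Q.map g = γ j ≫ e.inv := fun j => exists_lift _ _ _
  choose g hg using hg
  let G : c.pt ⟶ I := Cofan.IsColimit.desc hc g
  have hG : ∀ j, c.inj j ≫ G = g j := fun j => Cofan.IsColimit.fac hc g j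
  refine ⟨Q.map G ≫ e.hom, ?_, ?_⟩
  · intro j
    rw [← Category.assoc, ← Functor.map_comp, hG, hg, Category.assoc, Iso.inv_hom_id,
      Category.comp_id]
  · intro m hm
    obtain ⟨g', hg'⟩ := exists_lift c.pt I (m ≫ e.inv)
    have hh : ∀ k, Nonempty (Homotopy (c.inj k ≫ g') (c.inj k ≫ G)) := by
      intro k
      apply homotopy_of_Q_map_eq
      rw [Functor.map_comp, hg', hG, hg, ← Category.assoc, hm]
    obtain ⟨H⟩ := nonempty_homotopy c hc g' G (fun k => (hh k).some)
    have := Q_map_eq_of_homotopy g' G H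
    rw [← this, hg', Category.assoc, Iso.inv_hom_id, Category.comp_id]

/-- `Q` sends a coproduct of complexes to a coproduct in the derived category. -/
noncomputable def isColimitQCofan :
    IsColimit (Cofan.mk (Q.obj c.pt) (fun j => Q.map (c.inj j)) :
      Cofan (fun j => Q.obj (E j))) :=
  mkCofanColimit _
    (fun s => (existsUnique_desc c hc s.pt s.inj).exists.choose)
    (fun s j => (existsUnique_desc c hc s.pt s.inj).exists.choose_spec j)
    (fun s m hm => (existsUnique_desc c hc s.pt s.inj).unique hm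
      (existsUnique_desc c hc s.pt s.inj).exists.choose_spec)

end Q

end Groth.Agent.H6.QCoprod
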