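import Mathlib
import Groth.Prelude.Def_DRing2

/-!
# Ext from a pseudo-coherent complex into a module, computed by cocycles

For a bounded above complex `E` of finite free modules over a commutative ring `A`, every morphism
`Q E ⟶ M[p]` in `D(A)` is represented by a cocycle `E^{-p} → M`; this gives an `A`-linear surjection
`Φ : Z^{-p}(Hom(E, M)) → Hom_{D(A)}(Q E, M[p])`, natural in `M`.  Consequences over a Noetherian ring:
finiteness of `Hom(K, M[p])` for `K` pseudo-coherent and `M` finite, and the Artin–Rees type statement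
for the image of `Ext^p(K, IⁿM) → Ext^p(K, M)`.
-/

set_option autoImplicit false
universe u
open CategoryTheory CategoryTheory.Limits Pretriangulated
attribute [local instance] HasDerivedCategory.standard

namespace Groth.Agent.H6.ExtPC

open DerivedCategory

variable {A : Type u} [CommRing A]

section Algebra

lemma map_mem_smul_top {T T' : Type*} [AddCommGroup T] [Module A T] [AddCommGroup T'] [Module A T']
    (f : T →ₗ[A] T') (J : Ideal A) {x : T} (hx : x ∈ J • (⊤ : Submodule A T)) :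
    f x ∈ J • (⊤ : Submodule A T') := by
  have h : f x ∈ (J • (⊤ : Submodule A T)).map f := Submodule.mem_map_of_mem hx
  rw [Submodule.map_smul''] at h
  exact Submodule.smul_mono le_rfl le_top h

lemma map_mem_smul_top_of_mem_smul {H T : Type*} [AddCommGroup H] [Module A H] [AddCommGroup T]
    [Module A T] (Z : Submodule A H) (Φ : Z →ₗ[A] T) (J : Ideal A) (z : Z)
    (hz : (z : H) ∈ J • Z) : Φ z ∈ J • (⊤ : Submodule A T) := by
  have h1 : J • Z = (J • (⊤ : Submodule A Z)).map Z.subtype := by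
    rw [Submodule.map_smul'', Submodule.map_top, Submodule.range_subtype]
  rw [h1] at hz
  obtain ⟨z', hz', hzz⟩ := Submodule.mem_map.mp hz
  have : z' = z := Subtype.ext hzz
  subst this
  exact map_mem_smul_top Φ J hz'

lemma mem_smul_top_of_forall_mem {P M : Type u} [AddCommGroup P] [Module A P] [Module.Free A P]
    [Module.Finite A P] [AddCommGroup M] [Module A M] (J : Ideal A) (φ : P →ₗ[A] M)
    (h : ∀ x, φ x ∈ J • (⊤ : Submodule A M)) :
    φ ∈ J • (⊤ : Submodule A (P →ₗ[A] M)) := by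
  classical
  let b := Module.Free.chooseBasis A P
  have hsum : φ = ∑ i, (b.coord i).smulRight (φ (b i)) := by
    apply b.ext
    intro j
    rw [LinearMap.sum_apply, Finset.sum_eq_single j]
    · simp
    · intro i _ hij
      simp [Finsupp.single_apply, hij, hij.symm]
    · intro hj
      exact absurd (Finset.mem_univ j) hj
  rw [hsum]
  refine Submodule.sum_mem _ (fun i _ => ?_)
  let g : M →ₗ[A] (P →ₗ[A] M) :=
    { toFun := fun m => (b.coord i).smulRight m
      map_add' := by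
        intro m m'
        ext x
        simp [smul_add]
      map_smul' := by
        intro r m
        ext x
        simp only [LinearMap.smulRight_apply, LinearMap.smul_apply, RingHom.id_apply]
        exact smul_comm _ _ _ }
  exact map_mem_smul_top g J (h (b i))

lemma exists_pow_smul_top_eq_bot {T : Type*} [AddCommGroup T] [Module A T] [Module.Finite A T]
    (I : Ideal A) (h : ∀ e : T, ∃ n : ℕ, ∀ x ∈ I ^ n, x • e = 0) :
    ∃ n0 : ℕ, I ^ n0 • (⊤ : Submodule A T) = ⊥ := by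
  classical
  obtain ⟨s, hs⟩ := (Module.Finite.fg_top : (⊤ : Submodule A T).FG)
  choose n hn using h
  refine ⟨s.sup n, ?_⟩
  rw [eq_bot_iff, ← hs, Submodule.smul_le]
  intro x hx e he
  rw [Submodule.mem_bot]
  refine Submodule.span_induction (p := fun e _ => x • e = 0) ?_ ?_ ?_ ?_ he
  · intro y hy
    exact hn y x (Ideal.pow_le_pow_right (Finset.le_sup hy) hx)
  · exact smul_zero x
  · intro y z _ _ hy hz
    rw [smul_add, hy, hz, add_zero]
  · intro a y _ hy
    rw [smul_comm, hy, smul_zero]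

end Algebra

section Shift

variable {C : Type*} [Category C] [Preadditive C] [HasZeroObject C] [HasShift C ℤ]
  [∀ n : ℤ, (shiftFunctor C n).Additive] [Pretriangulated C]

lemma exact₂_shift (T : Triangle C) (hT : T ∈ distTriang C) (n : ℤ) {X : C}
    (f : X ⟶ T.obj₂⟦n⟧) (hf : f ≫ T.mor₂⟦n⟧' = 0) :
    ∃ g : X ⟶ T.obj₁⟦n⟧, f = g ≫ T.mor₁⟦n⟧' := by
  have hT' := Triangle.shift_distinguished T hT n
  obtain ⟨g, hg⟩ : ∃ g : X ⟶ T.obj₁⟦n⟧, f = g ≫ (n.negOnePow • T.mor₁⟦n⟧') :=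
    Triangle.coyoneda_exact₂ _ hT' f (by
      show f ≫ (n.negOnePow • T.mor₂⟦n⟧') = 0
      rw [Linear.comp_units_smul, hf, smul_zero])
  refine ⟨n.negOnePow • g, ?_⟩
  rw [hg, Linear.comp_units_smul, Linear.units_smul_comp]

lemma exact₃_shift (T : Triangle C) (hT : T ∈ distTriang C) (n : ℤ) {X : C}
    (f : X ⟶ T.obj₃⟦n⟧) (hf : f ≫ T.mor₃⟦n⟧' = 0) :
    ∃ g : X ⟶ T.obj₂⟦n⟧, f = g ≫ T.mor₂⟦n⟧' := by
  have hT' := Triangle.shift_distinguished T hT n
  obtain ⟨g, hg⟩ : ∃ g : X ⟶ T.obj₂⟦n⟧, f = g ≫ (n.negOnePow • T.mor₂⟦n⟧') :=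
    Triangle.coyoneda_exact₃ _ hT' f (by
      show f ≫ (n.negOnePow • (T.mor₃⟦n⟧' ≫ (shiftFunctorComm C 1 n).hom.app T.obj₁)) = 0
      rw [Linear.comp_units_smul, ← Category.assoc, hf, zero_comp, smul_zero])
  refine ⟨n.negOnePow • g, ?_⟩
  rw [hg, Linear.comp_units_smul, Linear.units_smul_comp]

end Shift

section Cx

lemma exists_Q_map_eq (E₁ E₂ : CochainComplex (ModuleCat.{u} A) ℤ) [E₁.IsKProjective]
    (f : Q.obj E₁ ⟶ Q.obj E₂) : ∃ φ : E₁ ⟶ E₂, Q.map φ = f := by
  obtain ⟨g', hg'⟩ := (CochainComplex.IsKProjective.Qh_map_bijective E₁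
    ((HomotopyCategory.quotient (ModuleCat.{u} A) (ComplexShape.up ℤ)).obj E₂)).surjective
    ((quotientCompQhIso (ModuleCat.{u} A)).hom.app E₁ ≫ f ≫
      (quotientCompQhIso (ModuleCat.{u} A)).inv.app E₂)
  obtain ⟨φ, rfl⟩ :=
    (HomotopyCategory.quotient (ModuleCat.{u} A) (ComplexShape.up ℤ)).map_surjective g'
  refine ⟨φ, ?_⟩
  have nat := (quotientCompQhIso (ModuleCat.{u} A)).hom.naturality φ
  have h1 : (HomotopyCategory.quotient (ModuleCat.{u} A) (ComplexShape.up ℤ) ⋙ Qh).map φ =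
      Qh.map ((HomotopyCategory.quotient (ModuleCat.{u} A) (ComplexShape.up ℤ)).map φ) := rfl
  rw [← cancel_epi ((quotientCompQhIso (ModuleCat.{u} A)).hom.app E₁), ← nat, h1, hg',
    Category.assoc, Category.assoc, Iso.inv_hom_id_app, Category.comp_id]

/-- `M` placed in degree `q`, in `D(A)`, is `M[0]` shifted by `p = -q`. -/
noncomputable def θ (p q : ℤ) (h : p + q = 0) :
    DerivedCategory.singleFunctor (ModuleCat.{u} A) q ≅
      DerivedCategory.singleFunctor (ModuleCat.{u} A) 0 ⋙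
        shiftFunctor (DerivedCategory (ModuleCat.{u} A)) p :=
  ((DerivedCategory.singleFunctors (ModuleCat.{u} A)).shiftIso p q 0 h).symm

/-- `θ` on objects, with source written as the image under `Q` of a single complex. -/
noncomputable def θapp (p q : ℤ) (h : p + q = 0) (N : ModuleCat.{u} A) :
    Q.obj ((HomologicalComplex.single (ModuleCat.{u} A) (ComplexShape.up ℤ) q).obj N) ⟶
      ((DerivedCategory.singleFunctor (ModuleCat.{u} A) 0).obj N)⟦p⟧ :=
  (θ p q h).hom.app N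

/-- The inverse of `θapp`. -/
noncomputable def θinv (p q : ℤ) (h : p + q = 0) (N : ModuleCat.{u} A) :
    ((DerivedCategory.singleFunctor (ModuleCat.{u} A) 0).obj N)⟦p⟧ ⟶
      Q.obj ((HomologicalComplex.single (ModuleCat.{u} A) (ComplexShape.up ℤ) q).obj N) :=
  (θ p q h).inv.app N

lemma θinv_θapp (p q : ℤ) (h : p + q = 0) (N : ModuleCat.{u} A) :
    θinv p q h N ≫ θapp p q h N = 𝟙 _ :=
  (θ p q h).inv_hom_id_app N

lemma θapp_naturality (p q : ℤ) (h : p + q = 0) {N N' : ModuleCat.{u} A} (g : N ⟶ N') :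
    Q.map ((HomologicalComplex.single (ModuleCat.{u} A) (ComplexShape.up ℤ) q).map g) ≫
        θapp p q h N' =
      θapp p q h N ≫ ((DerivedCategory.singleFunctor (ModuleCat.{u} A) 0).map g)⟦p⟧' :=
  (θ p q h).hom.naturality g

variable (E : CochainComplex (ModuleCat.{u} A) ℤ) (q : ℤ)

/-- From chain maps `E ⟶ N[-q]` (as a single complex in degree `q`) to `Hom_{D(A)}(Q E, N[0][p])`. -/
noncomputable def Ψ (p : ℤ) (h : p + q = 0) (N : ModuleCat.{u} A)
    (f : E ⟶ (HomologicalComplex.single (ModuleCat.{u} A) (ComplexShape.up ℤ) q).obj N) :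
    Q.obj E ⟶ ((DerivedCategory.singleFunctor (ModuleCat.{u} A) 0).obj N)⟦p⟧ :=
  Q.map f ≫ θapp p q h N

lemma Ψ_add (p : ℤ) (h : p + q = 0) (N : ModuleCat.{u} A)
    (f g : E ⟶ (HomologicalComplex.single (ModuleCat.{u} A) (ComplexShape.up ℤ) q).obj N) :
    Ψ E q p h N (f + g) = Ψ E q p h N f + Ψ E q p h N g := by
  simp only [Ψ, Functor.map_add, Preadditive.add_comp]

lemma Ψ_smul (p : ℤ) (h : p + q = 0) (N : ModuleCat.{u} A) (r : A)
    (f : E ⟶ (HomologicalComplex.single (ModuleCat.{u} A) (ComplexShape.up ℤ) q).obj N) :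
    Ψ E q p h N (r • f) = r • Ψ E q p h N f := by
  simp only [Ψ, Functor.map_smul, Linear.smul_comp]

lemma Ψ_comp (p : ℤ) (h : p + q = 0) {N N' : ModuleCat.{u} A} (g : N ⟶ N')
    (f : E ⟶ (HomologicalComplex.single (ModuleCat.{u} A) (ComplexShape.up ℤ) q).obj N) :
    Ψ E q p h N' (f ≫ (HomologicalComplex.single (ModuleCat.{u} A) (ComplexShape.up ℤ) q).map g) =
      Ψ E q p h N f ≫ ((DerivedCategory.singleFunctor (ModuleCat.{u} A) 0).map g)⟦p⟧' := by
  simp only [Ψ, Functor.map_comp, Category.assoc]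
  rw [θapp_naturality]

lemma Ψ_surjective [E.IsKProjective] (p : ℤ) (h : p + q = 0) (N : ModuleCat.{u} A) :
    Function.Surjective (Ψ E q p h N) := by
  intro e
  obtain ⟨f, hf⟩ := exists_Q_map_eq E
    ((HomologicalComplex.single (ModuleCat.{u} A) (ComplexShape.up ℤ) q).obj N)
    (e ≫ θinv p q h N)
  refine ⟨f, ?_⟩
  simp only [Ψ, hf, Category.assoc, θinv_θapp, Category.comp_id]

/-- Degree `q` cocycles of `Hom(E, M)`. -/
def Z (M : Type u) [AddCommGroup M] [Module A M] : Submodule A (E.X q →ₗ[A] M) :=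
  LinearMap.ker (LinearMap.lcomp A M (E.d (q - 1) q).hom)

lemma mem_Z {M : Type u} [AddCommGroup M] [Module A M] (φ : E.X q →ₗ[A] M) :
    φ ∈ Z E q M ↔ φ ∘ₗ (E.d (q - 1) q).hom = 0 := by
  rw [Z, LinearMap.mem_ker, LinearMap.lcomp_apply']

lemma d_comp_ofHom {M : Type u} [AddCommGroup M] [Module A M] (φ : E.X q →ₗ[A] M)
    (hφ : φ ∈ Z E q M) : E.d (q - 1) q ≫ ModuleCat.ofHom φ = 0 := by
  apply ModuleCat.hom_ext
  exact (mem_Z E q φ).mp hφ

/-- The chain map attached to a cocycle. -/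
noncomputable def toCx {M : Type u} [AddCommGroup M] [Module A M] (φ : E.X q →ₗ[A] M)
    (hφ : φ ∈ Z E q M) :
    E ⟶ (HomologicalComplex.single (ModuleCat.{u} A) (ComplexShape.up ℤ) q).obj
      (ModuleCat.of A M) :=
  HomologicalComplex.mkHomToSingle (ModuleCat.ofHom φ) (by
    intro i hi
    obtain rfl : i = q - 1 := by
      have : i + 1 = q := hi
      omega
    exact d_comp_ofHom E q φ hφ)

lemma toCx_f {M : Type u} [AddCommGroup M] [Module A M] (φ : E.X q →ₗ[A] M)
    (hφ : φ ∈ Z E q M) :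
    (toCx E q φ hφ).f q = ModuleCat.ofHom φ ≫
      (HomologicalComplex.singleObjXSelf (ComplexShape.up ℤ) q (ModuleCat.of A M)).inv :=
  HomologicalComplex.mkHomToSingle_f _ _

/-- The `A`-linear map from cocycles to morphisms in the derived category. -/
noncomputable def Φ (p : ℤ) (h : p + q = 0) (M : Type u) [AddCommGroup M] [Module A M] :
    Z E q M →ₗ[A] (Q.obj E ⟶ (Dual.inD A M)⟦p⟧) where
  toFun φ := Ψ E q p h (ModuleCat.of A M) (toCx E q φ.1 φ.2)
  map_add' := by
    intro φ ψ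
    have hc : toCx E q (φ + ψ).1 (φ + ψ).2 = toCx E q φ.1 φ.2 + toCx E q ψ.1 ψ.2 := by
      apply HomologicalComplex.to_single_hom_ext
      rw [HomologicalComplex.add_f_apply, toCx_f, toCx_f, toCx_f, ← Preadditive.add_comp]
      congr 1
    rw [hc, Ψ_add]
  map_smul' := by
    intro r φ
    have hc : toCx E q (r • φ).1 (r • φ).2 = r • toCx E q φ.1 φ.2 := by
      apply HomologicalComplex.to_single_hom_ext
      rw [HomologicalComplex.smul_f_apply, toCx_f, toCx_f, ← Linear.smul_comp]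
      congr 1
    rw [hc, Ψ_smul]
    rfl

lemma Φ_apply (p : ℤ) (h : p + q = 0) (M : Type u) [AddCommGroup M] [Module A M]
    (φ : Z E q M) : Φ E q p h M φ = Ψ E q p h (ModuleCat.of A M) (toCx E q φ.1 φ.2) := rfl

lemma Φ_comp (p : ℤ) (h : p + q = 0) {M M' : Type u} [AddCommGroup M] [Module A M]
    [AddCommGroup M'] [Module A M'] (g : M →ₗ[A] M') (φ : Z E q M)
    (hgφ : g ∘ₗ φ.1 ∈ Z E q M') :
    Φ E q p h M' ⟨g ∘ₗ φ.1, hgφ⟩ =
      Φ E q p h M φ ≫
        ((DerivedCategory.singleFunctor (ModuleCat.{u} A) 0).map (ModuleCat.ofHom g))⟦p⟧' := by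
  have hc : toCx E q (g ∘ₗ φ.1) hgφ = toCx E q φ.1 φ.2 ≫
      (HomologicalComplex.single (ModuleCat.{u} A) (ComplexShape.up ℤ) q).map
        (ModuleCat.ofHom g) := by
    apply HomologicalComplex.to_single_hom_ext
    rw [HomologicalComplex.comp_f, toCx_f, toCx_f, HomologicalComplex.single_map_f_self,
      ModuleCat.ofHom_comp]
    simp only [Category.assoc, Iso.inv_hom_id_assoc]
  rw [Φ_apply, Φ_apply]
  simp only [hc]
  exact Ψ_comp E q p h (ModuleCat.ofHom g) _

lemma Φ_surjective [E.IsKProjective] (p : ℤ) (h : p + q = 0) (M : Type u) [AddCommGroup M]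
    [Module A M] : Function.Surjective (Φ E q p h M) := by
  intro e
  obtain ⟨f, hf⟩ := Ψ_surjective E q p h (ModuleCat.of A M) e
  have h0 : E.d (q - 1) q ≫ (f.f q ≫
      (HomologicalComplex.singleObjXSelf (ComplexShape.up ℤ) q (ModuleCat.of A M)).hom) = 0 := by
    rw [← Category.assoc, ← f.comm, HomologicalComplex.single_obj_d, comp_zero, zero_comp]
  let φ : E.X q →ₗ[A] M := (f.f q ≫
      (HomologicalComplex.singleObjXSelf (ComplexShape.up ℤ) q (ModuleCat.of A M)).hom).hom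
  have hφ : φ ∈ Z E q M := by
    rw [mem_Z]
    exact congrArg ModuleCat.Hom.hom h0
  refine ⟨⟨φ, hφ⟩, ?_⟩
  have hc : toCx E q φ hφ = f := by
    apply HomologicalComplex.to_single_hom_ext
    rw [toCx_f]
    show ModuleCat.ofHom (f.f q ≫
      (HomologicalComplex.singleObjXSelf (ComplexShape.up ℤ) q (ModuleCat.of A M)).hom).hom ≫ _ = _
    rw [ModuleCat.ofHom_hom, Category.assoc, Iso.hom_inv_id, Category.comp_id]
  rw [Φ_apply]
  simp only [hc, hf]

end Cx

section Main

variable [IsNoetherianRing A]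

/-- The data of a pseudo-coherent object gives a K-projective complex. -/
lemma isKProjective_of (E : DRing.Cx A) (b : ℤ) (hb : DRing.VanishesAbove E b)
    (hE : DRing.TermwiseFiniteFree E) : E.IsKProjective := by
  haveI : E.IsStrictlyLE b := by
    rw [CochainComplex.isStrictlyLE_iff]
    intro i hi
    exact hb i hi
  haveI : ∀ n, Projective (E.X n) := fun n => by
    haveI : Module.Free A (E.X n) := (hE n).2
    have hp : Module.Projective A (E.X n) := Module.Projective.of_free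
    exact (IsProjective.iff_projective _).mp hp
  exact CochainComplex.isKProjective_of_projective E b

/-- `Ext^p(K, M)` is a finite module for `K` pseudo-coherent and `M` finite over a Noetherian ring. -/
theorem finite_hom (K : Dual.D A) (hK : DRing.IsPseudoCoherent' A K)
    (M : Type u) [AddCommGroup M] [Module A M] [Module.Finite A M] (p : ℤ) :
    Module.Finite A (K ⟶ (Dual.inD A M)⟦p⟧) := by
  obtain ⟨E, b, hb, hE, ⟨α⟩⟩ := hK
  haveI := isKProjective_of E b hb hE
  have h : p + (-p) = 0 := by omega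
  haveI : Module.Finite A (E.X (-p)) := (hE (-p)).1
  haveI : Module.Free A (E.X (-p)) := (hE (-p)).2
  let f : Z E (-p) M →ₗ[A] (K ⟶ (Dual.inD A M)⟦p⟧) :=
    (Linear.leftComp A ((Dual.inD A M)⟦p⟧) α.inv) ∘ₗ (Φ E (-p) p h M)
  have hf : Function.Surjective f := by
    intro e
    obtain ⟨φ, hφ⟩ := Φ_surjective E (-p) p h M (α.hom ≫ e)
    refine ⟨φ, ?_⟩
    show α.inv ≫ Φ E (-p) p h M φ = e
    rw [hφ, Iso.inv_hom_id_assoc]
  exact Module.Finite.of_surjective f hf

/-- Artin–Rees for `Ext` out of a pseudo-coherent complex. -/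
theorem pow_image (I : Ideal A) (K : Dual.D A) (hK : DRing.IsPseudoCoherent' A K)
    (M : Type u) [AddCommGroup M] [Module A M] [Module.Finite A M] (p : ℤ) :
    ∃ c : ℕ, ∀ n : ℕ, c ≤ n →
      ∀ e : K ⟶ (Dual.inD A ↥(I ^ n • ⊤ : Submodule A M))⟦p⟧,
        e ≫ ((DerivedCategory.singleFunctor (ModuleCat.{u} A) 0).map
              (ModuleCat.ofHom (I ^ n • ⊤ : Submodule A M).subtype))⟦p⟧' ∈
          (I ^ (n - c) • ⊤ : Submodule A (K ⟶ (Dual.inD A M)⟦p⟧)) := by
  obtain ⟨E, b, hb, hE, ⟨α⟩⟩ := hK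
  haveI := isKProjective_of E b hb hE
  have h : p + (-p) = 0 := by omega
  haveI : Module.Finite A (E.X (-p)) := (hE (-p)).1
  haveI : Module.Free A (E.X (-p)) := (hE (-p)).2
  obtain ⟨k, hk⟩ := Ideal.exists_pow_inf_eq_pow_smul I (Z E (-p) M)
  refine ⟨k, fun n hn e => ?_⟩
  obtain ⟨φ, hφ⟩ := Φ_surjective E (-p) p h ↥(I ^ n • ⊤ : Submodule A M) (α.hom ≫ e)
  have hψZ : (I ^ n • ⊤ : Submodule A M).subtype ∘ₗ φ.1 ∈ Z E (-p) M := by
    rw [mem_Z, LinearMap.comp_assoc, (mem_Z E (-p) φ.1).mp φ.2, LinearMap.comp_zero]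
  have hψI : (I ^ n • ⊤ : Submodule A M).subtype ∘ₗ φ.1 ∈
      I ^ n • (⊤ : Submodule A (E.X (-p) →ₗ[A] M)) :=
    mem_smul_top_of_forall_mem (I ^ n) _ (fun x => (φ.1 x).2)
  have hmem : (I ^ n • ⊤ : Submodule A M).subtype ∘ₗ φ.1 ∈ I ^ (n - k) • Z E (-p) M := by
    have h2 : (I ^ n • ⊤ : Submodule A M).subtype ∘ₗ φ.1 ∈
        I ^ n • (⊤ : Submodule A (E.X (-p) →ₗ[A] M)) ⊓ Z E (-p) M := ⟨hψI, hψZ⟩
    rw [hk n hn] at h2
    exact Submodule.smul_mono le_rfl inf_le_right h2
  have h1 := map_mem_smul_top_of_mem_smul (Z E (-p) M) (Φ E (-p) p h M) (I ^ (n - k))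
    ⟨_, hψZ⟩ hmem
  rw [Φ_comp E (-p) p h _ φ hψZ, hφ] at h1
  have h2 := map_mem_smul_top (Linear.leftComp A ((Dual.inD A M)⟦p⟧) α.inv) (I ^ (n - k)) h1
  have h3 : (Linear.leftComp A ((Dual.inD A M)⟦p⟧) α.inv)
      ((α.hom ≫ e) ≫ ((DerivedCategory.singleFunctor (ModuleCat.{u} A) 0).map
        (ModuleCat.ofHom (I ^ n • ⊤ : Submodule A M).subtype))⟦p⟧') =
      e ≫ ((DerivedCategory.singleFunctor (ModuleCat.{u} A) 0).map
        (ModuleCat.ofHom (I ^ n • ⊤ : Submodule A M).subtype))⟦p⟧' := by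
    show α.inv ≫ (α.hom ≫ e) ≫ _ = _
    rw [Category.assoc, Iso.inv_hom_id_assoc]
  rw [h3] at h2
  exact h2

end Main

end Groth.Agent.H6.ExtPC
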