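import Mathlib
import Groth.Prelude.Def_DRing2
import Groth.Prelude.Def_CohDer
import Groth.Agent.S0477
import Groth.Agent.H6.DSum
import Groth.Agent.H6.ModCoprod
import Groth.Agent.H6.Telescope
import Groth.Agent.H6.Compact
import Groth.Agent.H6.ExtPC

/-!
# Compact objects of `D(R)`, part 1: small compactness, perfect complexes are compact
-/

set_option autoImplicit false
universe w w' v' u' u
open CategoryTheory CategoryTheory.Limits

namespace Groth.Agent.H6.CompactPerf

section General

variable {D : Type u'} [Category.{v'} D] [Preadditive D]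

/-- Compactness with respect to coproducts indexed by types in `Type w`, in terms of finite
factorizations. -/
def SmallCompact (K : D) : Prop :=
  ∀ (I : Type w) (X : I → D) (c : Cofan X), IsColimit c → DSum.FinFac K c

lemma finFac_of_isColimit {I : Type*} {X : I → D} {K : D} (c₁ c₂ : Cofan X) (h₁ : IsColimit c₁)
    (h₂ : IsColimit c₂) (h : DSum.FinFac K c₁) : DSum.FinFac K c₂ := by
  intro g
  let e : c₁.pt ≅ c₂.pt := h₁.coconePointUniqueUpToIso h₂
  have he : ∀ i, c₁.inj i ≫ e.hom = c₂.inj i :=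
    fun i => h₁.comp_coconePointUniqueUpToIso_hom h₂ ⟨i⟩
  obtain ⟨s, a, hs⟩ := h (g ≫ e.inv)
  refine ⟨s, a, ?_⟩
  have h0 : g = (g ≫ e.inv) ≫ e.hom := by rw [Category.assoc, e.inv_hom_id, Category.comp_id]
  rw [h0, hs, Preadditive.sum_comp]
  refine Finset.sum_congr rfl (fun i _ => ?_)
  rw [Category.assoc, he]

/-- Transport of a colimit cofan along isomorphisms of the summands. -/
def isColimitOfFamilyIso {I : Type*} {X X' : I → D} (c : Cofan X) (ε : ∀ i, X' i ≅ X i)
    (hc : IsColimit c) :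
    IsColimit (Cofan.mk c.pt (fun i => (ε i).hom ≫ c.inj i) : Cofan X') :=
  Cofan.IsColimit.mk _ (fun t => Cofan.IsColimit.desc hc (fun i => (ε i).inv ≫ t.inj i))
    (fun t i => by
      show ((ε i).hom ≫ c.inj i) ≫ _ = t.inj i
      rw [Category.assoc, Cofan.IsColimit.fac, Iso.hom_inv_id_assoc])
    (fun t m hm => Cofan.IsColimit.hom_ext hc _ _ (fun i => by
      rw [Cofan.IsColimit.fac]
      have h := hm i
      replace h : ((ε i).hom ≫ c.inj i) ≫ m = t.inj i := h
      rw [← h, Category.assoc, Iso.inv_hom_id_assoc]))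

lemma finFac_of_familyIso {I : Type*} {X X' : I → D} {K : D} (c : Cofan X) (ε : ∀ i, X' i ≅ X i)
    (h : DSum.FinFac K (Cofan.mk c.pt (fun i => (ε i).hom ≫ c.inj i) : Cofan X')) :
    DSum.FinFac K c := by
  intro g
  obtain ⟨s, a, hs⟩ := h g
  refine ⟨s, fun i => a i ≫ (ε i).hom, ?_⟩
  replace hs : g = ∑ i ∈ s, a i ≫ (ε i).hom ≫ c.inj i := hs
  rw [hs]
  refine Finset.sum_congr rfl (fun i _ => ?_)
  rw [Category.assoc]

lemma finFac_of_iso_src {I : Type*} {X : I → D} {K K' : D} {c : Cofan X} (e : K ≅ K')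
    (h : DSum.FinFac K c) : DSum.FinFac K' c := by
  intro g
  obtain ⟨s, a, hs⟩ := h (e.hom ≫ g)
  refine ⟨s, fun i => e.inv ≫ a i, ?_⟩
  have h0 : g = e.inv ≫ e.hom ≫ g := by rw [Iso.inv_hom_id_assoc]
  rw [h0, hs, Preadditive.comp_sum]
  refine Finset.sum_congr rfl (fun i _ => ?_)
  rw [Category.assoc]

lemma smallCompact_of_iso {K K' : D} (e : K ≅ K') (h : SmallCompact.{w} K) :
    SmallCompact.{w} K' :=
  fun I X c hc => finFac_of_iso_src e (h I X c hc)

/-- Reindexing a colimit cofan over `ULift I` to `I`. -/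
def isColimitDown {I : Type w'} {X : I → D} (c : Cofan (fun i : ULift.{w} I => X i.down))
    (hc : IsColimit c) : IsColimit (Cofan.mk c.pt (fun i : I => c.inj ⟨i⟩) : Cofan X) :=
  Cofan.IsColimit.mk _ (fun t => Cofan.IsColimit.desc hc (fun j => t.inj j.down))
    (fun t i => Cofan.IsColimit.fac hc (fun j => t.inj j.down) ⟨i⟩)
    (fun t m hm => Cofan.IsColimit.hom_ext hc _ _ (fun j => by
      rw [Cofan.IsColimit.fac]
      exact hm j.down))

lemma finFac_up (K : D) {I : Type w'} {X : I → D} (c : Cofan (fun i : ULift.{w} I => X i.down))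
    (h : DSum.FinFac K (Cofan.mk c.pt (fun i : I => c.inj ⟨i⟩) : Cofan X)) :
    DSum.FinFac K c := by
  classical
  intro g
  obtain ⟨s, a, hs⟩ := h g
  refine ⟨s.map ⟨ULift.up, ULift.up_injective⟩, fun j => a j.down, ?_⟩
  rw [Finset.sum_map]
  exact hs

lemma bijective_of_finFac (K : D) {ι : Type v'} (X : ι → D) [HasCoproduct X]
    (h : DSum.FinFac K (Cofan.mk (∐ X) (Sigma.ι X))) :
    Function.Bijective (CohDer.homSumToHomCoprod K X) := by
  constructor
  · rw [injective_iff_map_eq_zero]
    intro x hx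
    refine DFinsupp.ext (fun i => ?_)
    rw [← Groth.Agent.H6.homSumToHomCoprod_comp_sigmaπ x i, hx, Limits.zero_comp]
    rfl
  · intro f
    classical
    obtain ⟨s, a, hs⟩ := h f
    refine ⟨∑ i ∈ s, DirectSum.of (fun i => K ⟶ X i) i (a i), ?_⟩
    rw [map_sum, hs]
    refine Finset.sum_congr rfl (fun i _ => ?_)
    exact Groth.Agent.H6.homSumToHomCoprod_of i (a i)

lemma ctblCompact_of_smallCompact [HasZeroObject D] [HasShift D ℤ]
    [∀ n : ℤ, (shiftFunctor D n).Additive] [Pretriangulated D] {K : D}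
    (h : SmallCompact.{w} K) : Telescope.CtblCompact K :=
  fun X c hc => DSum.finFac_of_ulift.{w} K c
    (h (ULift.{w} ℕ) (fun i => X i.down) _ (DSum.isColimitULift.{w} c hc))

end General

section DRing

open DRing DerivedCategory
attribute [local instance] HasDerivedCategory.standard

variable {R : Type u} [CommRing R]

lemma kprojective_of_projective (G : Cx R) (b : ℤ) (hb : VanishesAbove G b)
    (hproj : ∀ i, Module.Projective R (G.X i)) : G.IsKProjective := by
  have : G.IsStrictlyLE b := by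
    rw [CochainComplex.isStrictlyLE_iff]
    intro i hi
    exact hb i hi
  have : ∀ n, Projective (G.X n) := fun n => by
    have hp : Module.Projective R (G.X n) := hproj n
    exact (IsProjective.iff_projective _).mp hp
  exact CochainComplex.isKProjective_of_projective G b

/-- Maps from a bounded complex of finite modules (K-projective) to a coproduct of complexes are
finite sums. -/
lemma finFac_Q_of_bounded_finite (E : Cx R) (a b : ℤ) (hE : VanishesOutside E a b)
    (hfin : ∀ i, Module.Finite R (E.X i)) [E.IsKProjective] {I : Type u} (Y : I → Cx R) :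
    DSum.FinFac (Q.obj E) (Cofan.mk (Q.obj (∐ Y)) (fun i => Q.map (Sigma.ι Y i)) :
      Cofan (fun i => Q.obj (Y i))) := by
  classical
  intro g
  obtain ⟨γ, rfl⟩ := ExtPC.exists_Q_map_eq E (∐ Y) g
  have h1 : ∀ (i : ℤ) (j : I), (Sigma.ι Y j).f i ≫ (Sigma.π Y j).f i = 𝟙 _ := fun i j => by
    rw [← HomologicalComplex.comp_f, Sigma.ι_π_eq_id, HomologicalComplex.id_f]
  have h2 : ∀ (i : ℤ) (j k : I), j ≠ k → (Sigma.ι Y j).f i ≫ (Sigma.π Y k).f i = 0 :=
    fun i j k h => by
      rw [← HomologicalComplex.comp_f, Sigma.ι_π_of_ne _ h, HomologicalComplex.zero_f]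
  have key : ∀ i : ℤ, ∃ s : Finset I, ∀ j, j ∉ s → γ.f i ≫ (Sigma.π Y j).f i = 0 := by
    intro i
    have := hfin i
    exact ModCoprod.exists_finset_of_fg
      (Cofan.mk ((∐ Y).X i) (fun j => (Sigma.ι Y j).f i))
      (Groth.Agent.S0477.xIsColimit Y i) (fun j => (Sigma.π Y j).f i) (h1 i) (h2 i) (E.X i)
      (γ.f i)
  choose s hs using key
  have hS : ∀ j, j ∉ (Finset.Icc a b).biUnion s → γ ≫ Sigma.π Y j = 0 := by
    intro j hj
    refine HomologicalComplex.hom_ext _ _ (fun i => ?_)
    by_cases hi : a ≤ i ∧ i ≤ b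
    · have : j ∉ s i := fun h => hj (Finset.mem_biUnion.2 ⟨i, Finset.mem_Icc.2 hi, h⟩)
      rw [HomologicalComplex.comp_f, hs i j this, HomologicalComplex.zero_f]
    · have hz : IsZero (E.X i) := hE i (by omega)
      exact hz.eq_of_src _ _
  have hsum : γ = ∑ j ∈ (Finset.Icc a b).biUnion s, (γ ≫ Sigma.π Y j) ≫ Sigma.ι Y j := by
    rw [← sub_eq_zero]
    refine HomologicalComplex.hom_ext _ _ (fun i => ?_)
    rw [HomologicalComplex.zero_f]
    apply ModCoprod.hom_eq_zero_of_prj
      (Cofan.mk ((∐ Y).X i) (fun j => (Sigma.ι Y j).f i))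
      (Groth.Agent.S0477.xIsColimit Y i) (fun j => (Sigma.π Y j).f i) (h1 i) (h2 i)
    intro k
    rw [← HomologicalComplex.comp_f, Preadditive.sub_comp,
      Telescope.sum_comp_prj (Sigma.ι Y) (Sigma.π Y) (fun j => Sigma.ι_π_eq_id Y j)
        (fun j k h => Sigma.ι_π_of_ne Y h) _ (fun j => γ ≫ Sigma.π Y j) k]
    by_cases hk : k ∈ (Finset.Icc a b).biUnion s
    · rw [if_pos hk, sub_self, HomologicalComplex.zero_f]
    · rw [if_neg hk, sub_zero, hS k hk, HomologicalComplex.zero_f]
  refine ⟨(Finset.Icc a b).biUnion s, fun j => Q.map (γ ≫ Sigma.π Y j), ?_⟩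
  conv_lhs => rw [hsum]
  rw [Functor.map_sum]
  refine Finset.sum_congr rfl (fun j _ => ?_)
  rw [Functor.map_comp]
  rfl

/-- Perfect complexes are compact. -/
theorem smallCompact_of_isPerfect {K : Dual.D R} (h : IsPerfect R K) : SmallCompact.{u} K := by
  obtain ⟨E, a, b, hv, hp, ⟨e⟩⟩ := h
  intro I X c hc
  haveI : E.IsKProjective := kprojective_of_projective E b (fun i hi => hv i (Or.inr hi))
    (fun i => (hp i).2)
  have hc' := isColimitOfFamilyIso c (fun i => Q.objObjPreimageIso (X i)) hc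
  have hQ := DSum.isColimitQ' (fun i => Q.objPreimage (X i)) (fun i : I => i)
    Function.bijective_id
  have h1 := finFac_Q_of_bounded_finite E a b hv (fun i => (hp i).1)
    (fun i => Q.objPreimage (X i))
  have h2 := finFac_of_isColimit _ _ hQ hc' h1
  exact finFac_of_iso_src e (finFac_of_familyIso c _ h2)

theorem bijective_of_smallCompact {K : Dual.D R} (hK : SmallCompact.{u} K) (I : Type u)
    (X : I → Dual.D R) [HasCoproduct fun i : ULift.{u + 1} I => X i.down] :
    Function.Bijective (CohDer.homSumToHomCoprod K (fun i : ULift.{u + 1} I => X i.down)) := by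
  apply bijective_of_finFac
  apply finFac_up
  exact hK I X _ (isColimitDown _ (coproductIsCoproduct _))

theorem smallCompact_of_bijective (K : Dual.D R)
    (hK : ∀ (I : Type u) (E : I → Dual.D R) [HasCoproduct fun i : ULift.{u + 1} I => E i.down],
      Function.Bijective (CohDer.homSumToHomCoprod K (fun i : ULift.{u + 1} I => E i.down))) :
    SmallCompact.{u} K :=
  fun I X c hc => DSum.finFac_of_ulift.{u + 1} K c
    (DSum.finFac_of_surjective K (fun i : ULift.{u + 1} I => X i.down) _
      (DSum.isColimitULift.{u + 1} c hc) (fun {_} => (hK I X).2))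

end DRing

end Groth.Agent.H6.CompactPerf
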