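import Mathlib
import Groth.Agent.H28.LpullLoc2
import Groth.Agent.H90.QCohHom
import Groth.Agent.S0997
import Groth.Agent.S9498
import Groth.Agent.H31.LpullTilde
import Groth.Agent.H53.LBaseChange
import Groth.Agent.H31.LocalD
import Groth.Prelude.Def_CxOX

/-!
# Derived pullback preserves `D_QCoh` (helper6 library)

* `hasLBaseChange φ` : `DRing.HasLBaseChange φ` for every ring map.
* `isQCoh_of_locally_fromSpec` : quasi-coherence can be checked on affine charts `Spec Γ(X, W) ⟶ X`.
* `sqIso` : `(f^* M)|_U ≅ s^* (M|_V)` for a commutative square with open immersions `U ⟶ Y`, `V ⟶ X`.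
* `isKFlat_restrict` : restriction along an open immersion preserves K-flatness.
* `isQCoh_homology_pullback_affine` : for `Spec B ⟶ Spec A` and a K-flat complex with quasi-coherent
  cohomology on `Spec A`, the termwise pullback has quasi-coherent cohomology.
* `isQCoh_homology_pullback` : same for an arbitrary morphism of schemes.
* `isQCohD_Lpull` : `Lf^*` preserves `D_QCoh` (= S1054).
-/

set_option autoImplicit false
universe u
open CategoryTheory CategoryTheory.Limits AlgebraicGeometry TopologicalSpace Opposite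
attribute [local instance] HasDerivedCategory.standard

namespace Groth.Agent.H6.LpullQCoh

open Groth.Agent.H31 Groth.Agent.H31.Stalk Groth.Agent.H28.LpullLoc

/-- Derived base change along a ring map exists. -/
theorem hasLBaseChange {A B : Type u} [CommRing A] [CommRing B] (φ : A →+* B) :
    DRing.HasLBaseChange φ := by
  have := KFlatRing.hasExactColimitsOfShape_nat (R := A)
  refine hasLeftDerivedFunctor_kflat (T := MonoidalCategory.curriedTensor (ModuleCat.{u} A))
    KFlatRing.tensorLike (DRing.baseChangeKh φ) ?_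
  intro P' Q' α hP' hQ' hα
  show IsIso (DerivedCategory.Qh.map
    (((ModuleCat.extendScalars.{u, u, u} φ).mapHomotopyCategory (ComplexShape.up ℤ)).map
      ((HomotopyCategory.quotient _ _).map α)))
  rw [DerivedCategory.isIso_Qh_map_iff]
  change HomotopyCategory.quasiIso _ _ ((HomotopyCategory.quotient _ _).map
    (((ModuleCat.extendScalars.{u, u, u} φ).mapHomologicalComplex _).map α))
  rw [HomotopyCategory.quotient_map_mem_quasiIso_iff, HomologicalComplex.mem_quasiIso_iff]
  exact Groth.Agent.H53.LBaseChange.quasiIso_extCx_map φ α hα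
    ((KFlatRing.isKFlat_iff _).2 hP') ((KFlatRing.isKFlat_iff _).2 hQ')

variable {X Y : Scheme.{u}}

/-- Quasi-coherence is invariant under isomorphism (explicit form). -/
theorem qc_of_iso {M N : X.Modules} (e : M ≅ N) (h : M.IsQuasicoherent) : N.IsQuasicoherent :=
  @Groth.Agent.H22.QCohLimits.isQuasicoherent_of_iso _ _ _ e h

/-- Quasi-coherence can be checked on the affine charts `Spec Γ(X, W) ⟶ X`. -/
theorem isQCoh_of_locally_fromSpec (M : X.Modules)
    (h : ∀ x : X, ∃ (W : X.Opens) (hW : IsAffineOpen W), x ∈ W ∧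
      (M.restrict hW.fromSpec).IsQuasicoherent) :
    M.IsQuasicoherent := by
  refine Groth.Agent.H90.QH.isQCoh_of_locally M (fun x => ?_)
  obtain ⟨W, hW, hxW, hq⟩ := h x
  refine ⟨W, hxW, ?_⟩
  have := hq
  have e : W.ι = hW.isoSpec.hom ≫ hW.fromSpec := hW.isoSpec_hom_fromSpec.symm
  have i1 : M.restrict W.ι ≅ (M.restrict hW.fromSpec).restrict hW.isoSpec.hom :=
    (Scheme.Modules.restrictFunctorCongr e).app M ≪≫
      (Scheme.Modules.restrictFunctorComp hW.isoSpec.hom hW.fromSpec).app M
  exact Groth.Agent.H22.QCohLimits.isQuasicoherent_of_iso i1.symm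

/-- `(f^* M)|_U ≅ s^* (M|_V)` for a commutative square `s ≫ b = a ≫ f` with `a`, `b` open
immersions, as an isomorphism of functors. -/
noncomputable def sqIso {U V : Scheme.{u}} (f : Y ⟶ X) (a : U ⟶ Y) (b : V ⟶ X) (s : U ⟶ V)
    [IsOpenImmersion a] [IsOpenImmersion b] (h : s ≫ b = a ≫ f) :
    Scheme.Modules.pullback f ⋙ Scheme.Modules.restrictFunctor a ≅
      Scheme.Modules.restrictFunctor b ⋙ Scheme.Modules.pullback s :=
  Functor.isoWhiskerLeft _ (Scheme.Modules.restrictFunctorIsoPullback a) ≪≫
    Scheme.Modules.pullbackComp a f ≪≫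
    Scheme.Modules.pullbackCongr h.symm ≪≫
    (Scheme.Modules.pullbackComp s b).symm ≪≫
    Functor.isoWhiskerRight (Scheme.Modules.restrictFunctorIsoPullback b).symm _

/-- Restriction along an open immersion preserves K-flatness. -/
theorem isKFlat_restrict {U : Scheme.{u}} (j : U ⟶ X) [IsOpenImmersion j]
    (F : CochainComplex X.Modules ℤ) (hF : DCoh.IsKFlat F) :
    DCoh.IsKFlat
      (((Scheme.Modules.restrictFunctor j).mapHomologicalComplex (ComplexShape.up ℤ)).obj F) :=
  isKFlat_of_iso ((NatIso.mapHomologicalComplex (Scheme.Modules.restrictFunctorIsoPullback j)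
    (ComplexShape.up ℤ)).app F).symm (isKFlat_pullback j F hF)

/-- Affine case: for `Spec B ⟶ Spec A` and a K-flat complex on `Spec A` with quasi-coherent
cohomology, the termwise pullback has quasi-coherent cohomology. -/
theorem isQCoh_homology_pullback_affine {A B : Type u} [CommRing A] [CommRing B] (φ : A →+* B)
    (F' : CochainComplex (Spec (CommRingCat.of A)).Modules ℤ) (hF' : DCoh.IsKFlat F')
    (hq : ∀ j : ℤ, (F'.homology j).IsQuasicoherent) (i : ℤ) :
    ((((Scheme.Modules.pullback (Spec.map (CommRingCat.ofHom φ))).mapHomologicalComplex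
      (ComplexShape.up ℤ)).obj F').homology i).IsQuasicoherent := by
  have instA : PreservesFiniteLimits (tilde.functor (CommRingCat.of A)) :=
    (Groth.Agent.S9498.key (CommRingCat.of A)).1
  have instB : PreservesFiniteLimits (tilde.functor (CommRingCat.of B)) :=
    (Groth.Agent.S9498.key (CommRingCat.of B)).1
  have : DRing.HasLBaseChange φ := hasLBaseChange φ
  have : DCoh.HasLpull (Spec.map (CommRingCat.ofHom φ)) := hasLpull _
  have h1 : DCoh.IsQCohD (X := Spec (CommRingCat.of A)) (DerivedCategory.Q.obj F') := fun j =>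
    qc_of_iso ((DerivedCategory.homologyFunctorFactors _ j).app F').symm (hq j)
  obtain ⟨M, ⟨eM⟩⟩ := ((Groth.Agent.S0997.result (CommRingCat.of A)).2.2
    (DerivedCategory.Q.obj F')).1 h1
  let N := (DRing.LBaseChange φ).obj M
  have h5 : DCoh.IsQCohD (X := Spec (CommRingCat.of B))
      ((DCoh.tildeD (CommRingCat.of B)).obj N) :=
    ((Groth.Agent.S0997.result (CommRingCat.of B)).2.2 _).2 ⟨N, ⟨Iso.refl _⟩⟩
  let e : (DCoh.tildeD (CommRingCat.of B)).obj N ≅
      DerivedCategory.Q.obj (((Scheme.Modules.pullback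
        (Spec.map (CommRingCat.ofHom φ))).mapHomologicalComplex (ComplexShape.up ℤ)).obj F') :=
    (LBaseChangeTildeIso φ).app M ≪≫
      (DCoh.Lpull (Spec.map (CommRingCat.ofHom φ))).mapIso eM ≪≫
      LpullObjIso (Spec.map (CommRingCat.ofHom φ)) F' hF'
  exact qc_of_iso ((DerivedCategory.homologyFunctor _ i).mapIso e ≪≫
      (DerivedCategory.homologyFunctorFactors _ i).app _) (h5 i)

/-- For a K-flat complex `F` with quasi-coherent cohomology, the termwise pullback `f^* F` has
quasi-coherent cohomology. -/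
theorem isQCoh_homology_pullback (f : Y ⟶ X) (F : CochainComplex X.Modules ℤ)
    (hF : DCoh.IsKFlat F) (hFq : ∀ j : ℤ, (F.homology j).IsQuasicoherent) (i : ℤ) :
    ((((Scheme.Modules.pullback f).mapHomologicalComplex (ComplexShape.up ℤ)).obj F).homology
      i).IsQuasicoherent := by
  refine isQCoh_of_locally_fromSpec _ (fun y => ?_)
  obtain ⟨V, hV, hyV, -⟩ :=
    exists_isAffineOpen_mem_and_subset (x := f.base y) (U := ⊤) trivial
  obtain ⟨W, hW, hyW, hWV'⟩ :=
    exists_isAffineOpen_mem_and_subset (x := y) (U := f ⁻¹ᵁ V) hyV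
  have hWV : W ≤ f ⁻¹ᵁ V := fun _ ha => hWV' ha
  refine ⟨W, hW, hyW, ?_⟩
  have hsq : Spec.map (f.appLE V W hWV) ≫ hV.fromSpec = hW.fromSpec ≫ f :=
    IsAffineOpen.SpecMap_appLE_fromSpec f hV hW hWV
  let G := ((Scheme.Modules.pullback f).mapHomologicalComplex (ComplexShape.up ℤ)).obj F
  let F' := ((Scheme.Modules.restrictFunctor hV.fromSpec).mapHomologicalComplex
    (ComplexShape.up ℤ)).obj F
  have hF' : DCoh.IsKFlat F' := isKFlat_restrict hV.fromSpec F hF
  have hq' : ∀ j : ℤ, (F'.homology j).IsQuasicoherent := fun j => by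
    have h0 : ((Scheme.Modules.restrictFunctor hV.fromSpec).obj (F.homology j)).IsQuasicoherent := by
      have := hFq j
      infer_instance
    exact qc_of_iso
      ((LocalD.mapHCHomologyIso (Scheme.Modules.restrictFunctor hV.fromSpec) j).app F).symm h0
  have h1 := isQCoh_homology_pullback_affine (f.appLE V W hWV).hom F' hF' hq' i
  let e1 : ((Scheme.Modules.pullback (Spec.map (f.appLE V W hWV))).mapHomologicalComplex
        (ComplexShape.up ℤ)).obj F' ≅
      ((Scheme.Modules.restrictFunctor hW.fromSpec).mapHomologicalComplex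
        (ComplexShape.up ℤ)).obj G :=
    ((NatIso.mapHomologicalComplex (sqIso f hW.fromSpec hV.fromSpec _ hsq)
      (ComplexShape.up ℤ)).app F).symm
  exact qc_of_iso ((HomologicalComplex.homologyFunctor _ _ i).mapIso e1 ≪≫
      (LocalD.mapHCHomologyIso (Scheme.Modules.restrictFunctor hW.fromSpec) i).app G) h1

/-- `Lf^*` preserves `D_QCoh`. -/
theorem isQCohD_Lpull (f : Y ⟶ X) [DCoh.HasLpull f] (K : DCoh.D X) (hK : DCoh.IsQCohD K) :
    DCoh.IsQCohD ((DCoh.Lpull f).obj K) := by
  obtain ⟨F, hF, ⟨eF⟩⟩ := exists_kflat_rep K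
  intro i
  have hFq : ∀ j : ℤ, (F.homology j).IsQuasicoherent := fun j =>
    qc_of_iso ((DerivedCategory.homologyFunctor _ j).mapIso eF.symm ≪≫
        (DerivedCategory.homologyFunctorFactors _ j).app F) (hK j)
  exact qc_of_iso ((DerivedCategory.homologyFunctor _ i).mapIso
      ((DCoh.Lpull f).mapIso eF.symm ≪≫ LpullObjIso f F hF) ≪≫
      (DerivedCategory.homologyFunctorFactors _ i).app _).symm
    (isQCoh_homology_pullback f F hF hFq i)

end Groth.Agent.H6.LpullQCoh
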