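import Mathlib
import Groth.Agent.H5.SpSeq.GrothSS
import Groth.Agent.H30.QcohFive

/-!
# Dévissage for right derived functors on `D⁺` (helper6)

For `S : A ⥤ B` additive (`A` with enough injectives), a weak Serre class `P` of objects of `B`
and a class `G` of objects of `A` (containing zero objects, closed under isomorphisms) such that
`RᵖS(M) ∈ P` for `M ∈ G` and all `p`: for every `X ∈ D⁺(A)` with all `H^q(X) ∈ G`,
`Hⁿ(R⁺S(X)) ∈ P` for all `n`.  (Induction on truncations, using helper5's `Phi S` and helper30's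
five-term lemma; no spectral sequence needed.)
-/

set_option autoImplicit false
universe w w' v v' u u'

open CategoryTheory Limits Pretriangulated
open Groth.Agent.H45.RDP Groth.Agent.H5.GSS

namespace Groth.Agent.H6.PlusDev

/-- A class of objects of an abelian category closed under zero objects, isomorphisms, kernels,
cokernels and extensions. -/
structure WeakSerre {B : Type u'} [Category.{v'} B] [Abelian B] (P : B → Prop) : Prop where
  zero : ∀ X : B, IsZero X → P X
  iso : ∀ {X Y : B}, (X ≅ Y) → P X → P Y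
  ker : ∀ {X Y : B} (f : X ⟶ Y), P X → P Y → P (kernel f)
  coker : ∀ {X Y : B} (f : X ⟶ Y), P X → P Y → P (cokernel f)
  ext : ∀ (T : ShortComplex B), T.ShortExact → P T.X₁ → P T.X₃ → P T.X₂

theorem WeakSerre.and {B : Type u'} [Category.{v'} B] [Abelian B] {P Q : B → Prop}
    (hP : WeakSerre P) (hQ : WeakSerre Q) : WeakSerre (fun X => P X ∧ Q X) where
  zero X hX := ⟨hP.zero X hX, hQ.zero X hX⟩
  iso e h := ⟨hP.iso e h.1, hQ.iso e h.2⟩
  ker f h h' := ⟨hP.ker f h.1 h'.1, hQ.ker f h.2 h'.2⟩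
  coker f h h' := ⟨hP.coker f h.1 h'.1, hQ.coker f h.2 h'.2⟩
  ext T hT h h' := ⟨hP.ext T hT h.1 h'.1, hQ.ext T hT h.2 h'.2⟩

theorem WeakSerre.five {B : Type u'} [Category.{v'} B] [Abelian B] {P : B → Prop}
    (hP : WeakSerre P) {X₁ X₂ X₃ X₄ X₅ : B}
    (f₁ : X₁ ⟶ X₂) (f₂ : X₂ ⟶ X₃) (f₃ : X₃ ⟶ X₄) (f₄ : X₄ ⟶ X₅)
    (w₁ : f₁ ≫ f₂ = 0) (w₂ : f₂ ≫ f₃ = 0) (w₃ : f₃ ≫ f₄ = 0)
    (e₁ : (ShortComplex.mk f₁ f₂ w₁).Exact) (e₂ : (ShortComplex.mk f₂ f₃ w₂).Exact)
    (e₃ : (ShortComplex.mk f₃ f₄ w₃).Exact)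
    (h₁ : P X₁) (h₂ : P X₂) (h₄ : P X₄) (h₅ : P X₅) : P X₃ :=
  Groth.Agent.H30.QcohFive.mem_of_exact_five P (fun e h => hP.iso e h)
    (fun f h h' => hP.ker f h h') (fun f h h' => hP.coker f h h')
    (fun T hT h h' => hP.ext T hT h h') f₁ f₂ f₃ f₄ w₁ w₂ w₃ e₁ e₂ e₃ h₁ h₂ h₄ h₅

section Dev

variable {A : Type u} [Category.{v} A] [Abelian A] [HasDerivedCategory.{w} A] [EnoughInjectives A]
  {B : Type u'} [Category.{v'} B] [Abelian B] [HasDerivedCategory.{w'} B]
  (S : A ⥤ B) [S.Additive]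

attribute [local instance] Groth.Agent.H42.RDPlus.commShift

/-- `R⁺S` is triangulated (helper42). -/
local instance instTri : S.rightDerivedFunctorPlus.IsTriangulated :=
  Groth.Agent.H42.RDPlus.isTriangulated S

variable {P : B → Prop} (hP : WeakSerre P) (G : A → Prop) (hG0 : ∀ M : A, IsZero M → G M)
  (hGiso : ∀ {M N : A}, (M ≅ N) → G M → G N)
  (hGP : ∀ M : A, G M → ∀ p : ℤ, P ((RnF S p).obj M))

include hG0 hGiso in
theorem good_truncGE (X : DerivedCategory.Plus A)
    (hX : ∀ q : ℤ, G ((DerivedCategory.Plus.homologyFunctor A q).obj X)) (b q : ℤ) :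
    G ((DerivedCategory.Plus.homologyFunctor A q).obj (((tP A).truncGE b).obj X)) := by
  by_cases hq : q < b
  · exact hG0 _ (DerivedCategory.Plus.isZero_homology_of_isGE _ b q hq)
  · have h2 : IsIso (((DerivedCategory.Plus.homologyFunctor A 0).shift q).map
        (((tP A).truncGEπ b).app X)) := by
      refine isIso_map_mor₂ (DerivedCategory.Plus.homologyFunctor A 0)
        (((tP A).triangleLTGE b).obj X) ((tP A).triangleLTGE_distinguished b X)
        q (q + 1) rfl ?_ ?_
      · exact DerivedCategory.Plus.isZero_homology_of_isLE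
          (((tP A).triangleLTGE b).obj X).obj₁ (b - 1) q (by omega)
      · exact DerivedCategory.Plus.isZero_homology_of_isLE
          (((tP A).triangleLTGE b).obj X).obj₁ (b - 1) (q + 1) (by omega)
    exact hGiso (@asIso _ _ _ _ _ h2) (hX q)

include hP hGiso hGP in
theorem P_truncLT (a : ℤ) (X : DerivedCategory.Plus A) [X.IsGE a]
    (hX : ∀ q : ℤ, G ((DerivedCategory.Plus.homologyFunctor A q).obj X)) (n : ℤ) :
    P (((Phi S).shift n).obj (((tP A).truncLT (a + 1)).obj X)) := by
  let Z : DerivedCategory.Plus A := ((tP A).truncLT (a + 1)).obj X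
  have : Z.IsGE a := inferInstanceAs ((((tP A).truncLT (a + 1)).obj X).IsGE a)
  have : Z.IsLE a := inferInstanceAs ((((tP A).truncLT (a + 1)).obj X).IsLE a)
  obtain ⟨e1⟩ := nonempty_iso_single Z a
  have h1 : IsIso (((DerivedCategory.Plus.homologyFunctor A 0).shift a).map
      (((tP A).truncLTι (a + 1)).app X)) := by
    refine isIso_map_mor₁ (DerivedCategory.Plus.homologyFunctor A 0)
      (((tP A).triangleLTGE (a + 1)).obj X) ((tP A).triangleLTGE_distinguished (a + 1) X)
      (a - 1) a (by omega) ?_ ?_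
    · exact DerivedCategory.Plus.isZero_homology_of_isGE
        (((tP A).triangleLTGE (a + 1)).obj X).obj₃ (a + 1) (a - 1) (by omega)
    · exact DerivedCategory.Plus.isZero_homology_of_isGE
        (((tP A).triangleLTGE (a + 1)).obj X).obj₃ (a + 1) a (by omega)
  have hGZ : G ((DerivedCategory.Plus.homologyFunctor A a).obj Z) :=
    hGiso (@asIso _ _ _ _ _ h1).symm (hX a)
  obtain ⟨e4⟩ := nonempty_Phi_single_iso S
    ((DerivedCategory.Plus.homologyFunctor A a).obj Z) (n - a) a
  have hn : n - a + a = n := by omega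
  rw [hn] at e4
  exact hP.iso (((Phi S).shift n).mapIso e1 ≪≫ e4).symm (hGP _ hGZ (n - a))

include hP hG0 hGiso hGP in
theorem aux (k : ℕ) : ∀ (a : ℤ) (X : DerivedCategory.Plus A) [X.IsGE a],
    (∀ q : ℤ, G ((DerivedCategory.Plus.homologyFunctor A q).obj X)) →
    ∀ n : ℤ, n < a + (k : ℤ) → P (((Phi S).shift n).obj X) := by
  induction k with
  | zero =>
    intro a X _ _ n hn
    exact hP.zero _ (isZero_Phi_of_isGE S X a n (by simpa using hn))
  | succ k ih =>
    intro a X _ hX n hn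
    let T := ((tP A).triangleLTGE (a + 1)).obj X
    have hT : T ∈ distTriang _ := (tP A).triangleLTGE_distinguished (a + 1) X
    have h1 : ∀ m : ℤ, P (((Phi S).shift m).obj T.obj₁) := fun m =>
      P_truncLT S hP G hGiso hGP a X hX m
    have : (((tP A).truncGE (a + 1)).obj X).IsGE (a + 1) := inferInstance
    have h3 : ∀ m : ℤ, m < a + 1 + (k : ℤ) → P (((Phi S).shift m).obj T.obj₃) := fun m hm =>
      ih (a + 1) (((tP A).truncGE (a + 1)).obj X)
        (fun q => good_truncGE G hG0 hGiso X hX (a + 1) q) m hm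
    have hn' : n < a + 1 + (k : ℤ) := by push_cast at hn; omega
    exact hP.five ((Phi S).homologySequenceδ T (n - 1) n (by omega))
      (((Phi S).shift n).map T.mor₁) (((Phi S).shift n).map T.mor₂)
      ((Phi S).homologySequenceδ T n (n + 1) rfl)
      ((Phi S).homologySequenceδ_comp T hT (n - 1) n (by omega))
      ((Phi S).homologySequence_comp T hT n)
      ((Phi S).comp_homologySequenceδ T hT n (n + 1) rfl)
      ((Phi S).homologySequence_exact₁ T hT (n - 1) n (by omega))
      ((Phi S).homologySequence_exact₂ T hT n)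
      ((Phi S).homologySequence_exact₃ T hT n (n + 1) rfl)
      (h3 (n - 1) (by omega)) (h1 n) (h3 n hn') (h1 (n + 1))

include hP hG0 hGiso hGP in
/-- **Dévissage**: `Hⁿ(R⁺S(X)) ∈ P` if all `H^q(X) ∈ G`. -/
theorem main (X : DerivedCategory.Plus A)
    (hX : ∀ q : ℤ, G ((DerivedCategory.Plus.homologyFunctor A q).obj X)) (n : ℤ) :
    P (((Phi S).shift n).obj X) := by
  obtain ⟨a, ha⟩ := X.property
  have : X.IsGE a := ⟨ha.1⟩
  have hk : n < a + (((n - a + 1).toNat : ℕ) : ℤ) := by omega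
  exact aux S hP G hG0 hGiso hGP _ a X hX n hk

include hP hG0 hGiso hGP in
/-- Same, phrased with `DerivedCategory.Plus.homologyFunctor B n` of `R⁺S(X)`. -/
theorem main' (X : DerivedCategory.Plus A)
    (hX : ∀ q : ℤ, G ((DerivedCategory.Plus.homologyFunctor A q).obj X)) (n : ℤ) :
    P ((DerivedCategory.Plus.homologyFunctor B n).obj (S.rightDerivedFunctorPlus.obj X)) :=
  main S hP G hG0 hGiso hGP X hX n

end Dev

end Groth.Agent.H6.PlusDev
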