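import Mathlib
import Groth.Agent.S0476
import Groth.Agent.H5.KInj.DerivedAdj

/-!
# Cohomological bounds for unbounded total right derived functors

`A` Grothendieck abelian, `F : A ⥤ B` additive, `RF : D(A) ⥤ D(B)` a total right derived functor of
`F` (unit `β`).

* `mapExtendIso` : `F` commutes with `HomologicalComplex.extend`.
* `nonempty_modelIso` : `RF (Q I) ≅ Q (F I)` for `I` K-injective.
* `isZero_of_lt` : `H^j E = 0` for `j < a` implies `H^i (RF E) = 0` for `i < a`.
* `isZero_obj₂_of_distTriang` : vanishing of `H^i ∘ RF` on the outer terms of a distinguished triangle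
  implies vanishing on the middle term.
* `isZero_of_single` : if `E` is concentrated in degree `n`, `H^{n+p}(RF E) = 0` as soon as
  `R^pF (H^n E) = 0`.
* `bounds` : the amplitude estimate.
-/

set_option autoImplicit false
universe w w' v u v' u'
open CategoryTheory Limits

namespace Groth.Agent.H6.RFBound

section ExtendMap

variable {ι ι' : Type*} {c : ComplexShape ι} {c' : ComplexShape ι'}
  {C : Type u} [Category.{v} C] [Abelian C] {D : Type u'} [Category.{v'} D] [Abelian D]
  (F : C ⥤ D) [F.Additive] (K : HomologicalComplex C c) (e : c.Embedding c')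

/-- Termwise comparison. -/
noncomputable def xIso : ∀ (x : Option ι),
    F.obj (HomologicalComplex.extend.X K x) ≅
      HomologicalComplex.extend.X ((F.mapHomologicalComplex c).obj K) x
  | some _ => Iso.refl _
  | none => IsZero.iso (F.map_isZero (HomologicalComplex.extend.isZero_X K rfl))
      (HomologicalComplex.extend.isZero_X _ rfl)

lemma xIso_comm : ∀ (x y : Option ι),
    F.map (HomologicalComplex.extend.d K x y) ≫ (xIso F K y).hom =
      (xIso F K x).hom ≫ HomologicalComplex.extend.d ((F.mapHomologicalComplex c).obj K) x y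
  | none, _ => by
      apply IsZero.eq_of_src
      exact F.map_isZero (HomologicalComplex.extend.isZero_X K rfl)
  | some i, some j => by
      show F.map (K.d i j) ≫ 𝟙 _ = 𝟙 _ ≫ F.map (K.d i j)
      rw [Category.comp_id, Category.id_comp]
  | some _, none => by
      apply IsZero.eq_of_tgt
      exact HomologicalComplex.extend.isZero_X _ rfl

/-- An additive functor commutes with the extension of complexes by zero. -/
noncomputable def mapExtendIso :
    (F.mapHomologicalComplex c').obj (K.extend e) ≅
      ((F.mapHomologicalComplex c).obj K).extend e :=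
  HomologicalComplex.Hom.isoOfComponents (fun i' => xIso F K (e.r i'))
    (fun i' j' _ => (xIso_comm F K (e.r i') (e.r j')).symm)

end ExtendMap

section Trunc

open DerivedCategory Pretriangulated Triangulated

variable {C : Type u} [Category.{v} C] [Abelian C] [HasDerivedCategory.{w} C]

variable (C) in
/-- The canonical t-structure. -/
noncomputable abbrev tD : Triangulated.TStructure (DerivedCategory C) := DerivedCategory.TStructure.t

lemma isIso_H_truncLTι (b j : ℤ) (hj : j < b) (X : DerivedCategory C) :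
    IsIso ((homologyFunctor C j).map (((tD C).truncLTι b).app X)) := by
  have hm : Mono ((homologyFunctor C j).map (((tD C).truncLTι b).app X)) :=
    (HomologySequence.mono_homologyMap_mor₁_iff _ ((tD C).triangleLTGE_distinguished b X) (j - 1) j
      (by omega)).2
      (IsZero.eq_of_src (isZero_of_isGE (((tD C).truncGE b).obj X) b (j - 1) (by omega)) _ _)
  have he : Epi ((homologyFunctor C j).map (((tD C).truncLTι b).app X)) :=
    (HomologySequence.epi_homologyMap_mor₁_iff _ ((tD C).triangleLTGE_distinguished b X) j).2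
      (IsZero.eq_of_tgt (isZero_of_isGE (((tD C).truncGE b).obj X) b j hj) _ _)
  exact isIso_of_mono_of_epi _

lemma isIso_H_truncGEπ (b j : ℤ) (hj : b ≤ j) (X : DerivedCategory C) :
    IsIso ((homologyFunctor C j).map (((tD C).truncGEπ b).app X)) := by
  have he : Epi ((homologyFunctor C j).map (((tD C).truncGEπ b).app X)) :=
    (HomologySequence.epi_homologyMap_mor₂_iff _ ((tD C).triangleLTGE_distinguished b X) j (j + 1)
      rfl).2
      (IsZero.eq_of_tgt (isZero_of_isLE (((tD C).truncLT b).obj X) (b - 1) (j + 1) (by omega)) _ _)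
  have hm : Mono ((homologyFunctor C j).map (((tD C).truncGEπ b).app X)) :=
    (HomologySequence.mono_homologyMap_mor₂_iff _ ((tD C).triangleLTGE_distinguished b X) j).2
      (IsZero.eq_of_src (isZero_of_isLE (((tD C).truncLT b).obj X) (b - 1) j (by omega)) _ _)
  exact isIso_of_mono_of_epi _

end Trunc

section Model

open DerivedCategory Pretriangulated

variable {A : Type u} [Category.{v} A] [Abelian A] [IsGrothendieckAbelian.{v} A]
  [HasDerivedCategory.{w} A]
  {B : Type u'} [Category.{v'} B] [Abelian B] [HasDerivedCategory.{w'} B]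
  (F : A ⥤ B) [F.Additive]
  (RF : DerivedCategory A ⥤ DerivedCategory B)
  (β : F.mapHomotopyCategory (ComplexShape.up ℤ) ⋙ DerivedCategory.Qh ⟶ DerivedCategory.Qh ⋙ RF)
  [RF.IsRightDerivedFunctor β (HomotopyCategory.quasiIso A (ComplexShape.up ℤ))]

include β

/-- On K-injective complexes the derived functor is computed termwise. -/
theorem nonempty_modelIso (I : CochainComplex A ℤ) [I.IsKInjective] :
    Nonempty (RF.obj (Q.obj I) ≅ Q.obj ((F.mapHomologicalComplex (ComplexShape.up ℤ)).obj I)) := by
  have h : IsIso (β.app ((HomotopyCategory.quotient A (ComplexShape.up ℤ)).obj I)) :=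
    Groth.Agent.H5.KInjDer.isIso_app_quotient_of_isKInjective _ RF β I
  let e1 : (F.mapHomotopyCategory (ComplexShape.up ℤ) ⋙ Qh).obj
      ((HomotopyCategory.quotient A (ComplexShape.up ℤ)).obj I) ≅
      (Qh ⋙ RF).obj ((HomotopyCategory.quotient A (ComplexShape.up ℤ)).obj I) := asIso (β.app _)
  let e2 : Qh.obj ((HomotopyCategory.quotient A (ComplexShape.up ℤ)).obj I) ≅ Q.obj I :=
    (quotientCompQhIso A).app I
  let e3 : Qh.obj ((HomotopyCategory.quotient B (ComplexShape.up ℤ)).obj
      ((F.mapHomologicalComplex (ComplexShape.up ℤ)).obj I)) ≅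
      Q.obj ((F.mapHomologicalComplex (ComplexShape.up ℤ)).obj I) := (quotientCompQhIso B).app _
  exact ⟨(RF.mapIso e2).symm ≪≫ e1.symm ≪≫ e3⟩

theorem isZero_homology_iff (I : CochainComplex A ℤ) [I.IsKInjective] (i : ℤ) :
    IsZero ((homologyFunctor B i).obj (RF.obj (Q.obj I))) ↔
      IsZero (((F.mapHomologicalComplex (ComplexShape.up ℤ)).obj I).homology i) := by
  obtain ⟨e⟩ := nonempty_modelIso F RF β I
  exact ((homologyFunctor B i).mapIso e ≪≫ (homologyFunctorFactors B i).app _).isZero_iff

omit β [RF.IsRightDerivedFunctor β (HomotopyCategory.quasiIso A (ComplexShape.up ℤ))] in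
theorem exists_model (E : DerivedCategory A) :
    ∃ (I : CochainComplex A ℤ), I.IsKInjective ∧ Nonempty (Q.obj I ≅ E) := by
  obtain ⟨I, φ, hI, hφ, -, -⟩ := Groth.Agent.S0476.result (Q.objPreimage E)
  have := hφ
  exact ⟨I, hI, ⟨(asIso (Q.map φ)).symm ≪≫ Q.objObjPreimageIso E⟩⟩

omit β [RF.IsRightDerivedFunctor β (HomotopyCategory.quasiIso A (ComplexShape.up ℤ))]
  [IsGrothendieckAbelian.{v} A] [HasDerivedCategory.{w} A] [HasDerivedCategory.{w'} B] in
/-- A K-injective complex which is exact in degrees `< a` is homotopy equivalent to a complex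
concentrated in degrees `≥ a` (after helper5's `S0883`). -/
theorem exists_homotopyEquiv_strictlyGE [EnoughInjectives A] (L : CochainComplex A ℤ)
    [L.IsKInjective] (a : ℤ) (hL : ∀ n : ℤ, n < a → L.ExactAt n) :
    ∃ (I' : CochainComplex A ℤ), I'.IsStrictlyGE a ∧ Nonempty (HomotopyEquiv L I') := by
  have : L.IsGE a := (L.isGE_iff a).2 hL
  have : QuasiIso (L.πTruncGE a) := (L.quasiIso_πTruncGE_iff a).2 inferInstance
  obtain ⟨I', i, hi, hinj, hge⟩ :=
    CochainComplex.Plus.modelCategoryQuillen.exists_quasiIso_injective (L.truncGE a) a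
  have := hinj
  have := hge
  have := hi
  have : I'.IsKInjective := CochainComplex.isKInjective_of_injective I' a
  have : QuasiIso (L.πTruncGE a ≫ i) := inferInstance
  obtain ⟨e, _⟩ := (CochainComplex.IsKInjective.quasiIso_iff (L.πTruncGE a ≫ i)).1 inferInstance
  exact ⟨I', hge, ⟨e⟩⟩

/-- Lower bound. -/
theorem isZero_of_lt (E : DerivedCategory A) (a : ℤ)
    (hE : ∀ j : ℤ, j < a → IsZero ((homologyFunctor A j).obj E)) (i : ℤ) (hi : i < a) :
    IsZero ((homologyFunctor B i).obj (RF.obj E)) := by
  obtain ⟨I, hI, ⟨e⟩⟩ := exists_model E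
  have := hI
  refine (((homologyFunctor B i).mapIso (RF.mapIso e)).isZero_iff).1 ?_
  refine (isZero_homology_iff F RF β I i).2 ?_
  have hex : ∀ n : ℤ, n < a → I.ExactAt n := by
    intro n hn
    rw [HomologicalComplex.exactAt_iff_isZero_homology]
    exact IsZero.of_iso (hE n hn)
      (((homologyFunctorFactors A n).app I).symm ≪≫ (homologyFunctor A n).mapIso e)
  obtain ⟨I', hI', ⟨h⟩⟩ := exists_homotopyEquiv_strictlyGE I a hex
  have := hI'
  refine IsZero.of_iso ?_ ((F.mapHomotopyEquiv h).toHomologyIso i)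
  rw [← HomologicalComplex.exactAt_iff_isZero_homology]
  exact ShortComplex.exact_of_isZero_X₂ _
    (F.map_isZero (CochainComplex.isZero_of_isStrictlyGE I' a i hi))

/-- Two-out-of-three (middle term) for vanishing of `H^i ∘ RF` along distinguished triangles. -/
theorem isZero_obj₂_of_distTriang (T : Triangle (DerivedCategory A))
    (hT : T ∈ distTriang (DerivedCategory A)) (i : ℤ)
    (h₁ : IsZero ((homologyFunctor B i).obj (RF.obj T.obj₁)))
    (h₃ : IsZero ((homologyFunctor B i).obj (RF.obj T.obj₃))) :
    IsZero ((homologyFunctor B i).obj (RF.obj T.obj₂)) := by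
  obtain ⟨K, L, f, ⟨e⟩⟩ := (mem_distTriang_iff T).1 hT
  obtain ⟨I, φK, hI, hφK, -, -⟩ := Groth.Agent.S0476.result K
  obtain ⟨J, φL, hJ, hφL, -, -⟩ := Groth.Agent.S0476.result L
  have := hI
  have := hJ
  have := hφK
  have := hφL
  obtain ⟨g', hg'⟩ := (CochainComplex.IsKInjective.Qh_map_bijective
    ((HomotopyCategory.quotient A (ComplexShape.up ℤ)).obj I) J).surjective
    ((quotientCompQhIso A).hom.app I ≫ inv (Q.map φK) ≫ Q.map f ≫ Q.map φL ≫
      (quotientCompQhIso A).inv.app J)
  obtain ⟨g, rfl⟩ := (HomotopyCategory.quotient A (ComplexShape.up ℤ)).map_surjective g'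
  have hg : Q.map φK ≫ Q.map g = Q.map f ≫ Q.map φL := by
    have nat := (quotientCompQhIso A).hom.naturality g
    rw [Functor.comp_map, hg'] at nat
    simp only [Category.assoc, Iso.inv_hom_id_app, Category.comp_id] at nat
    have h2 : Q.map g = inv (Q.map φK) ≫ Q.map f ≫ Q.map φL := ((cancel_epi _).1 nat).symm
    rw [h2, IsIso.hom_inv_id_assoc]
  -- the triangles
  have hT₀ : Q.mapTriangle.obj (CochainComplex.mappingCone.triangle f) ∈
      distTriang (DerivedCategory A) := (mem_distTriang_iff _).2 ⟨K, L, f, ⟨Iso.refl _⟩⟩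
  have hT' : Q.mapTriangle.obj (CochainComplex.mappingCone.triangle g) ∈
      distTriang (DerivedCategory A) := (mem_distTriang_iff _).2 ⟨I, J, g, ⟨Iso.refl _⟩⟩
  let iK : Q.obj K ≅ Q.obj I := asIso (Q.map φK)
  let iL : Q.obj L ≅ Q.obj J := asIso (Q.map φL)
  let eT : T ≅ Q.mapTriangle.obj (CochainComplex.mappingCone.triangle g) :=
    e ≪≫ isoTriangleOfIso₁₂ _ _ hT₀ hT' iK iL hg.symm
  let e₁ : T.obj₁ ≅ Q.obj I := Triangle.π₁.mapIso eT
  let e₂ : T.obj₂ ≅ Q.obj J := Triangle.π₂.mapIso eT
  let e₃ : T.obj₃ ≅ Q.obj (CochainComplex.mappingCone g) := Triangle.π₃.mapIso eT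
  have hcone : (CochainComplex.mappingCone g).IsKInjective := by
    rw [CochainComplex.isKInjective_iff_rightOrthogonal]
    exact (HomotopyCategory.subcategoryAcyclic A).rightOrthogonal.ext_of_isTriangulatedClosed₃ _
      (HomotopyCategory.mappingCone_triangleh_distinguished g)
      (CochainComplex.IsKInjective.rightOrthogonal I) (CochainComplex.IsKInjective.rightOrthogonal J)
  obtain ⟨m₁⟩ := nonempty_modelIso F RF β I
  obtain ⟨m₂⟩ := nonempty_modelIso F RF β J
  obtain ⟨m₃⟩ := nonempty_modelIso F RF β (CochainComplex.mappingCone g)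
  let Fg := (F.mapHomologicalComplex (ComplexShape.up ℤ)).map g
  have hTB : Q.mapTriangle.obj (CochainComplex.mappingCone.triangle Fg) ∈
      distTriang (DerivedCategory B) := (mem_distTriang_iff _).2 ⟨_, _, Fg, ⟨Iso.refl _⟩⟩
  have z₁ : IsZero ((homologyFunctor B i).obj
      (Q.obj ((F.mapHomologicalComplex (ComplexShape.up ℤ)).obj I))) :=
    IsZero.of_iso h₁ ((homologyFunctor B i).mapIso (m₁.symm ≪≫ RF.mapIso e₁.symm))
  have z₃ : IsZero ((homologyFunctor B i).obj (Q.obj (CochainComplex.mappingCone Fg))) :=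
    IsZero.of_iso h₃ ((homologyFunctor B i).mapIso
      (Q.mapIso (CochainComplex.mappingCone.mapHomologicalComplexIso g F).symm ≪≫
        m₃.symm ≪≫ RF.mapIso e₃.symm))
  have ex := HomologySequence.exact₂ _ hTB i
  have z₂ : IsZero ((homologyFunctor B i).obj
      (Q.obj ((F.mapHomologicalComplex (ComplexShape.up ℤ)).obj J))) :=
    ex.isZero_X₂ (z₁.eq_of_src _ _) (z₃.eq_of_tgt _ _)
  exact IsZero.of_iso z₂ ((homologyFunctor B i).mapIso (RF.mapIso e₂ ≪≫ m₂))

end Model

section Single

open DerivedCategory Pretriangulated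

variable {A : Type u} [Category.{v} A] [Abelian A] [IsGrothendieckAbelian.{v} A]
  [HasDerivedCategory.{w} A] [HasInjectiveResolutions A]
  {B : Type u'} [Category.{v'} B] [Abelian B] [HasDerivedCategory.{w'} B]
  (F : A ⥤ B) [F.Additive]
  (RF : DerivedCategory A ⥤ DerivedCategory B)
  (β : F.mapHomotopyCategory (ComplexShape.up ℤ) ⋙ DerivedCategory.Qh ⟶ DerivedCategory.Qh ⋙ RF)
  [RF.IsRightDerivedFunctor β (HomotopyCategory.quasiIso A (ComplexShape.up ℤ))]

/-- An injective resolution placed in degrees `≥ n`. -/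
noncomputable abbrev Kres {G : A} (R : InjectiveResolution G) (n : ℤ) : CochainComplex A ℤ :=
  R.cocomplex.extend (ComplexShape.embeddingUpIntGE n)

omit [IsGrothendieckAbelian.{v} A] [HasDerivedCategory.{w} A] [HasInjectiveResolutions A] in
lemma injective_Kres_X {G : A} (R : InjectiveResolution G) (n i : ℤ) :
    Injective ((Kres R n).X i) := by
  by_cases hi : n ≤ i
  · obtain ⟨q, rfl⟩ : ∃ q : ℕ, i = n + q := ⟨(i - n).toNat, by omega⟩
    exact Injective.of_iso (HomologicalComplex.extendXIso R.cocomplex
      (ComplexShape.embeddingUpIntGE n) (i := q) (by simp)).symm inferInstance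
  · exact IsZero.injective (CochainComplex.isZero_of_isStrictlyGE (Kres R n) n i (by omega))

omit [IsGrothendieckAbelian.{v} A] [HasDerivedCategory.{w} A] [HasInjectiveResolutions A] in
lemma isKInjective_Kres {G : A} (R : InjectiveResolution G) (n : ℤ) :
    (Kres R n).IsKInjective := by
  have := injective_Kres_X R n
  exact CochainComplex.isKInjective_of_injective (Kres R n) n

omit [IsGrothendieckAbelian.{v} A] [HasDerivedCategory.{w} A] [HasInjectiveResolutions A] in
/-- Homology of `Kres` in degree `n + q`. -/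
noncomputable def KresHomologyIso {G : A} (R : InjectiveResolution G) (n : ℤ) (q : ℕ) (i : ℤ)
    (hi : n + q = i) : (Kres R n).homology i ≅ R.cocomplex.homology q :=
  HomologicalComplex.extendHomologyIso R.cocomplex (ComplexShape.embeddingUpIntGE n)
    (show (ComplexShape.embeddingUpIntGE n).f q = i by simpa using hi)

omit [IsGrothendieckAbelian.{v} A] [HasDerivedCategory.{w} A] [HasInjectiveResolutions A] in
lemma exactAt_Kres {G : A} (R : InjectiveResolution G) (n i : ℤ) (hi : i ≠ n) :
    (Kres R n).ExactAt i := by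
  by_cases h : i < n
  · exact ShortComplex.exact_of_isZero_X₂ _
      (CochainComplex.isZero_of_isStrictlyGE (Kres R n) n i h)
  · obtain ⟨q, rfl⟩ : ∃ q : ℕ, i = n + ((q + 1 : ℕ) : ℤ) := ⟨(i - n - 1).toNat, by omega⟩
    rw [HomologicalComplex.exactAt_iff_isZero_homology]
    refine IsZero.of_iso ?_ (KresHomologyIso R n (q + 1) _ rfl)
    rw [← HomologicalComplex.exactAt_iff_isZero_homology]
    exact R.cocomplex_exactAt_succ q

include β in
/-- Objects concentrated in a single degree. -/
theorem isZero_of_single (E : DerivedCategory A) (n : ℤ) [E.IsGE n] [E.IsLE n] (p : ℕ)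
    (h : IsZero ((F.rightDerived p).obj ((homologyFunctor A n).obj E))) :
    IsZero ((homologyFunctor B (n + p)).obj (RF.obj E)) := by
  let G : A := (homologyFunctor A n).obj E
  let R : InjectiveResolution G := injectiveResolution G
  have hKI : (Kres R n).IsKInjective := isKInjective_Kres R n
  have hGE : (Kres R n).IsGE n := inferInstance
  have hLE : (Kres R n).IsLE n := by
    rw [CochainComplex.isLE_iff]
    intro i hi
    exact exactAt_Kres R n i (by omega)
  -- the homology in degree `n`
  let g : (homologyFunctor A n).obj (Q.obj (Kres R n)) ≅ G :=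
    (homologyFunctorFactors A n).app (Kres R n) ≪≫ KresHomologyIso R n 0 n (by simp) ≪≫
      (isoOfQuasiIsoAt R.ι 0).symm ≪≫
      HomologicalComplex.singleObjHomologySelfIso (ComplexShape.up ℕ) 0 G
  obtain ⟨A₁, ⟨e₁⟩⟩ := exists_iso_singleFunctor_obj_of_isGE_of_isLE E n
  obtain ⟨A₂, ⟨e₂⟩⟩ := exists_iso_singleFunctor_obj_of_isGE_of_isLE (Q.obj (Kres R n)) n
  let a₁ : A₁ ≅ G :=
    ((singleFunctorCompHomologyFunctorIso A n).app A₁).symm ≪≫
      (homologyFunctor A n).mapIso e₁.symm
  let a₂ : A₂ ≅ (homologyFunctor A n).obj (Q.obj (Kres R n)) :=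
    ((singleFunctorCompHomologyFunctorIso A n).app A₂).symm ≪≫
      (homologyFunctor A n).mapIso e₂.symm
  let eE : Q.obj (Kres R n) ≅ E :=
    e₂ ≪≫ (singleFunctor A n).mapIso (a₂ ≪≫ g ≪≫ a₁.symm) ≪≫ e₁.symm
  refine (((homologyFunctor B (n + p)).mapIso (RF.mapIso eE)).isZero_iff).1 ?_
  refine (isZero_homology_iff F RF β (Kres R n) (n + p)).2 ?_
  refine IsZero.of_iso ?_ ((HomologicalComplex.homologyFunctor B _ (n + p)).mapIso
    (mapExtendIso F R.cocomplex (ComplexShape.embeddingUpIntGE n)))
  refine IsZero.of_iso ?_ (HomologicalComplex.extendHomologyIso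
    ((F.mapHomologicalComplex (ComplexShape.up ℕ)).obj R.cocomplex) (ComplexShape.embeddingUpIntGE n)
    (show (ComplexShape.embeddingUpIntGE n).f p = n + p by simp))
  exact IsZero.of_iso h (R.isoRightDerivedObj F p).symm

variable (P : ObjectProperty A) [P.IsClosedUnderIsomorphisms] (N : ℕ)
  (hF : ∀ G : A, P G → ∀ p : ℕ, N ≤ p → IsZero ((F.rightDerived p).obj G))

include β hF

theorem upper_zero (E : DerivedCategory A) (b : ℤ)
    (hP : ∀ j : ℤ, IsZero ((homologyFunctor A j).obj E) ∨ P ((homologyFunctor A j).obj E))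
    (h₁ : ∀ j : ℤ, b < j → IsZero ((homologyFunctor A j).obj E))
    (h₂ : ∀ j : ℤ, j < b → IsZero ((homologyFunctor A j).obj E))
    (i : ℤ) (hi : b + N - 1 < i) : IsZero ((homologyFunctor B i).obj (RF.obj E)) := by
  have : E.IsGE b := (isGE_iff E b).2 (fun j hj => h₂ j hj)
  have : E.IsLE b := (isLE_iff E b).2 (fun j hj => h₁ j hj)
  rcases hP b with h0 | h0
  · refine isZero_of_lt F RF β E (i + 1) (fun j _ => ?_) i (by omega)
    rcases lt_trichotomy j b with h | h | h
    · exact h₂ j h
    · rw [h]; exact h0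
    · exact h₁ j h
  · obtain ⟨p, rfl⟩ : ∃ p : ℕ, i = b + p := ⟨(i - b).toNat, by omega⟩
    have hp : N ≤ p := by omega
    exact isZero_of_single F RF β E b p (hF _ h0 p hp)

theorem upper_aux (k : ℕ) : ∀ (E : DerivedCategory A) (b : ℤ),
    (∀ j : ℤ, IsZero ((homologyFunctor A j).obj E) ∨ P ((homologyFunctor A j).obj E)) →
    (∀ j : ℤ, b < j → IsZero ((homologyFunctor A j).obj E)) →
    (∀ j : ℤ, j + k < b → IsZero ((homologyFunctor A j).obj E)) →
    ∀ i : ℤ, b + N - 1 < i → IsZero ((homologyFunctor B i).obj (RF.obj E)) := by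
  induction k with
  | zero =>
    intro E b hP h₁ h₂ i hi
    exact upper_zero F RF β P N hF E b hP h₁ (fun j hj => h₂ j (by simpa using hj)) i hi
  | succ k ih =>
    intro E b hP h₁ h₂ i hi
    have hT := (tD A).triangleLTGE_distinguished b E
    -- the truncation below `b`
    have z₁ : IsZero ((homologyFunctor B i).obj (RF.obj (((tD A).truncLT b).obj E))) := by
      refine ih (((tD A).truncLT b).obj E) (b - 1) ?_ ?_ ?_ i (by omega)
      · intro j
        by_cases hj : j < b
        · have := isIso_H_truncLTι b j hj E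
          let ej := asIso ((homologyFunctor A j).map (((tD A).truncLTι b).app E))
          rcases hP j with h0 | h0
          · exact Or.inl (IsZero.of_iso h0 ej)
          · exact Or.inr (P.prop_of_iso ej.symm h0)
        · exact Or.inl (isZero_of_isLE (((tD A).truncLT b).obj E) (b - 1) j (by omega))
      · intro j hj
        exact isZero_of_isLE (((tD A).truncLT b).obj E) (b - 1) j (by omega)
      · intro j hj
        have hjb : j < b := by omega
        have := isIso_H_truncLTι b j hjb E
        exact IsZero.of_iso (h₂ j (by push_cast; omega))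
          (asIso ((homologyFunctor A j).map (((tD A).truncLTι b).app E)))
    -- the truncation above `b`
    have z₃ : IsZero ((homologyFunctor B i).obj (RF.obj (((tD A).truncGE b).obj E))) := by
      refine upper_zero F RF β P N hF (((tD A).truncGE b).obj E) b ?_ ?_ ?_ i hi
      · intro j
        by_cases hj : b ≤ j
        · have := isIso_H_truncGEπ b j hj E
          let ej := asIso ((homologyFunctor A j).map (((tD A).truncGEπ b).app E))
          rcases hP j with h0 | h0
          · exact Or.inl (IsZero.of_iso h0 ej.symm)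
          · exact Or.inr (P.prop_of_iso ej h0)
        · exact Or.inl (isZero_of_isGE (((tD A).truncGE b).obj E) b j (by omega))
      · intro j hj
        have := isIso_H_truncGEπ b j (by omega) E
        exact IsZero.of_iso (h₁ j hj)
          (asIso ((homologyFunctor A j).map (((tD A).truncGEπ b).app E))).symm
      · intro j hj
        exact isZero_of_isGE (((tD A).truncGE b).obj E) b j hj
    exact isZero_obj₂_of_distTriang F RF β _ hT i z₁ z₃

/-- The amplitude estimate. -/
theorem bounds (E : DerivedCategory A)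
    (hP : ∀ j : ℤ, P ((homologyFunctor A j).obj E)) (a b : ℤ)
    (hab : ∀ j : ℤ, j < a ∨ b < j → IsZero ((homologyFunctor A j).obj E))
    (i : ℤ) (hi : i < a ∨ b + N - 1 < i) :
    IsZero ((homologyFunctor B i).obj (RF.obj E)) := by
  rcases hi with hi | hi
  · exact isZero_of_lt F RF β E a (fun j hj => hab j (Or.inl hj)) i hi
  · by_cases hba : b < a
    · exact isZero_of_lt F RF β E (i + 1) (fun j _ => hab j (by omega)) i (by omega)
    · refine upper_aux F RF β P N hF (b - a).toNat E b (fun j => Or.inr (hP j))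
        (fun j hj => hab j (Or.inr hj)) (fun j hj => hab j (Or.inl ?_)) i hi
      omega

end Single

end Groth.Agent.H6.RFBound
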