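import Mathlib
import Groth.Agent.H6.RFBound
import Groth.Agent.H6.PlusDev
import Groth.Agent.H5.KInj.Triang

/-!
# Dévissage for unbounded total right derived functors on bounded below objects (helper6)

`A` Grothendieck abelian with injective resolutions, `F : A ⥤ B` additive, `RF : D(A) ⥤ D(B)` a
total right derived functor of `F` (unit `β`), `Q` a weak Serre class of objects of `B`
(`PlusDev.WeakSerre`), `P` a class of objects of `A` with `Q (RᵖF G)` for all `G ∈ P`, `p ≥ 0`.

* `prop_of_single` : if `E` is concentrated in degree `n`, `Q (RᵖF (Hⁿ E)) → Q (H^{n+p} (RF E))`.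
* `prop_obj₂_of_distTriang` : five lemma along `RF` of a distinguished triangle.
* `good_of_isGE` : if `E` is bounded below with cohomology in `P` (or zero), all `Hⁱ(RF E)` are
  in `Q`.
-/

set_option autoImplicit false
universe w w' v u v' u'
open CategoryTheory Limits

namespace Groth.Agent.H6.RFSerre

open DerivedCategory Pretriangulated
open Groth.Agent.H6.RFBound Groth.Agent.H6.PlusDev

section Five

variable {B : Type u'} [Category.{v'} B] [Abelian B] [HasDerivedCategory.{w'} B]

/-- Five lemma for the homology sequence of a distinguished triangle and a weak Serre class. -/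
theorem five_of_distTriang {Pr : B → Prop} (hQ : WeakSerre Pr)
    (T' : Triangle (DerivedCategory B)) (hT' : T' ∈ distTriang (DerivedCategory B)) (i : ℤ)
    (h₃' : Pr ((homologyFunctor B (i - 1)).obj T'.obj₃))
    (h₁ : Pr ((homologyFunctor B i).obj T'.obj₁))
    (h₃ : Pr ((homologyFunctor B i).obj T'.obj₃))
    (h₁' : Pr ((homologyFunctor B (i + 1)).obj T'.obj₁)) :
    Pr ((homologyFunctor B i).obj T'.obj₂) :=
  hQ.five
    (HomologySequence.δ T' (i - 1) i (by omega))
    ((homologyFunctor B i).map T'.mor₁) ((homologyFunctor B i).map T'.mor₂)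
    (HomologySequence.δ T' i (i + 1) rfl)
    (HomologySequence.δ_comp T' hT' (i - 1) i (by omega))
    (by rw [← Functor.map_comp, comp_distTriang_mor_zero₁₂ _ hT', Functor.map_zero])
    (HomologySequence.comp_δ T' hT' i (i + 1) rfl)
    (HomologySequence.exact₁ T' hT' (i - 1) i (by omega))
    (HomologySequence.exact₂ T' hT' i)
    (HomologySequence.exact₃ T' hT' i (i + 1) rfl)
    h₃' h₁ h₃ h₁'

end Five

variable {A : Type u} [Category.{v} A] [Abelian A] [IsGrothendieckAbelian.{v} A]
  [HasDerivedCategory.{w} A] [HasInjectiveResolutions A]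
  {B : Type u'} [Category.{v'} B] [Abelian B] [HasDerivedCategory.{w'} B]
  (F : A ⥤ B) [F.Additive]
  (RF : DerivedCategory A ⥤ DerivedCategory B)
  (β : F.mapHomotopyCategory (ComplexShape.up ℤ) ⋙ DerivedCategory.Qh ⟶ DerivedCategory.Qh ⋙ RF)
  [RF.IsRightDerivedFunctor β (HomotopyCategory.quasiIso A (ComplexShape.up ℤ))]

include β in
/-- Objects concentrated in a single degree. -/
theorem prop_of_single (Pr : B → Prop) (hQiso : ∀ {X Y : B}, (X ≅ Y) → Pr X → Pr Y)
    (E : DerivedCategory A) (n : ℤ) [E.IsGE n] [E.IsLE n] (p : ℕ)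
    (h : Pr ((F.rightDerived p).obj ((homologyFunctor A n).obj E))) :
    Pr ((homologyFunctor B (n + p)).obj (RF.obj E)) := by
  let G : A := (homologyFunctor A n).obj E
  let R : InjectiveResolution G := injectiveResolution G
  have hKI : (Kres R n).IsKInjective := isKInjective_Kres R n
  have hGE : (Kres R n).IsGE n := inferInstance
  have hLE : (Kres R n).IsLE n := by
    rw [CochainComplex.isLE_iff]
    intro i hi
    exact exactAt_Kres R n i (by omega)
  let g : (homologyFunctor A n).obj (Q.obj (Kres R n)) ≅ G :=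
    (homologyFunctorFactors A n).app (Kres R n) ≪≫ KresHomologyIso R n 0 n (by simp) ≪≫
      (isoOfQuasiIsoAt R.ι 0).symm ≪≫
      HomologicalComplex.singleObjHomologySelfIso (ComplexShape.up ℕ) 0 G
  obtain ⟨A₁, ⟨e₁⟩⟩ := exists_iso_singleFunctor_obj_of_isGE_of_isLE E n
  obtain ⟨A₂, ⟨e₂⟩⟩ := exists_iso_singleFunctor_obj_of_isGE_of_isLE (Q.obj (Kres R n)) n
  let a₁ : A₁ ≅ G :=
    ((singleFunctorCompHomologyFunctorIso A n).app A₁).symm ≪≫
      (homologyFunctor A n).mapIso e₁.symm
  let a₂ : A₂ ≅ (homologyFunctor A n).obj (Q.obj (Kres R n)) :=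
    ((singleFunctorCompHomologyFunctorIso A n).app A₂).symm ≪≫
      (homologyFunctor A n).mapIso e₂.symm
  let eE : Q.obj (Kres R n) ≅ E :=
    e₂ ≪≫ (singleFunctor A n).mapIso (a₂ ≪≫ g ≪≫ a₁.symm) ≪≫ e₁.symm
  obtain ⟨m⟩ := nonempty_modelIso F RF β (Kres R n)
  refine hQiso ((homologyFunctor B (n + p)).mapIso (RF.mapIso eE)) ?_
  refine hQiso ((homologyFunctor B (n + p)).mapIso m.symm) ?_
  refine hQiso ((homologyFunctorFactors B (n + p)).app _).symm ?_
  refine hQiso ((HomologicalComplex.homologyFunctor B _ (n + p)).mapIso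
    (mapExtendIso F R.cocomplex (ComplexShape.embeddingUpIntGE n))).symm ?_
  refine hQiso (HomologicalComplex.extendHomologyIso
    ((F.mapHomologicalComplex (ComplexShape.up ℕ)).obj R.cocomplex) (ComplexShape.embeddingUpIntGE n)
    (show (ComplexShape.embeddingUpIntGE n).f p = n + p by simp)).symm ?_
  exact hQiso (R.isoRightDerivedObj F p) h

include β in
/-- Five lemma along `RF` of a distinguished triangle. -/
theorem prop_obj₂_of_distTriang {Pr : B → Prop} (hQ : WeakSerre Pr)
    (T : Triangle (DerivedCategory A)) (hT : T ∈ distTriang (DerivedCategory A)) (i : ℤ)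
    (h₃' : Pr ((homologyFunctor B (i - 1)).obj (RF.obj T.obj₃)))
    (h₁ : Pr ((homologyFunctor B i).obj (RF.obj T.obj₁)))
    (h₃ : Pr ((homologyFunctor B i).obj (RF.obj T.obj₃)))
    (h₁' : Pr ((homologyFunctor B (i + 1)).obj (RF.obj T.obj₁))) :
    Pr ((homologyFunctor B i).obj (RF.obj T.obj₂)) := by
  obtain ⟨a', c', hT'⟩ := Groth.Agent.H5.KInjDer.exists_distinguished_map
    (F.mapHomotopyCategory (ComplexShape.up ℤ) ⋙ DerivedCategory.Qh) RF β T.mor₁ T.mor₂ T.mor₃ hT
  exact five_of_distTriang hQ (Triangle.mk a' (RF.map T.mor₂) c') hT' i h₃' h₁ h₃ h₁'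

variable (P : ObjectProperty A) [P.IsClosedUnderIsomorphisms] {Pr : B → Prop} (hQ : WeakSerre Pr)
  (hF : ∀ G : A, P G → ∀ p : ℕ, Pr ((F.rightDerived p).obj G))

include β hQ hF

theorem good_single (E : DerivedCategory A) (b : ℤ)
    (hP : ∀ j : ℤ, IsZero ((homologyFunctor A j).obj E) ∨ P ((homologyFunctor A j).obj E))
    (h₁ : ∀ j : ℤ, b < j → IsZero ((homologyFunctor A j).obj E))
    (h₂ : ∀ j : ℤ, j < b → IsZero ((homologyFunctor A j).obj E))
    (i : ℤ) : Pr ((homologyFunctor B i).obj (RF.obj E)) := by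
  have : E.IsGE b := (isGE_iff E b).2 (fun j hj => h₂ j hj)
  have : E.IsLE b := (isLE_iff E b).2 (fun j hj => h₁ j hj)
  rcases hP b with h0 | h0
  · refine hQ.zero _ (isZero_of_lt F RF β E (i + 1) (fun j _ => ?_) i (by omega))
    rcases lt_trichotomy j b with h | h | h
    · exact h₂ j h
    · rw [h]; exact h0
    · exact h₁ j h
  · by_cases hib : i < b
    · exact hQ.zero _ (isZero_of_lt F RF β E b h₂ i hib)
    · obtain ⟨p, rfl⟩ : ∃ p : ℕ, i = b + p := ⟨(i - b).toNat, by omega⟩
      exact prop_of_single F RF β Pr (fun e h => hQ.iso e h) E b p (hF _ h0 p)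

theorem good_aux (k : ℕ) : ∀ (E : DerivedCategory A) (b : ℤ),
    (∀ j : ℤ, IsZero ((homologyFunctor A j).obj E) ∨ P ((homologyFunctor A j).obj E)) →
    (∀ j : ℤ, b < j → IsZero ((homologyFunctor A j).obj E)) →
    (∀ j : ℤ, j + k < b → IsZero ((homologyFunctor A j).obj E)) →
    ∀ i : ℤ, Pr ((homologyFunctor B i).obj (RF.obj E)) := by
  induction k with
  | zero =>
    intro E b hP h₁ h₂ i
    exact good_single F RF β P hQ hF E b hP h₁ (fun j hj => h₂ j (by simpa using hj)) i
  | succ k ih =>
    intro E b hP h₁ h₂ i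
    have hT := (tD A).triangleLTGE_distinguished b E
    have z₁ : ∀ m : ℤ, Pr ((homologyFunctor B m).obj (RF.obj (((tD A).truncLT b).obj E))) := by
      intro m
      refine ih (((tD A).truncLT b).obj E) (b - 1) ?_ ?_ ?_ m
      · intro j
        by_cases hj : j < b
        · have := isIso_H_truncLTι b j hj E
          let ej := asIso ((homologyFunctor A j).map (((tD A).truncLTι b).app E))
          rcases hP j with h0 | h0
          · exact Or.inl (IsZero.of_iso h0 ej)
          · exact Or.inr (P.prop_of_iso ej.symm h0)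
        · exact Or.inl (isZero_of_isLE (((tD A).truncLT b).obj E) (b - 1) j (by omega))
      · intro j hj
        exact isZero_of_isLE (((tD A).truncLT b).obj E) (b - 1) j (by omega)
      · intro j hj
        have hjb : j < b := by omega
        have := isIso_H_truncLTι b j hjb E
        exact IsZero.of_iso (h₂ j (by push_cast; omega))
          (asIso ((homologyFunctor A j).map (((tD A).truncLTι b).app E)))
    have z₃ : ∀ m : ℤ, Pr ((homologyFunctor B m).obj (RF.obj (((tD A).truncGE b).obj E))) := by
      intro m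
      refine good_single F RF β P hQ hF (((tD A).truncGE b).obj E) b ?_ ?_ ?_ m
      · intro j
        by_cases hj : b ≤ j
        · have := isIso_H_truncGEπ b j hj E
          let ej := asIso ((homologyFunctor A j).map (((tD A).truncGEπ b).app E))
          rcases hP j with h0 | h0
          · exact Or.inl (IsZero.of_iso h0 ej.symm)
          · exact Or.inr (P.prop_of_iso ej h0)
        · exact Or.inl (isZero_of_isGE (((tD A).truncGE b).obj E) b j (by omega))
      · intro j hj
        have := isIso_H_truncGEπ b j (by omega) E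
        exact IsZero.of_iso (h₁ j hj)
          (asIso ((homologyFunctor A j).map (((tD A).truncGEπ b).app E))).symm
      · intro j hj
        exact isZero_of_isGE (((tD A).truncGE b).obj E) b j hj
    exact prop_obj₂_of_distTriang F RF β hQ _ hT i (z₃ (i - 1)) (z₁ i) (z₃ i) (z₁ (i + 1))

/-- **Dévissage**: for `E` bounded below with cohomology objects in `P` (or zero), every
`Hⁱ(RF E)` lies in the weak Serre class `Q`. -/
theorem good_of_isGE (E : DerivedCategory A) (a : ℤ)
    (hP : ∀ j : ℤ, IsZero ((homologyFunctor A j).obj E) ∨ P ((homologyFunctor A j).obj E))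
    (ha : ∀ j : ℤ, j < a → IsZero ((homologyFunctor A j).obj E))
    (i : ℤ) : Pr ((homologyFunctor B i).obj (RF.obj E)) := by
  have hT := (tD A).triangleLTGE_distinguished (i + 2) E
  have z₁ : ∀ m : ℤ,
      Pr ((homologyFunctor B m).obj (RF.obj (((tD A).truncLT (i + 2)).obj E))) := by
    intro m
    refine good_aux F RF β P hQ hF ((i + 1) - a).toNat (((tD A).truncLT (i + 2)).obj E)
      (i + 2 - 1) ?_ ?_ ?_ m
    · intro j
      by_cases hj : j < i + 2
      · have := isIso_H_truncLTι (i + 2) j hj E
        let ej := asIso ((homologyFunctor A j).map (((tD A).truncLTι (i + 2)).app E))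
        rcases hP j with h0 | h0
        · exact Or.inl (IsZero.of_iso h0 ej)
        · exact Or.inr (P.prop_of_iso ej.symm h0)
      · exact Or.inl (isZero_of_isLE (((tD A).truncLT (i + 2)).obj E) (i + 2 - 1) j (by omega))
    · intro j hj
      exact isZero_of_isLE (((tD A).truncLT (i + 2)).obj E) (i + 2 - 1) j (by omega)
    · intro j hj
      have hja : j < a := by omega
      have hjb : j < i + 2 := by omega
      have := isIso_H_truncLTι (i + 2) j hjb E
      exact IsZero.of_iso (ha j hja)
        (asIso ((homologyFunctor A j).map (((tD A).truncLTι (i + 2)).app E)))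
  have z₃ : ∀ m : ℤ, m < i + 2 →
      IsZero ((homologyFunctor B m).obj (RF.obj (((tD A).truncGE (i + 2)).obj E))) := by
    intro m hm
    exact isZero_of_lt F RF β _ (i + 2)
      (fun j hj => isZero_of_isGE (((tD A).truncGE (i + 2)).obj E) (i + 2) j hj) m hm
  exact prop_obj₂_of_distTriang F RF β hQ _ hT i (hQ.zero _ (z₃ (i - 1) (by omega))) (z₁ i)
    (hQ.zero _ (z₃ i (by omega))) (z₁ (i + 1))

end Groth.Agent.H6.RFSerre
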