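import Mathlib
import Groth.Agent.H6.RFSerre
import Groth.Agent.S1046
import Groth.Agent.S1007
import Groth.Agent.S0935
import Groth.Agent.S0031
import Groth.Agent.S11319
import Groth.Agent.S11115
import Groth.Agent.S6508
import Groth.Agent.H5.RlimMod.Core
import Groth.Agent.H5.RlimMod.Gap
import Groth.Agent.H5.RlimMod.ModExt
import Groth.Agent.H5.RlimMod.Cov
import Groth.Agent.H5.Rlim.Tower
import Groth.Agent.H33.HMapSite
import Groth.Agent.H45.AffineOpenVanishing
import Groth.Agent.H30.RpushQcoh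
import Groth.Agent.H31.GrothAb
import Groth.Agent.H31.RpushSupport
import Groth.Agent.H31.LocalD
import Groth.Agent.H8.QCohLocal

/-!
# The unbounded derived direct image along a qcqs morphism preserves `D_QCoh` (helper6)

* `exists_bound` : `S` quasi-compact, `f` qcqs: `Rᵖf_* G = 0` for `p ≥ N`, `G` quasi-coherent
  (module version of `S0031`).
* `isQCohD_Rpush_of_isGE` : bounded below case.
* `isZero_HD_Rpush_of_isLE` : `E ∈ D_QCoh^{≤ b}` (unbounded below!) ⇒ `H^m(Rf_*E) = 0` for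
  `m ≥ b + N + 1`.
* `uniform_bound`, `isQCohD_Rpush_of_compact`, `isQCohD_Rpush`.
-/

set_option autoImplicit false
universe u
open CategoryTheory CategoryTheory.Limits AlgebraicGeometry
attribute [local instance] HasDerivedCategory.standard

namespace Groth.Agent.H6.RpushQC

open DerivedCategory Groth.Agent.H31.Stalk Groth.Agent.H6.RFBound Groth.Agent.H6.PlusDev
open Groth.Agent.S1046

section Trunc

variable {X : Scheme.{u}}

theorem isQCohD_truncGE (E : DCoh.D X) (hE : DCoh.IsQCohD E) (a : ℤ) :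
    DCoh.IsQCohD (((tD X.Modules).truncGE a).obj E) := by
  intro j
  by_cases hj : a ≤ j
  · have := isIso_H_truncGEπ a j hj E
    exact weakSerre_qcoh.iso
      (asIso ((homologyFunctor X.Modules j).map (((tD X.Modules).truncGEπ a).app E))) (hE j)
  · exact weakSerre_qcoh.zero _
      (isZero_of_isGE (((tD X.Modules).truncGE a).obj E) a j (by omega))

theorem isQCohD_truncLT (E : DCoh.D X) (hE : DCoh.IsQCohD E) (a : ℤ) :
    DCoh.IsQCohD (((tD X.Modules).truncLT a).obj E) := by
  intro j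
  by_cases hj : j < a
  · have := isIso_H_truncLTι a j hj E
    exact weakSerre_qcoh.iso
      (asIso ((homologyFunctor X.Modules j).map (((tD X.Modules).truncLTι a).app E))).symm (hE j)
  · exact weakSerre_qcoh.zero _
      (isZero_of_isLE (((tD X.Modules).truncLT a).obj E) (a - 1) j (by omega))

end Trunc

section Bounded

variable {X S : Scheme.{u}} (f : X ⟶ S)

/-- Module version of `S0031`. -/
theorem exists_bound [QuasiCompact f] [QuasiSeparated f] [CompactSpace ↥S] :
    ∃ N : ℕ, ∀ G : X.Modules, G.IsQuasicoherent → ∀ p : ℕ, N ≤ p →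
      IsZero ((Coh.Rpush f p).obj G) := by
  obtain ⟨N, hN⟩ := Groth.Agent.S0031.result f
  refine ⟨N, fun G hG p hp => ?_⟩
  obtain ⟨e⟩ := Groth.Agent.S11319.result f G p
  have hz : IsZero (Coh.toAb ((Coh.Rpush f p).obj G)) := IsZero.of_iso (hN G hG p hp) e
  rw [IsZero.iff_id_eq_zero]
  exact (SheafOfModules.toSheaf S.ringCatSheaf).map_injective (hz.eq_of_src _ _)

variable [QuasiCompact f] [QuasiSeparated f] [DCoh.HasRpush f]

/-- The unit of `Rf_*`. -/
noncomputable abbrev β :=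
  (DCoh.pushKh f).totalRightDerivedUnit DerivedCategory.Qh
    (HomotopyCategory.quasiIso X.Modules (ComplexShape.up ℤ))

/-- Bounded below case. -/
theorem isQCohD_Rpush_of_isGE (E : DCoh.D X) (hE : DCoh.IsQCohD E) (a : ℤ) (hGE : E.IsGE a) :
    DCoh.IsQCohD ((DCoh.Rpush f).obj E) := by
  have := hGE
  have : IsGrothendieckAbelian.{u} X.Modules :=
    Groth.Agent.H31.GrothAb.isGrothendieckAbelian (Opens.grothendieckTopology X) X.ringCatSheaf
  intro i
  let P : ObjectProperty X.Modules := fun G => Coh.IsQCoh G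
  have hF : ∀ G : X.Modules, P.isoClosure G → ∀ p : ℕ,
      (((Scheme.Modules.pushforward f).rightDerived p).obj G).IsQuasicoherent := by
    intro G hG p
    obtain ⟨G', hG', ⟨e⟩⟩ := hG
    have : G'.IsQuasicoherent := hG'
    have := Groth.Agent.H30.RpushQcoh.isQCoh_Rpush f G' p
    exact weakSerre_qcoh.iso (((Scheme.Modules.pushforward f).rightDerived p).mapIso e.symm)
      (Groth.Agent.H30.RpushQcoh.isQCoh_Rpush f G' p)
  exact Groth.Agent.H6.RFSerre.good_of_isGE (Scheme.Modules.pushforward f) (DCoh.Rpush f) (β f)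
    P.isoClosure weakSerre_qcoh hF E a (fun j => Or.inr (P.le_isoClosure _ (hE j)))
    (fun j hj => isZero_of_isGE E a j hj) i

/-- Bounded vanishing. -/
theorem isZero_HD_Rpush_of_bounded (N : ℕ)
    (hN : ∀ G : X.Modules, G.IsQuasicoherent → ∀ p : ℕ, N ≤ p → IsZero ((Coh.Rpush f p).obj G))
    (E : DCoh.D X) (hE : DCoh.IsQCohD E) (a b : ℤ)
    (hab : ∀ i : ℤ, i < a ∨ b < i → IsZero (DCoh.HD E i)) (i : ℤ) (hi : i < a ∨ b + N - 1 < i) :
    IsZero (DCoh.HD ((DCoh.Rpush f).obj E) i) := by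
  have : IsGrothendieckAbelian.{u} X.Modules :=
    Groth.Agent.H31.GrothAb.isGrothendieckAbelian (Opens.grothendieckTopology X) X.ringCatSheaf
  let P : ObjectProperty X.Modules := fun G => Coh.IsQCoh G
  have hF' : ∀ G : X.Modules, P.isoClosure G → ∀ p : ℕ, N ≤ p →
      IsZero (((Scheme.Modules.pushforward f).rightDerived p).obj G) := by
    intro G hG p hp
    obtain ⟨G', hG', ⟨e⟩⟩ := hG
    exact IsZero.of_iso (hN G' hG' p hp) (((Scheme.Modules.pushforward f).rightDerived p).mapIso e)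
  exact Groth.Agent.H6.RFBound.bounds (Scheme.Modules.pushforward f) (DCoh.Rpush f) (β f)
    P.isoClosure N hF' E (fun j => P.le_isoClosure _ (hE j)) a b hab i hi

end Bounded

section Affine

open Groth.Agent.H5.RlimMod

/-- Hypercohomology over an affine open of a bounded below object with quasi-coherent cohomology
vanishes above its cohomological amplitude. -/
theorem subsingleton_HDU_of_affine (S : Scheme.{u}) (Y : DerivedCategory (ModSite.Mod (shX S)))
    (hY : ∀ i : ℤ, Coh.IsQCoh (X := S) ((homologyFunctor (ModSite.Mod (shX S)) i).obj Y))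
    (a c : ℤ) (hGEa : Y.IsGE a)
    (hc : ∀ j : ℤ, c < j → IsZero ((homologyFunctor (ModSite.Mod (shX S)) j).obj Y))
    {W : S.Opens} (hW : IsAffineOpen W) (j : ℤ) (hj : c < j) :
    Subsingleton ((modSec (shX S)).HDU Y j W) := by
  have : HasExt.{u + 1} (ModSite.Mod (shX S)) := hasExt_of_hasDerivedCategory _
  have := hGEa
  obtain ⟨a', ha'1, ha'2⟩ : ∃ a' : ℤ, a' ≤ a ∧ a' ≤ c + 1 :=
    ⟨min a (c + 1), min_le_left _ _, min_le_right _ _⟩
  have hGE : Y.IsGE a' := TStructure.t.isGE_of_ge Y a' a ha'1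
  have hLE0 : Y.IsLE c := (isLE_iff Y c).2 hc
  have hk : (((c + 1 - a').toNat : ℕ) : ℤ) = c + 1 - a' := Int.toNat_of_nonneg (by omega)
  have hLE : Y.IsLE (a' + ((c + 1 - a').toNat : ℕ) - 1) :=
    TStructure.t.isLE_of_le Y c _ (by omega)
  refine vanishing_d ((modSec (shX S)).P W) 0
    (c + 1 - a').toNat a' Y hGE hLE ?_ j (by push_cast; omega)
  intro q r hr
  obtain ⟨r', rfl⟩ : ∃ r' : ℕ, r = ((r' + 1 : ℕ) : ℤ) :=
    ⟨(r - 1).toNat, by push_cast at hr ⊢; omega⟩
  have : SheafOfModules.IsQuasicoherent (R := S.ringCatSheaf)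
      ((homologyFunctor (ModSite.Mod (shX S)) q).obj Y) := hY q
  have hs : Subsingleton (Abelian.Ext.{u + 1} ((modSec (shX S)).P W)
      ((homologyFunctor (ModSite.Mod (shX S)) q).obj Y) (r' + 1)) :=
    subsingleton_ext_freeOn (shX S) W _ (r' + 1)
      (Groth.Agent.H45.AffineVanishing.subsingleton_HU_of_isAffineOpen (X := S)
        ((homologyFunctor (ModSite.Mod (shX S)) q).obj Y) hW r')
  exact Groth.Agent.H33.RlimTrunc.subsingleton_hom_shift
    ((singleFunctor (ModSite.Mod (shX S)) 0).obj ((homologyFunctor (ModSite.Mod (shX S)) q).obj Y))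
    0 inferInstance inferInstance ((homologyFunctor (ModSite.Mod (shX S)) q).obj Y)
    ((singleFunctorCompHomologyFunctorIso (ModSite.Mod (shX S)) 0).app _)
    ((modSec (shX S)).P W)
    ((r' + 1 : ℕ) : ℤ) (r' + 1) (by simp) hs

/-- A derived limit of a tower of bounded below objects of `D_QCoh(S)` whose cohomology vanishes
above degree `c` has cohomology vanishing above degree `c + 1`. -/
theorem isZero_homology_of_isRlimVia (S : Scheme.{u})
    (K : ℕ → DerivedCategory (ModSite.Mod (shX S))) (t : ∀ n, K (n + 1) ⟶ K n) (hp : HasProduct K)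
    (L : DerivedCategory (ModSite.Mod (shX S))) (a : ∀ n, L ⟶ K n)
    (hL : CohCx.IsRlimVia K t L a) (c : ℤ)
    (hKq : ∀ (n : ℕ) (i : ℤ),
      Coh.IsQCoh (X := S) ((homologyFunctor (ModSite.Mod (shX S)) i).obj (K n)))
    (hKge : ∀ n : ℕ, ∃ a : ℤ, (K n).IsGE a)
    (hKv : ∀ (n : ℕ) (j : ℤ), c < j →
      IsZero ((homologyFunctor (ModSite.Mod (shX S)) j).obj (K n)))
    (m : ℤ) (hm : c + 2 ≤ m) :
    IsZero ((homologyFunctor (ModSite.Mod (shX S)) m).obj L) := by
  have : IsGrothendieckAbelian.{u} (ModSite.Mod (shX S)) :=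
    Groth.Agent.H31.GrothAb.isGrothendieckAbelian _ (ModSite.ringSh (shX S))
  have hsub : ∀ (n : ℕ) (W : S.Opens), IsAffineOpen W → ∀ j : ℤ, c < j →
      Subsingleton ((modSec (shX S)).HDU (K n) j W) := by
    intro n W hW j hj
    obtain ⟨a₀, ha₀⟩ := hKge n
    exact subsingleton_HDU_of_affine S (K n) (hKq n) a₀ c ha₀ (hKv n) hW j hj
  have hB : ∀ U : S.Opens, ∃ (ι : Type u) (Y : ι → S.Opens) (g : ∀ i, Y i ⟶ U),
      Sieve.ofArrows Y g ∈ Opens.grothendieckTopology S U ∧ ∀ i, Y i ∈ S.affineOpens :=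
    fun U => Groth.Agent.H33.HMapSite.basis_cover (X := S.carrier) S.affineOpens
      S.isBasis_affineOpens U
  have hinj : ∀ V : S.Opens, Function.Injective
      ((modSec (shX S)).sc ((homologyFunctor (ModSite.Mod (shX S)) m).map (a 0)) V) := by
    intro V
    refine (modSec (shX S)).sections_injective K t L a hL V m 0 (fun T hT' => ?_)
    obtain ⟨ι, Y, g, hg, hcov, hY⟩ := exists_family_in S.affineOpens hB V T hT'
    refine ⟨ι, Y, g, hg, hcov, fun i => ⟨?_, fun k => ?_⟩⟩
    · have : ∀ n, Subsingleton ((modSec (shX S)).HDU (K n) (m - 1) (Y i)) :=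
        fun n => hsub n (Y i) (hY i) (m - 1) (by omega)
      intro x
      exact ⟨x, Subsingleton.elim _ _⟩
    · have : Subsingleton ((modSec (shX S)).HDU (K (0 + k)) m (Y i)) :=
        hsub (0 + k) (Y i) (hY i) m (by omega)
      intro x y _
      exact Subsingleton.elim x y
  have hz0 : IsZero ((homologyFunctor (ModSite.Mod (shX S)) m).obj (K 0)) := hKv 0 m (by omega)
  have hsec : ∀ V : S.Opens,
      Subsingleton ((modSec (shX S)).Γ ((homologyFunctor (ModSite.Mod (shX S)) m).obj L) V) := by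
    intro V
    refine ⟨fun z₁ z₂ => hinj V ?_⟩
    apply ((modSec (shX S)).eqv V _).symm.injective
    exact hz0.eq_of_tgt _ _
  rw [IsZero.iff_id_eq_zero]
  have := (modSec (shX S)).faithful
  apply (modSec (shX S)).T.map_injective
  apply Sheaf.hom_ext
  apply NatTrans.ext
  funext V
  apply AddCommGrpCat.hom_ext
  apply AddMonoidHom.ext
  intro z
  exact (hsec V.unop).elim _ _

end Affine

section Main

variable {X S : Scheme.{u}} (f : X ⟶ S) [QuasiCompact f] [QuasiSeparated f] [DCoh.HasRpush f]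

/-- **Key vanishing**: for `E ∈ D_QCoh(X)` with `Hʲ(E) = 0` for `j > b` (no lower bound), and `N`
a bound for the cohomological dimension of `f_*` on quasi-coherent modules,
`H^m(Rf_*E) = 0` for `m ≥ b + N + 1`. -/
theorem isZero_HD_Rpush_of_isLE (N : ℕ)
    (hN : ∀ G : X.Modules, G.IsQuasicoherent → ∀ p : ℕ, N ≤ p → IsZero ((Coh.Rpush f p).obj G))
    (E : DCoh.D X) (hE : DCoh.IsQCohD E) (b : ℤ) (hb : E.IsLE b) (m : ℤ) (hm : b + N + 1 ≤ m) :
    IsZero (DCoh.HD ((DCoh.Rpush f).obj E) m) := by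
  have := hb
  have : IsGrothendieckAbelian.{u} X.Modules :=
    Groth.Agent.H31.GrothAb.isGrothendieckAbelian (Opens.grothendieckTopology X) X.ringCatSheaf
  have : IsGrothendieckAbelian.{u} S.Modules :=
    Groth.Agent.H31.GrothAb.isGrothendieckAbelian (Opens.grothendieckTopology S) S.ringCatSheaf
  have hp1 : HasProduct (CohCx.truncTower E) := Groth.Agent.H5.Rlim.hasProduct_nat _
  have h1 := Groth.Agent.S1007.aux X E hE hp1
  have h1' : DCoh.IsRlim (CohCx.truncTower E) (CohCx.truncTowerMap E) E := by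
    obtain ⟨c, hc⟩ := h1
    exact ⟨_, c, hc⟩
  have hp2 : HasProduct (fun n => (DCoh.Rpush f).obj (CohCx.truncTower E n)) :=
    Groth.Agent.H5.Rlim.hasProduct_nat _
  obtain ⟨a', c', hT⟩ := Groth.Agent.S0935.result f (CohCx.truncTower E) (CohCx.truncTowerMap E) E h1'
  have ha : Pi.lift (fun n => a' ≫ Pi.π (fun n => (DCoh.Rpush f).obj (CohCx.truncTower E n)) n) =
      a' := by
    apply Pi.hom_ext
    intro n
    simp
  have h2 : CohCx.IsRlimVia (fun n => (DCoh.Rpush f).obj (CohCx.truncTower E n))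
      (fun n => (DCoh.Rpush f).map (CohCx.truncTowerMap E n)) ((DCoh.Rpush f).obj E)
      (fun n => a' ≫ Pi.π (fun n => (DCoh.Rpush f).obj (CohCx.truncTower E n)) n) :=
    ⟨c', by rw [ha]; exact hT⟩
  have hq : ∀ n : ℕ, DCoh.IsQCohD (CohCx.truncTower E n) := fun n => isQCohD_truncGE E hE _
  have hK'q : ∀ n : ℕ, DCoh.IsQCohD ((DCoh.Rpush f).obj (CohCx.truncTower E n)) := fun n =>
    isQCohD_Rpush_of_isGE f _ (hq n) (-(n : ℤ)) inferInstance
  have hK'v : ∀ (n : ℕ) (j : ℤ), b + N - 1 < j →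
      IsZero (DCoh.HD ((DCoh.Rpush f).obj (CohCx.truncTower E n)) j) := fun n j hj =>
    isZero_HD_Rpush_of_bounded f N hN _ (hq n) (-(n : ℤ)) b
      (fun i hi => hi.elim (fun h => isZero_of_isGE (CohCx.truncTower E n) (-(n : ℤ)) i h)
        (fun h => isZero_of_isLE (CohCx.truncTower E n) b i h)) j (Or.inr hj)
  have hK'ge : ∀ n : ℕ, ∃ a : ℤ, ((DCoh.Rpush f).obj (CohCx.truncTower E n)).IsGE a := fun n =>
    ⟨-(n : ℤ), Groth.Agent.S11115.result f (CohCx.truncTower E n) (-(n : ℤ))⟩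
  exact isZero_homology_of_isRlimVia S (fun n => (DCoh.Rpush f).obj (CohCx.truncTower E n))
    (fun n => (DCoh.Rpush f).map (CohCx.truncTowerMap E n)) hp2 ((DCoh.Rpush f).obj E) _ h2
    (b + N - 1) hK'q hK'ge hK'v m (by omega)

/-- `S0999`. -/
theorem uniform_bound [CompactSpace ↥S] :
    ∃ N : ℤ, ∀ (E : DCoh.D X), DCoh.IsQCohD E → E.IsLE 0 → ∀ m : ℤ, N ≤ m →
      IsZero (DCoh.HD ((DCoh.Rpush f).obj E) m) := by
  obtain ⟨N, hN⟩ := exists_bound f
  exact ⟨(N : ℤ) + 1, fun E hE h0 m hm => isZero_HD_Rpush_of_isLE f N hN E hE 0 h0 m (by omega)⟩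

/-- `S0998` over a quasi-compact base. -/
theorem isQCohD_Rpush_of_compact [CompactSpace ↥S] (K : DCoh.D X) (hK : DCoh.IsQCohD K) :
    DCoh.IsQCohD ((DCoh.Rpush f).obj K) := by
  have : IsGrothendieckAbelian.{u} X.Modules :=
    Groth.Agent.H31.GrothAb.isGrothendieckAbelian (Opens.grothendieckTopology X) X.ringCatSheaf
  obtain ⟨N, hN⟩ := exists_bound f
  intro i
  have hT := (tD X.Modules).triangleLTGE_distinguished (i - N) K
  have hLT : ∀ m : ℤ, i ≤ m → IsZero (DCoh.HD ((DCoh.Rpush f).obj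
      (((tD X.Modules).truncLT (i - N)).obj K)) m) := fun m hm =>
    isZero_HD_Rpush_of_isLE f N hN _ (isQCohD_truncLT K hK _) (i - N - 1) inferInstance m
      (by omega)
  have hGE := isQCohD_Rpush_of_isGE f _ (isQCohD_truncGE K hK (i - N)) (i - N) inferInstance
  exact Groth.Agent.H6.RFSerre.prop_obj₂_of_distTriang (Scheme.Modules.pushforward f)
    (DCoh.Rpush f) (β f) weakSerre_qcoh _ hT i (hGE (i - 1))
    (weakSerre_qcoh.zero _ (hLT i le_rfl)) (hGE i)
    (weakSerre_qcoh.zero _ (hLT (i + 1) (by omega)))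

end Main

section Local

/-- Quasi-coherence can be checked on the affine opens. -/
theorem isQuasicoherent_of_forall_affine_ι {S : Scheme.{u}} (M : S.Modules)
    (h : ∀ V : S.Opens, IsAffineOpen V →
      ((Scheme.Modules.restrictFunctor V.ι).obj M).IsQuasicoherent) : M.IsQuasicoherent := by
  apply Groth.Agent.H8.isQuasicoherent_of_forall_affine
  intro U hU
  have := h U hU
  let e : Scheme.Modules.restrictFunctor hU.fromSpec ≅
      Scheme.Modules.restrictFunctor U.ι ⋙ Scheme.Modules.restrictFunctor hU.isoSpec.inv :=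
    Scheme.Modules.restrictFunctorCongr hU.isoSpec_inv_ι.symm ≪≫
      Scheme.Modules.restrictFunctorComp _ _
  have : ((Scheme.Modules.restrictFunctor hU.isoSpec.inv).obj
      ((Scheme.Modules.restrictFunctor U.ι).obj M)).IsQuasicoherent :=
    Scheme.Modules.isQuasicoherent_restrictFunctor _ _
  exact weakSerre_qcoh.iso (e.app M).symm this

variable {X S : Scheme.{u}} (f : X ⟶ S) [QuasiCompact f] [QuasiSeparated f] [DCoh.HasRpush f]

/-- **`S0998`**: `Rf_*` preserves `D_QCoh` for `f` quasi-compact and quasi-separated. -/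
theorem isQCohD_Rpush (K : DCoh.D X) (hK : DCoh.IsQCohD K) :
    DCoh.IsQCohD ((DCoh.Rpush f).obj K) := by
  intro i
  apply isQuasicoherent_of_forall_affine_ι
  intro V hV
  have : IsAffine (V : Scheme.{u}) := hV
  have : CompactSpace ↥(V : Scheme.{u}) := inferInstance
  have := Groth.Agent.H31.RpushSupport.hasRpush (f ∣_ V)
  obtain ⟨e⟩ := Groth.Agent.S6508.result f V
  have hK' : DCoh.IsQCohD ((DCoh.restrictD (f ⁻¹ᵁ V).ι).obj K) := by
    intro q
    have := hK q
    exact weakSerre_qcoh.iso (Groth.Agent.H31.LocalD.HDRestrictIso (f ⁻¹ᵁ V) K q).symm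
      (Scheme.Modules.isQuasicoherent_restrictFunctor (f ⁻¹ᵁ V).ι (DCoh.HD K q))
  have h := isQCohD_Rpush_of_compact (f ∣_ V) _ hK' i
  have e1 := Groth.Agent.H31.LocalD.HDRestrictIso V ((DCoh.Rpush f).obj K) i
  have e2 : DCoh.HD ((DCoh.restrictD V.ι).obj ((DCoh.Rpush f).obj K)) i ≅
      DCoh.HD ((DCoh.Rpush (f ∣_ V)).obj ((DCoh.restrictD (f ⁻¹ᵁ V).ι).obj K)) i :=
    (homologyFunctor _ i).mapIso (e.app K)
  exact weakSerre_qcoh.iso (e2.symm ≪≫ e1) h

end Local

end Groth.Agent.H6.RpushQC
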