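import Mathlib
import Groth.Agent.H33.UnbDer
import Groth.Agent.H5.KInj.DerivedAdj

/-!
# Leray's acyclicity lemma for bounded below complexes, on the unbounded derived category
(helper6 library)

`A` Grothendieck abelian, `F : A ⥤ B` additive left exact, `RF : D(A) ⥤ D(B)` a total right derived
functor of `F` with unit `β`.

* `acyclic_of_iso`, `acyclic_mappingCone_of_quasiIso`.
* `isIso_unit_of_acyclic_cone` : if `f : K ⟶ I` is a quasi-isomorphism to a K-injective complex
  and `F(cone f)` is acyclic, then `β_K : F(K) ⟶ RF(K)` is an isomorphism.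
* `map_acyclic_of_cycles` : if `K` is acyclic and `R¹F` vanishes on all cycle objects of `K`,
  then `F(K)` is acyclic.
* `cycles_FAcyc_of_isStrictlyGE` : the cycles of a bounded below acyclic complex with `F`-acyclic
  terms are `F`-acyclic.
* `isIso_unit_of_isStrictlyGE` : `β_K` is an isomorphism for `K` bounded below with `F`-acyclic
  terms.
-/

set_option autoImplicit false
universe w w' v u v' u'
open CategoryTheory CategoryTheory.Limits DerivedCategory

namespace Groth.Agent.H6.LerayBdd

open Groth.Agent.H33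

section General

variable {B : Type u'} [Category.{v'} B] [Abelian B]

lemma acyclic_of_iso {K L : CochainComplex B ℤ} (e : K ≅ L) (h : K.Acyclic) : L.Acyclic := by
  intro i
  rw [HomologicalComplex.exactAt_iff_isZero_homology]
  exact IsZero.of_iso ((h i).isZero_homology)
    ((HomologicalComplex.homologyFunctor B _ i).mapIso e.symm)

lemma acyclic_mappingCone_of_quasiIso {K L : CochainComplex B ℤ} (f : K ⟶ L) [QuasiIso f] :
    (CochainComplex.mappingCone f).Acyclic := by
  have h : HomotopyCategory.quasiIso B (ComplexShape.up ℤ)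
      ((HomotopyCategory.quotient B (ComplexShape.up ℤ)).map f) := by
    rw [HomotopyCategory.quotient_map_mem_quasiIso_iff, HomologicalComplex.mem_quasiIso_iff]
    infer_instance
  rw [HomotopyCategory.quasiIso_eq_trW_subcategoryAcyclic] at h
  have := ((HomotopyCategory.subcategoryAcyclic B).trW_iff_of_distinguished _
    (HomotopyCategory.mappingCone_triangleh_distinguished f)).1 h
  exact (HomotopyCategory.quotient_obj_mem_subcategoryAcyclic_iff_exactAt _).1 this

end General

variable {A : Type u} [Category.{v} A] [Abelian A] [IsGrothendieckAbelian.{v} A]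
  [HasDerivedCategory.{w} A]
  {B : Type u'} [Category.{v'} B] [Abelian B] [HasDerivedCategory.{w'} B]
  (F : A ⥤ B) [F.Additive]
  (RF : DerivedCategory A ⥤ DerivedCategory B)
  (β : F.mapHomotopyCategory (ComplexShape.up ℤ) ⋙ DerivedCategory.Qh ⟶ DerivedCategory.Qh ⋙ RF)
  [RF.IsRightDerivedFunctor β (HomotopyCategory.quasiIso A (ComplexShape.up ℤ))]

theorem isIso_unit_of_acyclic_cone {K I : CochainComplex A ℤ} (f : K ⟶ I) [I.IsKInjective]
    [QuasiIso f]
    (hcone : ((F.mapHomologicalComplex (ComplexShape.up ℤ)).obj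
      (CochainComplex.mappingCone f)).Acyclic) :
    IsIso (β.app ((HomotopyCategory.quotient A (ComplexShape.up ℤ)).obj K)) := by
  let Ff := (F.mapHomologicalComplex (ComplexShape.up ℤ)).map f
  have hacyc : (CochainComplex.mappingCone Ff).Acyclic :=
    acyclic_of_iso (CochainComplex.mappingCone.mapHomologicalComplexIso f F) hcone
  have hFf : HomotopyCategory.quasiIso B (ComplexShape.up ℤ)
      ((HomotopyCategory.quotient B (ComplexShape.up ℤ)).map Ff) := by
    rw [HomotopyCategory.quasiIso_eq_trW_subcategoryAcyclic]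
    exact ⟨_, _, _, HomotopyCategory.mappingCone_triangleh_distinguished Ff,
      (HomotopyCategory.quotient_obj_mem_subcategoryAcyclic_iff_exactAt _).2 hacyc⟩
  have i1 : IsIso ((F.mapHomotopyCategory (ComplexShape.up ℤ) ⋙ Qh).map
      ((HomotopyCategory.quotient A (ComplexShape.up ℤ)).map f)) :=
    Localization.inverts Qh (HomotopyCategory.quasiIso B (ComplexShape.up ℤ)) _ hFf
  have i2 : IsIso ((Qh ⋙ RF).map ((HomotopyCategory.quotient A (ComplexShape.up ℤ)).map f)) := by
    have : IsIso (Q.map f) := inferInstance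
    exact inferInstanceAs (IsIso (RF.map (Q.map f)))
  have i3 : IsIso (β.app ((HomotopyCategory.quotient A (ComplexShape.up ℤ)).obj I)) :=
    Groth.Agent.H5.KInjDer.isIso_app_quotient_of_isKInjective _ RF β I
  have nat := β.naturality ((HomotopyCategory.quotient A (ComplexShape.up ℤ)).map f)
  have e : β.app ((HomotopyCategory.quotient A (ComplexShape.up ℤ)).obj K) =
      (F.mapHomotopyCategory (ComplexShape.up ℤ) ⋙ Qh).map
        ((HomotopyCategory.quotient A (ComplexShape.up ℤ)).map f) ≫
      β.app ((HomotopyCategory.quotient A (ComplexShape.up ℤ)).obj I) ≫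
      inv ((Qh ⋙ RF).map ((HomotopyCategory.quotient A (ComplexShape.up ℤ)).map f)) := by
    rw [← Category.assoc, nat, Category.assoc, IsIso.hom_inv_id, Category.comp_id]
  rw [e]
  infer_instance

omit [HasDerivedCategory.{w} A] [HasDerivedCategory.{w'} B] in
lemma FAcyc_of_injective (X : A) [Injective X] : UnbDer.FAcyc F X := by
  intro i hi
  obtain ⟨j, rfl⟩ : ∃ j, i = j + 1 := ⟨i - 1, by omega⟩
  exact F.isZero_rightDerived_obj_injective_succ j X

omit [HasDerivedCategory.{w} A] [HasDerivedCategory.{w'} B] in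
lemma map_acyclic_of_cycles [PreservesFiniteLimits F] (Δ : RDer.DerivedLES F)
    (K : CochainComplex A ℤ) (hK : K.Acyclic)
    (hZ : ∀ j, IsZero ((F.rightDerived 1).obj (K.cycles j))) :
    ((F.mapHomologicalComplex (ComplexShape.up ℤ)).obj K).Acyclic := by
  intro j
  obtain ⟨i, rfl⟩ : ∃ i, j = i + 1 := ⟨j - 1, by omega⟩
  rw [HomologicalComplex.exactAt_iff' _ i (i + 1) (i + 1 + 1) (by simp) (by simp),
    ShortComplex.exact_iff_exact_up_to_refinements]
  intro T x₂ hx₂
  change T ⟶ F.obj (K.X (i + 1)) at x₂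
  have hx₂' : x₂ ≫ F.map (K.d (i + 1) (i + 1 + 1)) = 0 := hx₂
  have hS₁ := UnbDer.cycles_shortExact K hK (i + 1)
  have hS₀ := UnbDer.cycles_shortExact K hK i
  have : Mono (F.map (K.iCycles (i + 1 + 1))) := inferInstance
  have h0 : x₂ ≫ F.map (K.toCycles (i + 1) (i + 1 + 1)) = 0 := by
    rw [← cancel_mono (F.map (K.iCycles (i + 1 + 1))), Category.assoc, ← F.map_comp,
      K.toCycles_i, hx₂', zero_comp]
  have hex : (ShortComplex.mk (F.map (K.iCycles (i + 1)))
      (F.map (K.toCycles (i + 1) (i + 1 + 1)))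
      (by rw [← F.map_comp, UnbDer.iCycles_toCycles, F.map_zero])).Exact :=
    hS₁.exact.map_of_mono_of_preservesKernel F hS₁.mono_f inferInstance
  obtain ⟨T', π, hπ, y, hy⟩ := hex.exact_up_to_refinements x₂ h0
  have : Epi (F.map (K.toCycles i (i + 1))) := UnbDer.epi_map_g F Δ _ hS₀ (hZ i)
  obtain ⟨T'', π', hπ', z, hz⟩ :=
    surjective_up_to_refinements_of_epi (F.map (K.toCycles i (i + 1))) y
  refine ⟨T'', π' ≫ π, epi_comp _ _, z, ?_⟩
  have key := UnbRes.refine_comp π π' x₂ y (F.map (K.iCycles (i + 1))) z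
    (F.map (K.toCycles i (i + 1))) hy hz
  rw [← F.map_comp, K.toCycles_i] at key
  exact key

omit [HasDerivedCategory.{w} A] [HasDerivedCategory.{w'} B] in
lemma cycles_FAcyc_of_isStrictlyGE (Δ : RDer.DerivedLES F) (K : CochainComplex A ℤ) (a : ℤ)
    [K.IsStrictlyGE a] (hK : K.Acyclic) (hP : ∀ m, UnbDer.FAcyc F (K.X m)) :
    ∀ j, UnbDer.FAcyc F (K.cycles j) := by
  have h1 := UnbDer.FAcyc_h1 F
  have h2 := UnbDer.FAcyc_h2 F Δ
  have base : ∀ j, j < a → UnbDer.FAcyc F (K.cycles j) := fun j hj =>
    UnbRes.P_of_isZero (UnbDer.FAcyc F) h1 h2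
      (IsZero.of_mono (K.iCycles j) (CochainComplex.isZero_of_isStrictlyGE K a j hj))
  have step : ∀ j, UnbDer.FAcyc F (K.cycles j) → UnbDer.FAcyc F (K.cycles (j + 1)) :=
    fun j hj => (h2 _ (UnbDer.cycles_shortExact K hK j) hj).1 (hP j)
  have main : ∀ n : ℕ, UnbDer.FAcyc F (K.cycles (a - 1 + n)) := by
    intro n
    induction n with
    | zero => exact base _ (by push_cast; omega)
    | succ n ih =>
      have := step _ ih
      have e : a - 1 + ((n + 1 : ℕ) : ℤ) = a - 1 + (n : ℤ) + 1 := by push_cast; ring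
      rw [e]
      exact this
  intro j
  by_cases hj : j < a
  · exact base j hj
  · obtain ⟨n, rfl⟩ : ∃ n : ℕ, j = a - 1 + n := ⟨(j - a + 1).toNat, by omega⟩
    exact main n

theorem isIso_unit_of_isStrictlyGE [PreservesFiniteLimits F] (K : CochainComplex A ℤ) (a : ℤ)
    [K.IsStrictlyGE a] (hK : ∀ m, UnbDer.FAcyc F (K.X m)) :
    IsIso (β.app ((HomotopyCategory.quotient A (ComplexShape.up ℤ)).obj K)) := by
  obtain ⟨Δ⟩ := Groth.Agent.S16463.result F
  have h1 := UnbDer.FAcyc_h1 F
  have h2 := UnbDer.FAcyc_h2 F Δ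
  obtain ⟨L, i, hi, hL, hge⟩ :=
    CochainComplex.Plus.modelCategoryQuillen.exists_quasiIso_injective K a
  have := hi
  have := hge
  have := hL
  have : L.IsKInjective := CochainComplex.isKInjective_of_injective L a
  have hLP : ∀ m, UnbDer.FAcyc F (L.X m) := fun m => FAcyc_of_injective F (L.X m)
  have hcP : ∀ m, UnbDer.FAcyc F ((CochainComplex.mappingCone i).X m) := fun m =>
    UnbRes.P_of_iso (UnbDer.FAcyc F) h1 h2
      (HomologicalComplex.homotopyCofiber.XIsoBiprod i m (m + 1) rfl).symm
      (UnbRes.P_biprod (UnbDer.FAcyc F) h2 (hK (m + 1)) (hLP m))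
  have hcGE : (CochainComplex.mappingCone i).IsStrictlyGE (a - 1) := by
    rw [CochainComplex.isStrictlyGE_iff]
    intro m hm
    refine IsZero.of_iso ?_ (HomologicalComplex.homotopyCofiber.XIsoBiprod i m (m + 1) rfl)
    rw [biprod_isZero_iff]
    exact ⟨CochainComplex.isZero_of_isStrictlyGE K a _ (by omega),
      CochainComplex.isZero_of_isStrictlyGE L a _ (by omega)⟩
  have hcA : (CochainComplex.mappingCone i).Acyclic := acyclic_mappingCone_of_quasiIso i
  have hcZ := cycles_FAcyc_of_isStrictlyGE F Δ _ (a - 1) hcA hcP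
  have hFc := map_acyclic_of_cycles F Δ _ hcA (fun j => hcZ j 1 Nat.one_pos)
  exact isIso_unit_of_acyclic_cone F RF β i hFc

end Groth.Agent.H6.LerayBdd
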