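import Mathlib
import Groth.Agent.H6.RpushQC
import Groth.Agent.H6.LerayBdd
import Groth.Agent.H31.StupidTower
import Groth.Agent.H31.RpushRestrict
import Groth.Agent.H30.CompDer
import Groth.Agent.H30.ExtZeroSch
import Groth.Agent.H30.RpushQcoh

/-!
# The unit `f_*F ⟶ Rf_*F` is an isomorphism on complexes of `f_*`-acyclic quasi-coherent modules
(helper6)

* abstract lemmas on homology sequences: `prop_H_Q`, `isIso_H_Q_map`, `prop_obj₁_of_distTriang`,
  `isZero_obj₁_of_distTriang`, `isIso_H_mor₂_of_isZero`, `isIso_H_RF_map_of_isZero`.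
* `isIso_uC_iff` : the complex-level unit `uC f` is an iso at `K` iff the homotopy-level unit is.
* `isIso_uC_of_bound` : `f` qcqs with a uniform bound on the cohomological dimension of `f_*` on
  quasi-coherent modules, `F` an (unbounded) complex of quasi-coherent `f_*`-acyclic modules ⇒
  `f_*F ⟶ Rf_*F` is an isomorphism.
* `isIso_of_forall_restrictD` : isomorphisms of `D(O_S)` can be detected on an open cover.
* `isIso_uC_of_qcqs` : the same for any qcqs `f` (localising on the base).
-/

set_option autoImplicit false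
universe w w' v u v' u'
open CategoryTheory CategoryTheory.Limits AlgebraicGeometry

namespace Groth.Agent.H6.AcycUnit

open DerivedCategory Pretriangulated Groth.Agent.H6.PlusDev

section Abstract

variable {B : Type u'} [Category.{v'} B] [Abelian B]

theorem prop_homology {Pr : B → Prop} (hQ : WeakSerre Pr) (S : ShortComplex B)
    (h₁ : Pr S.X₁) (h₂ : Pr S.X₂) (h₃ : Pr S.X₃) : Pr S.homology :=
  hQ.iso S.homologyIsoCokernelLift.symm (hQ.coker _ h₁ (hQ.ker _ h₂ h₃))

theorem isIso_homologyMap_of_isIso_f {K L : CochainComplex B ℤ} (φ : K ⟶ L) (a n : ℤ)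
    (h : ∀ q, a ≤ q → IsIso (φ.f q)) (hn : a < n) :
    IsIso (HomologicalComplex.homologyMap φ n) := by
  have h1 : a ≤ (ComplexShape.up ℤ).prev n := by rw [CochainComplex.prev]; omega
  have h3 : a ≤ (ComplexShape.up ℤ).next n := by rw [CochainComplex.next]; omega
  have i1 := h _ h1
  have i2 := h n hn.le
  have i3 := h _ h3
  exact ShortComplex.isIso_homologyMap_of_epi_of_isIso_of_mono'
    ((HomologicalComplex.shortComplexFunctor B (ComplexShape.up ℤ) n).map φ)
    (inferInstanceAs (Epi (φ.f _))) (inferInstanceAs (IsIso (φ.f _)))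
    (inferInstanceAs (Mono (φ.f _)))

variable [HasDerivedCategory.{w'} B]

theorem prop_H_Q {Pr : B → Prop} (hQ : WeakSerre Pr) (K : CochainComplex B ℤ)
    (h : ∀ n, Pr (K.X n)) (i : ℤ) : Pr ((homologyFunctor B i).obj (Q.obj K)) :=
  hQ.iso ((homologyFunctorFactors B i).app K).symm
    (prop_homology hQ (K.sc i) (h _) (h _) (h _))

theorem isIso_H_Q_map {K L : CochainComplex B ℤ} (φ : K ⟶ L) (a n : ℤ)
    (h : ∀ q, a ≤ q → IsIso (φ.f q)) (hn : a < n) :
    IsIso ((homologyFunctor B n).map (Q.map φ)) := by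
  have := isIso_homologyMap_of_isIso_f φ a n h hn
  exact (NatIso.isIso_map_iff (homologyFunctorFactors B n) φ).2 this

theorem prop_obj₁_of_distTriang {Pr : B → Prop} (hQ : WeakSerre Pr)
    (T : Triangle (DerivedCategory B)) (hT : T ∈ distTriang (DerivedCategory B)) (i : ℤ)
    (h₂' : Pr ((homologyFunctor B (i - 1)).obj T.obj₂))
    (h₃' : Pr ((homologyFunctor B (i - 1)).obj T.obj₃))
    (h₂ : Pr ((homologyFunctor B i).obj T.obj₂))
    (h₃ : Pr ((homologyFunctor B i).obj T.obj₃)) :
    Pr ((homologyFunctor B i).obj T.obj₁) :=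
  hQ.five
    ((homologyFunctor B (i - 1)).map T.mor₂)
    (HomologySequence.δ T (i - 1) i (by omega))
    ((homologyFunctor B i).map T.mor₁) ((homologyFunctor B i).map T.mor₂)
    (HomologySequence.comp_δ T hT (i - 1) i (by omega))
    (HomologySequence.δ_comp T hT (i - 1) i (by omega))
    (by rw [← Functor.map_comp, comp_distTriang_mor_zero₁₂ _ hT, Functor.map_zero])
    (HomologySequence.exact₃ T hT (i - 1) i (by omega))
    (HomologySequence.exact₁ T hT (i - 1) i (by omega))
    (HomologySequence.exact₂ T hT i)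
    h₂' h₃' h₂ h₃

theorem isZero_obj₁_of_distTriang
    (T : Triangle (DerivedCategory B)) (hT : T ∈ distTriang (DerivedCategory B)) (i : ℤ)
    (h' : IsIso ((homologyFunctor B (i - 1)).map T.mor₂))
    (h : IsIso ((homologyFunctor B i).map T.mor₂)) :
    IsZero ((homologyFunctor B i).obj T.obj₁) := by
  have hδ : HomologySequence.δ T (i - 1) i (by omega) = 0 := by
    rw [← cancel_epi ((homologyFunctor B (i - 1)).map T.mor₂),
      HomologySequence.comp_δ T hT (i - 1) i (by omega), comp_zero]
  have h0 : (homologyFunctor B i).map T.mor₁ = 0 := by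
    rw [← cancel_mono ((homologyFunctor B i).map T.mor₂), ← Functor.map_comp,
      comp_distTriang_mor_zero₁₂ _ hT, Functor.map_zero, zero_comp]
  have hm : Mono ((homologyFunctor B i).map T.mor₁) :=
    (HomologySequence.exact₁ T hT (i - 1) i (by omega)).mono_g hδ
  exact IsZero.of_mono_eq_zero _ h0

theorem isIso_H_mor₂_of_isZero
    (T : Triangle (DerivedCategory B)) (hT : T ∈ distTriang (DerivedCategory B)) (m : ℤ)
    (hz : IsZero ((homologyFunctor B m).obj T.obj₁))
    (hz' : IsZero ((homologyFunctor B (m + 1)).obj T.obj₁)) :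
    IsIso ((homologyFunctor B m).map T.mor₂) := by
  have hm : Mono ((homologyFunctor B m).map T.mor₂) :=
    (HomologySequence.exact₂ T hT m).mono_g (hz.eq_of_src _ _)
  have he : Epi ((homologyFunctor B m).map T.mor₂) :=
    (HomologySequence.exact₃ T hT m (m + 1) rfl).epi_f (hz'.eq_of_tgt _ _)
  exact isIso_of_mono_of_epi _

variable {A : Type u} [Category.{v} A] [Abelian A] [IsGrothendieckAbelian.{v} A]
  [HasDerivedCategory.{w} A]
  (F : A ⥤ B) [F.Additive]
  (RF : DerivedCategory A ⥤ DerivedCategory B)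
  (β : F.mapHomotopyCategory (ComplexShape.up ℤ) ⋙ DerivedCategory.Qh ⟶ DerivedCategory.Qh ⋙ RF)
  [RF.IsRightDerivedFunctor β (HomotopyCategory.quasiIso A (ComplexShape.up ℤ))]

include β in
theorem isIso_H_RF_map_of_isZero (T : Triangle (DerivedCategory A))
    (hT : T ∈ distTriang (DerivedCategory A)) (m : ℤ)
    (hz : IsZero ((homologyFunctor B m).obj (RF.obj T.obj₁)))
    (hz' : IsZero ((homologyFunctor B (m + 1)).obj (RF.obj T.obj₁))) :
    IsIso ((homologyFunctor B m).map (RF.map T.mor₂)) := by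
  obtain ⟨a', c', hT'⟩ := Groth.Agent.H5.KInjDer.exists_distinguished_map
    (F.mapHomotopyCategory (ComplexShape.up ℤ) ⋙ DerivedCategory.Qh) RF β T.mor₁ T.mor₂ T.mor₃ hT
  exact isIso_H_mor₂_of_isZero _ hT' m hz hz'

end Abstract

section Sch

attribute [local instance] HasDerivedCategory.standard

open Groth.Agent.H31.Tower Groth.Agent.H31.RpushRestrict Groth.Agent.H5.KInjDer Groth.Agent.H33
  Groth.Agent.S1046 Groth.Agent.H6.RpushQC Groth.Agent.H31.LocalD

/-- The predicate `a ≤ q`. -/
def Pge (a q : ℤ) : Prop := a ≤ q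

theorem Pge_up (a : ℤ) : ∀ q, Pge a q → Pge a (q + 1) := fun q h => by
  unfold Pge at *; omega

section Unit

variable {X S : Scheme.{u}} (f : X ⟶ S) [DCoh.HasRpush f]

/-- The unit of `Rf_*` on the homotopy category. -/
noncomputable abbrev βu :=
  (DCoh.pushKh f).totalRightDerivedUnit DerivedCategory.Qh
    (HomotopyCategory.quasiIso X.Modules (ComplexShape.up ℤ))

theorem isIso_uC_iff (K : CochainComplex X.Modules ℤ) :
    IsIso ((uC f).app K) ↔
      IsIso ((βu f).app ((HomotopyCategory.quotient X.Modules (ComplexShape.up ℤ)).obj K)) := by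
  have e : (uC f).app K = (isoC (Scheme.Modules.pushforward f)).hom.app K ≫
      (βu f).app ((HomotopyCategory.quotient X.Modules (ComplexShape.up ℤ)).obj K) ≫
      (DCoh.Rpush f).map ((DerivedCategory.quotientCompQhIso X.Modules).hom.app K) := by
    change ((isoC _).hom ≫ toC _ _ _).app K = _
    rw [NatTrans.comp_app, toC_app]
  rw [e]
  constructor
  · intro h
    have h' : IsIso ((βu f).app ((HomotopyCategory.quotient X.Modules (ComplexShape.up ℤ)).obj K) ≫
        (DCoh.Rpush f).map ((DerivedCategory.quotientCompQhIso X.Modules).hom.app K)) :=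
      IsIso.of_isIso_comp_left ((isoC (Scheme.Modules.pushforward f)).hom.app K) _
    exact IsIso.of_isIso_comp_right _
      ((DCoh.Rpush f).map ((DerivedCategory.quotientCompQhIso X.Modules).hom.app K))
  · intro h
    infer_instance

end Unit

section Bound

variable {X S : Scheme.{u}} (f : X ⟶ S) [QuasiCompact f] [QuasiSeparated f] [DCoh.HasRpush f]

theorem isIso_uC_of_bound (N : ℕ)
    (hN : ∀ G : X.Modules, G.IsQuasicoherent → ∀ p : ℕ, N ≤ p → IsZero ((Coh.Rpush f p).obj G))
    (F : CochainComplex X.Modules ℤ) (hq : ∀ n : ℤ, Coh.IsQCoh (F.X n))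
    (hac : ∀ n : ℤ, UnbDer.FAcyc (Scheme.Modules.pushforward f) (F.X n)) :
    IsIso ((uC f).app F) := by
  have : IsGrothendieckAbelian.{u} X.Modules :=
    Groth.Agent.H31.GrothAb.isGrothendieckAbelian (Opens.grothendieckTopology X) X.ringCatSheaf
  rw [DerivedCategory.isIso_iff]
  intro m
  obtain ⟨a, ha⟩ : ∃ a : ℤ, a = m - N - 3 := ⟨_, rfl⟩
  let K : CochainComplex X.Modules ℤ := σ F (Pge_up a)
  let ι : K ⟶ F := σι F (Pge_up a)
  have hιf : ∀ q, a ≤ q → IsIso (ι.f q) := fun q hq => isIso_ι F (show Pge a q from hq)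
  have hKGE : K.IsStrictlyGE a := by
    rw [CochainComplex.isStrictlyGE_iff]
    intro i hi
    exact isZero_kernel F (show ¬ Pge a i from by unfold Pge; omega)
  have hKac : ∀ n, UnbDer.FAcyc (Scheme.Modules.pushforward f) (K.X n) := by
    intro n
    by_cases hn : Pge a n
    · have hiso : IsIso (kernel.ι (e F (Pge a) n)) := isIso_ι (P := Pge a) F hn
      have eiso := asIso (kernel.ι (e F (Pge a) n))
      exact fun i hi => IsZero.of_iso (hac n i hi)
        (((Scheme.Modules.pushforward f).rightDerived i).mapIso eiso)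
    · exact fun i hi => Functor.map_isZero _ (isZero_kernel F hn)
  have hKq : ∀ n, Coh.IsQCoh (K.X n) := by
    intro n
    by_cases hn : Pge a n
    · have hiso : IsIso (kernel.ι (e F (Pge a) n)) := isIso_ι (P := Pge a) F hn
      exact weakSerre_qcoh.iso (asIso (kernel.ι (e F (Pge a) n))).symm (hq n)
    · exact weakSerre_qcoh.zero _ (isZero_kernel F hn)
  have h1 : IsIso ((uC f).app K) :=
    (isIso_uC_iff f K).2 (Groth.Agent.H6.LerayBdd.isIso_unit_of_isStrictlyGE
      (Scheme.Modules.pushforward f) (DCoh.Rpush f) (βu f) K a hKac)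
  have hQK : DCoh.IsQCohD (Q.obj K) := fun i => prop_H_Q weakSerre_qcoh K hKq i
  have hQF : DCoh.IsQCohD (Q.obj F) := fun i => prop_H_Q weakSerre_qcoh F hq i
  obtain ⟨L, a₀, c₀, hT⟩ := Pretriangulated.distinguished_cocone_triangle₁ (Q.map ι)
  have hHι : ∀ n, a < n → IsIso ((homologyFunctor X.Modules n).map (Q.map ι)) :=
    fun n hn => isIso_H_Q_map ι a n hιf hn
  have hLq : DCoh.IsQCohD L := fun i =>
    prop_obj₁_of_distTriang weakSerre_qcoh _ hT i (hQK (i - 1)) (hQF (i - 1)) (hQK i) (hQF i)
  have hLLE : L.IsLE (a + 1) := by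
    rw [DerivedCategory.isLE_iff]
    intro i hi
    exact isZero_obj₁_of_distTriang _ hT i (hHι (i - 1) (by omega)) (hHι i (by omega))
  have hz : ∀ j : ℤ, a + N + 3 ≤ j → IsZero (DCoh.HD ((DCoh.Rpush f).obj L) j) := fun j hj =>
    isZero_HD_Rpush_of_isLE f N hN L hLq (a + 1) hLLE j (by omega)
  have h2 : IsIso ((homologyFunctor S.Modules m).map ((DCoh.Rpush f).map (Q.map ι))) :=
    isIso_H_RF_map_of_isZero (Scheme.Modules.pushforward f) (DCoh.Rpush f) (βu f) _ hT m
      (hz m (by omega)) (hz (m + 1) (by omega))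
  have h3 : IsIso ((homologyFunctor S.Modules m).map (Q.map
      (((Scheme.Modules.pushforward f).mapHomologicalComplex (ComplexShape.up ℤ)).map ι))) :=
    isIso_H_Q_map _ a m (fun q hq => by
      have := hιf q hq
      exact inferInstanceAs (IsIso ((Scheme.Modules.pushforward f).map (ι.f q)))) (by omega)
  have nat := (uC f).naturality ι
  have nat' := congrArg (fun φ => (homologyFunctor S.Modules m).map φ) nat
  simp only [Functor.map_comp, Functor.comp_map] at nat'
  have h4 : IsIso ((homologyFunctor S.Modules m).map (Q.map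
      (((Scheme.Modules.pushforward f).mapHomologicalComplex (ComplexShape.up ℤ)).map ι)) ≫
      (homologyFunctor S.Modules m).map ((uC f).app F)) := by
    rw [nat']
    infer_instance
  exact IsIso.of_isIso_comp_left ((homologyFunctor S.Modules m).map (Q.map
      (((Scheme.Modules.pushforward f).mapHomologicalComplex (ComplexShape.up ℤ)).map ι))) _

end Bound

section Local

variable {S : Scheme.{u}}

theorem isIso_of_forall_restrictD {K L : DCoh.D S} (φ : K ⟶ L)
    (h : ∀ x : S, ∃ V : S.Opens, x ∈ V ∧ IsIso ((DCoh.restrictD V.ι).map φ)) : IsIso φ := by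
  obtain ⟨C, g, h', hT⟩ := Pretriangulated.distinguished_cocone_triangle φ
  have hC : IsZero C := by
    rw [isZero_iff_homology]
    intro i
    refine isZero_of_subsingleton_stalks _ (fun x => ?_)
    obtain ⟨V, hx, hV⟩ := h x
    have hT' := (DCoh.restrictD V.ι).map_distinguished _ hT
    have hz : IsZero ((DCoh.restrictD V.ι).obj C) :=
      (Pretriangulated.Triangle.isZero₃_iff_isIso₁ _ hT').2 hV
    have hz' : IsZero ((DCoh.HD C i).restrict V.ι) :=
      IsZero.of_iso ((isZero_iff_homology _).1 hz i) (HDRestrictIso V C i).symm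
    exact (subsingleton_stalk_restrict_iff V _ ⟨x, hx⟩).1 (subsingleton_stalk_of_isZero _ hz' _)
  exact (Pretriangulated.Triangle.isZero₃_iff_isIso₁ _ hT).1 hC

end Local

section Qcqs

variable {X S : Scheme.{u}} (f : X ⟶ S)

theorem isZero_rightDerived_restrict (V : S.Opens) (M : X.Modules) (i : ℕ)
    (h : IsZero (((Scheme.Modules.pushforward f).rightDerived i).obj M)) :
    IsZero (((Scheme.Modules.pushforward (f ∣_ V)).rightDerived i).obj
      ((Scheme.Modules.restrictFunctor (f ⁻¹ᵁ V).ι).obj M)) := by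
  obtain ⟨e⟩ := Groth.Agent.H30.CompDer.main (Scheme.Modules.pushforward f)
    (Scheme.Modules.pushforward (f ∣_ V))
    (Scheme.Modules.restrictFunctor (f ⁻¹ᵁ V).ι) (Scheme.Modules.restrictFunctor V.ι)
    (Groth.Agent.H31.PushRestrict.pushRestrictIso f V)
    (fun I hI q => by
      have := hI
      have := Groth.Agent.H30.ExtZeroSch.injective_restrict (f ⁻¹ᵁ V) I
      exact Functor.isZero_rightDerived_obj_injective_succ _ _ _) i M
  exact IsZero.of_iso (Functor.map_isZero _ h) e.symm

variable [QuasiCompact f] [QuasiSeparated f] [DCoh.HasRpush f]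

set_option backward.isDefEq.respectTransparency false in
theorem isIso_uC_of_qcqs (F : CochainComplex X.Modules ℤ) (hq : ∀ n : ℤ, Coh.IsQCoh (F.X n))
    (hac : ∀ n : ℤ, UnbDer.FAcyc (Scheme.Modules.pushforward f) (F.X n)) :
    IsIso ((uC f).app F) := by
  apply isIso_of_forall_restrictD
  intro x
  obtain ⟨V, hV, hxV, -⟩ : ∃ V : S.Opens, V ∈ S.affineOpens ∧ x ∈ V ∧ V ≤ ⊤ :=
    (TopologicalSpace.Opens.isBasis_iff_nbhd.1 S.isBasis_affineOpens)
      (show x ∈ (⊤ : S.Opens) from trivial)
  refine ⟨V, hxV, ?_⟩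
  have hV' : IsAffineOpen V := hV
  have : IsAffine (V : Scheme.{u}) := hV'
  have : CompactSpace ↥(V : Scheme.{u}) := inferInstance
  have := Groth.Agent.H31.RpushSupport.hasRpush (f ∣_ V)
  obtain ⟨N, hN⟩ := exists_bound (f ∣_ V)
  have hq' : ∀ n : ℤ, Coh.IsQCoh
      ((((Scheme.Modules.restrictFunctor (f ⁻¹ᵁ V).ι).mapHomologicalComplex
        (ComplexShape.up ℤ)).obj F).X n) := fun n => by
    have := hq n
    exact Scheme.Modules.isQuasicoherent_restrictFunctor (f ⁻¹ᵁ V).ι (F.X n)
  have hac' : ∀ n : ℤ, UnbDer.FAcyc (Scheme.Modules.pushforward (f ∣_ V))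
      ((((Scheme.Modules.restrictFunctor (f ⁻¹ᵁ V).ι).mapHomologicalComplex
        (ComplexShape.up ℤ)).obj F).X n) := fun n i hi =>
    isZero_rightDerived_restrict f V (F.X n) i (hac n i hi)
  have h0 : IsIso ((uC (f ∣_ V)).app
      (((Scheme.Modules.restrictFunctor (f ⁻¹ᵁ V).ι).mapHomologicalComplex
        (ComplexShape.up ℤ)).obj F)) := isIso_uC_of_bound (f ∣_ V) N hN _ hq' hac'
  have key : (α₁ f V).app F ≫ (restrictRpushIso f V).hom.app (DerivedCategory.Q.obj F) =
      (τ f V).hom.app F ≫ (α₂ f V).app F :=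
    Functor.rightDerivedNatTrans_app _ _ (α₁ f V) (α₂ f V)
      (HomologicalComplex.quasiIso X.Modules (ComplexShape.up ℤ)) (τ f V).hom F
  have h2 : IsIso ((α₂ f V).app F) := by
    simp only [α₂, NatTrans.comp_app, Functor.whiskerLeft_app, Functor.associator_inv_app,
      Functor.whiskerRight_app, Functor.associator_hom_app, Category.id_comp, Category.comp_id]
    infer_instance
  have h1 : IsIso ((α₁ f V).app F) := by
    have h3 : IsIso ((α₁ f V).app F ≫
        (restrictRpushIso f V).hom.app (DerivedCategory.Q.obj F)) := by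
      rw [key]
      infer_instance
    exact IsIso.of_isIso_comp_right _ ((restrictRpushIso f V).hom.app (DerivedCategory.Q.obj F))
  have e1 : (α₁ f V).app F = (DCoh.restrictD V.ι).map ((uC f).app F) := by
    simp [α₁]
  rw [← e1]
  exact h1

end Qcqs

end Sch

end Groth.Agent.H6.AcycUnit
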