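import Mathlib
import Groth.Agent.H6.LpullQCoh
import Groth.Agent.H31.LpullTensor
import Groth.Agent.H53.SiteTensor2
import Groth.Agent.H8.TensorQCoh
import Groth.Agent.H95.QCohColim
import Groth.Agent.H31.StalkTilde
import Groth.Agent.H31.KFlatResolutionSite

/-!
# The derived tensor product preserves `D_QCoh` (helper6 library)

* `hasLTensorCx E` : the binder `DCoh.HasLTensorCx E` always holds.
* `nonempty_LTensorCx_iso E₁ E₂ e` : `- ⊗^L E₁ ≅ - ⊗^L E₂` when `Q E₁ ≅ Q E₂` in `D(O_X)`.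
* `QC C` : the complex `C` has quasi-coherent cohomology sheaves; `qc_iff`, `qc_of_Q_iso`.
* `isQuasicoherent_X_tensorCx` : the terms of `Tot (K₁ ⊗ K₂)` are quasi-coherent when the terms of
  `K₁`, `K₂` are.
* `qc_tensorCx_affine`, `qc_tensorCx` : `Tot (P ⊗ F)` has quasi-coherent cohomology when `F` is K-flat
  and `P`, `F` have quasi-coherent cohomology.
* `isQCohD_LTensorCx` (= S1062).
-/

set_option autoImplicit false
set_option backward.isDefEq.respectTransparency false
universe u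
open CategoryTheory CategoryTheory.Limits AlgebraicGeometry TopologicalSpace Opposite
attribute [local instance] HasDerivedCategory.standard

namespace Groth.Agent.H6.TensorQCoh

open Groth.Agent.H31 Groth.Agent.H31.Stalk Groth.Agent.H31.KFlat Groth.Agent.H28.LpullLoc
  Groth.Agent.H31.PullTensor Groth.Agent.H6.LpullQCoh

variable {X : Scheme.{u}}

/-- The binder `DCoh.HasLTensorCx E` always holds. -/
theorem hasLTensorCx (E : CochainComplex X.Modules ℤ) : DCoh.HasLTensorCx E :=
  Groth.Agent.H53.SiteTensor.hasLTensorCx (O := shX X) E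

/-- `- ⊗^L E` only depends on the class of `E` in `D(O_X)`. -/
theorem nonempty_LTensorCx_iso (E₁ E₂ : CochainComplex X.Modules ℤ) [DCoh.HasLTensorCx E₁]
    [DCoh.HasLTensorCx E₂] (e : DerivedCategory.Q.obj E₁ ≅ DerivedCategory.Q.obj E₂) :
    Nonempty (DCoh.LTensorCx E₁ ≅ DCoh.LTensorCx E₂) := by
  obtain ⟨Z, s, hs, g, hfac⟩ := DerivedCategory.right_fac e.hom
  have hs' : QuasiIso s := (DerivedCategory.isIso_Q_map_iff_quasiIso _ s).1 hs
  have hg : IsIso (DerivedCategory.Q.map g) := by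
    have h1 : DerivedCategory.Q.map g = DerivedCategory.Q.map s ≫ e.hom := by
      rw [hfac, IsIso.hom_inv_id_assoc]
    rw [h1]
    infer_instance
  have hg' : QuasiIso g := (DerivedCategory.isIso_Q_map_iff_quasiIso _ g).1 hg
  obtain ⟨Z₁, r, hZ₁, -, hr, -⟩ := KFlat.exists_isKFlat_resolution (O := shX X) Z
  have h1 : QuasiIso (r ≫ s) := inferInstance
  have h2 : QuasiIso (r ≫ g) := inferInstance
  have i0 : ModSite.HasLTensorCx (O := shX X) Z₁ := hasLTensorCx Z₁
  have i1 : ModSite.HasLTensorCx (O := shX X) E₁ := ‹DCoh.HasLTensorCx E₁›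
  have i2 : ModSite.HasLTensorCx (O := shX X) E₂ := ‹DCoh.HasLTensorCx E₂›
  exact ⟨(Groth.Agent.H40.LTensorInv.invIso (O := shX X) (r ≫ s) h1 hZ₁).symm ≪≫
    Groth.Agent.H40.LTensorInv.invIso (O := shX X) (r ≫ g) h2 hZ₁⟩

/-- The complex `C` has quasi-coherent cohomology sheaves. -/
def QC (C : CochainComplex X.Modules ℤ) : Prop := ∀ i : ℤ, (C.homology i).IsQuasicoherent

theorem qc_iff (C : CochainComplex X.Modules ℤ) :
    QC C ↔ DCoh.IsQCohD (DerivedCategory.Q.obj C) :=
  ⟨fun h i => qc_of_iso ((DerivedCategory.homologyFunctorFactors _ i).app C).symm (h i),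
    fun h i => qc_of_iso ((DerivedCategory.homologyFunctorFactors _ i).app C) (h i)⟩

theorem qc_of_Q_iso {C C' : CochainComplex X.Modules ℤ}
    (e : DerivedCategory.Q.obj C ≅ DerivedCategory.Q.obj C') (h : QC C) : QC C' := fun i =>
  qc_of_iso (((DerivedCategory.homologyFunctorFactors _ i).app C).symm ≪≫
    (DerivedCategory.homologyFunctor _ i).mapIso e ≪≫
    (DerivedCategory.homologyFunctorFactors _ i).app C') (h i)

/-- A coproduct (indexed by a small type in `Type`) of quasi-coherent modules is quasi-coherent. -/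
theorem isQuasicoherent_of_isColimit_cofan {ι : Type} {f : ι → X.Modules} (c : Cofan f)
    (hc : IsColimit c) (hf : ∀ i, (f i).IsQuasicoherent) : c.pt.IsQuasicoherent := by
  let e : Discrete (ULift.{u} ι) ≌ Discrete ι := Discrete.equivalence Equiv.ulift
  exact Groth.Agent.H95.QCohColim.isQuasicoherent_of_isColimit (c.whisker e.functor)
    (IsColimit.whiskerEquivalence hc e) (fun j => hf _)

/-- The terms of `Tot (K₁ ⊗ K₂)` are quasi-coherent when the terms of `K₁` and `K₂` are. -/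
theorem isQuasicoherent_X_tensorCx (K₁ K₂ : CochainComplex X.Modules ℤ)
    (h₁ : ∀ p, (K₁.X p).IsQuasicoherent) (h₂ : ∀ q, (K₂.X q).IsQuasicoherent) (n : ℤ) :
    (((DCoh.tensorCx.obj K₁).obj K₂).X n).IsQuasicoherent := by
  let K := (((DCoh.tensorBi (X := X)).mapBifunctorHomologicalComplex (ComplexShape.up ℤ)
    (ComplexShape.up ℤ)).obj K₁).obj K₂
  refine isQuasicoherent_of_isColimit_cofan _
    (GradedObject.isColimitCofanMapObj K.toGradedObject
      (ComplexShape.π (ComplexShape.up ℤ) (ComplexShape.up ℤ) (ComplexShape.up ℤ)) n) ?_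
  rintro ⟨⟨p, q⟩, hpq⟩
  have := h₁ p
  have := h₂ q
  show (CohB1.tensorMod (K₁.X p) (K₂.X q)).IsQuasicoherent
  infer_instance

/-- `M~` is quasi-coherent (explicit form of Mathlib's instance). -/
theorem isQuasicoherent_tilde_obj (R : CommRingCat.{u}) (M : ModuleCat.{u} R) :
    ((tilde.functor R).obj M).IsQuasicoherent := by
  infer_instance

/-- Affine case. -/
theorem qc_tensorCx_affine {A : Type u} [CommRing A]
    (P' F' : CochainComplex (Spec (CommRingCat.of A)).Modules ℤ) (hF' : DCoh.IsKFlat F')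
    (hP : QC P') (hFq : QC F') : QC ((DCoh.tensorCx.obj P').obj F') := by
  have instA : PreservesFiniteLimits (tilde.functor (CommRingCat.of A)) :=
    (Groth.Agent.S9498.key (CommRingCat.of A)).1
  have hS := (Groth.Agent.S0997.result (CommRingCat.of A)).2.2
  obtain ⟨M, ⟨eM⟩⟩ := (hS (DerivedCategory.Q.obj P')).1 ((qc_iff P').1 hP)
  obtain ⟨N, ⟨eN⟩⟩ := (hS (DerivedCategory.Q.obj F')).1 ((qc_iff F').1 hFq)
  obtain ⟨N₁, r, hN₁, -, hr, -⟩ :=
    KFlatRing.exists_isKFlat_resolution (DerivedCategory.Q.objPreimage N)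
  have hr' : IsIso (DerivedCategory.Q.map r) := (DerivedCategory.isIso_Q_map_iff_quasiIso _ r).2 hr
  let T := tilde.functor (CommRingCat.of A)
  let tM := (T.mapHomologicalComplex (ComplexShape.up ℤ)).obj (DerivedCategory.Q.objPreimage M)
  let tN := (T.mapHomologicalComplex (ComplexShape.up ℤ)).obj N₁
  have eTM : DerivedCategory.Q.obj tM ≅ DerivedCategory.Q.obj P' :=
    (T.mapDerivedCategoryFactors.app (DerivedCategory.Q.objPreimage M)).symm ≪≫
      T.mapDerivedCategory.mapIso (DerivedCategory.Q.objObjPreimageIso M) ≪≫ eM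
  have eTN : DerivedCategory.Q.obj tN ≅ DerivedCategory.Q.obj F' :=
    (T.mapDerivedCategoryFactors.app N₁).symm ≪≫
      T.mapDerivedCategory.mapIso
        (asIso (DerivedCategory.Q.map r) ≪≫ DerivedCategory.Q.objObjPreimageIso N) ≪≫ eN
  have hKF : DCoh.IsKFlat tN := isKFlat_tilde (CommRingCat.of A) N₁ hN₁
  have i1 : DCoh.HasLTensorCx F' := hasLTensorCx F'
  have i2 : DCoh.HasLTensorCx tN := hasLTensorCx tN
  obtain ⟨φ⟩ := nonempty_LTensorCx_iso F' tN eTN.symm
  have e : DerivedCategory.Q.obj ((DCoh.tensorCx.obj tM).obj tN) ≅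
      DerivedCategory.Q.obj ((DCoh.tensorCx.obj P').obj F') :=
    (LTensorCxObjIso tN hKF tM).symm ≪≫ (DCoh.LTensorCx tN).mapIso eTM ≪≫
      (φ.app _).symm ≪≫ LTensorCxObjIso F' hF' P'
  refine qc_of_Q_iso e (fun i => Groth.Agent.H90.QH.isQCoh_homology _ i (fun j => ?_))
  refine isQuasicoherent_X_tensorCx tM tN (fun p => ?_) (fun q => ?_) j
  · exact isQuasicoherent_tilde_obj (CommRingCat.of A) ((DerivedCategory.Q.objPreimage M).X p)
  · exact isQuasicoherent_tilde_obj (CommRingCat.of A) (N₁.X q)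

/-- `Tot (P ⊗ F)` has quasi-coherent cohomology when `F` is K-flat and `P`, `F` have quasi-coherent
cohomology. -/
theorem qc_tensorCx (P F : CochainComplex X.Modules ℤ) (hF : DCoh.IsKFlat F) (hPq : QC P)
    (hFq : QC F) : QC ((DCoh.tensorCx.obj P).obj F) := by
  intro i
  refine isQCoh_of_locally_fromSpec _ (fun x => ?_)
  obtain ⟨W, hW, hxW, -⟩ := exists_isAffineOpen_mem_and_subset (x := x) (U := ⊤) trivial
  refine ⟨W, hW, hxW, ?_⟩
  let R := Scheme.Modules.restrictFunctor hW.fromSpec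
  let Pa := Scheme.Modules.pullback hW.fromSpec
  let ι : R ≅ Pa := Scheme.Modules.restrictFunctorIsoPullback hW.fromSpec
  let G := (DCoh.tensorCx.obj P).obj F
  have hqc : ∀ (C : CochainComplex X.Modules ℤ), QC C →
      QC ((Pa.mapHomologicalComplex (ComplexShape.up ℤ)).obj C) := fun C hC j => by
    have h0 : (R.obj (C.homology j)).IsQuasicoherent := by
      have := hC j
      infer_instance
    exact qc_of_iso (((LocalD.mapHCHomologyIso R j).app C).symm ≪≫
      (HomologicalComplex.homologyFunctor _ _ j).mapIso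
        ((NatIso.mapHomologicalComplex ι (ComplexShape.up ℤ)).app C)) h0
  have h1 := qc_tensorCx_affine (A := (Γ(X, W) : Type u))
    ((Pa.mapHomologicalComplex (ComplexShape.up ℤ)).obj P)
    ((Pa.mapHomologicalComplex (ComplexShape.up ℤ)).obj F)
    (isKFlat_pullback hW.fromSpec F hF) (hqc P hPq) (hqc F hFq) i
  exact qc_of_iso ((HomologicalComplex.homologyFunctor _ _ i).mapIso
      (pullTotIso hW.fromSpec P F).symm ≪≫
    (HomologicalComplex.homologyFunctor _ _ i).mapIso
      ((NatIso.mapHomologicalComplex ι (ComplexShape.up ℤ)).app G).symm ≪≫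
    (LocalD.mapHCHomologyIso R i).app G) h1

/-- `- ⊗^L F` preserves `D_QCoh` when `F` has quasi-coherent cohomology sheaves. -/
theorem isQCohD_LTensorCx (F : CochainComplex X.Modules ℤ)
    (hF : DCoh.IsQCohD (DCoh.toD X F)) [DCoh.HasLTensorCx F] (E : DCoh.D X)
    (hE : DCoh.IsQCohD E) : DCoh.IsQCohD ((DCoh.LTensorCx F).obj E) := by
  obtain ⟨F₁, q, hF₁, -, hq, -⟩ := KFlat.exists_isKFlat_resolution (O := shX X) F
  have hq' : IsIso (DerivedCategory.Q.map q) := (DerivedCategory.isIso_Q_map_iff_quasiIso _ q).2 hq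
  have i0 : ModSite.HasLTensorCx (O := shX X) F₁ := hasLTensorCx F₁
  have i1 : ModSite.HasLTensorCx (O := shX X) F := ‹DCoh.HasLTensorCx F›
  have i0' : DCoh.HasLTensorCx F₁ := hasLTensorCx F₁
  have hF₁' : DCoh.IsKFlat F₁ := hF₁
  let φ : DCoh.LTensorCx F₁ ≅ DCoh.LTensorCx F :=
    Groth.Agent.H40.LTensorInv.invIso (O := shX X) q hq hF₁
  let P := DerivedCategory.Q.objPreimage E
  let eP : DerivedCategory.Q.obj P ≅ E := DerivedCategory.Q.objObjPreimageIso E
  have e : DerivedCategory.Q.obj ((DCoh.tensorCx.obj P).obj F₁) ≅ (DCoh.LTensorCx F).obj E :=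
    (LTensorCxObjIso F₁ hF₁' P).symm ≪≫ φ.app _ ≪≫ (DCoh.LTensorCx F).mapIso eP
  have hP : QC P := fun j =>
    qc_of_iso ((DerivedCategory.homologyFunctor _ j).mapIso eP.symm ≪≫
      (DerivedCategory.homologyFunctorFactors _ j).app P) (hE j)
  have hF₁q : QC F₁ := qc_of_Q_iso (asIso (DerivedCategory.Q.map q)).symm ((qc_iff F).2 hF)
  have h := qc_tensorCx P F₁ hF₁' hP hF₁q
  intro i
  exact qc_of_iso (((DerivedCategory.homologyFunctorFactors _ i).app _).symm ≪≫
    (DerivedCategory.homologyFunctor _ i).mapIso e) (h i)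

end Groth.Agent.H6.TensorQCoh
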