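import Groth.Agent.H6.Compact
import Groth.Prelude.Def_DerLim

/-!
# Compact objects and homotopy colimits (`DerLim.IsHocolim`)

* `IsCompactObject.exists_finset_nat` : maps from a compact object to a countable coproduct
  are finite sums.
* `eq_zero_of_comp_one_sub_shiftMap` : `1 - shift` is injective on maps from compact objects.
* `IsHocolim.exists_factor_of_compact` : a map from a compact object to a homotopy colimit
  factors through a finite stage.
-/

set_option autoImplicit false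
universe v u
open CategoryTheory CategoryTheory.Limits

namespace Groth.Agent.H6

section Nat

variable {D : Type u} [Category.{v} D] [Preadditive D] [HasCoproducts.{v} D]

/-- A map from a compact object to a countable coproduct is a finite sum. -/
lemma IsCompactObject.exists_finset_nat {C : D} (hC : CohDer.IsCompactObject C) (K : ℕ → D)
    [HasCoproduct K] (h : C ⟶ ∐ K) :
    ∃ (s : Finset ℕ) (a : ∀ n, C ⟶ K n), h = ∑ n ∈ s, a n ≫ Sigma.ι K n := by
  let ε : ULift.{v} ℕ ≃ ℕ := Equiv.ulift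
  let e : ∐ (K ∘ ε) ≅ ∐ K := Sigma.reindex ε K
  obtain ⟨s', -, hs'⟩ := IsCompactObject.exists_finset hC (h ≫ e.inv)
  refine ⟨s'.map ε.toEmbedding, fun n => (h ≫ e.inv) ≫ sigmaπ (K ∘ ε) ⟨n⟩, ?_⟩
  rw [Finset.sum_map]
  have h1 : h = (h ≫ e.inv) ≫ e.hom := by
    rw [Category.assoc, e.inv_hom_id, Category.comp_id]
  conv_lhs => rw [h1, hs', Preadditive.sum_comp]
  refine Finset.sum_congr rfl (fun x _ => ?_)
  rw [Category.assoc]
  congr 1
  exact Sigma.ι_reindex_hom ε K x

/-- Components of a finite sum. -/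
lemma sum_comp_π_eq {C : D} (K : ℕ → D) [HasCoproduct K] (s : Finset ℕ) (a : ∀ n, C ⟶ K n)
    (m : ℕ) : (∑ n ∈ s, a n ≫ Sigma.ι K n) ≫ Sigma.π K m = if m ∈ s then a m else 0 := by
  rw [Preadditive.sum_comp]
  by_cases hm : m ∈ s
  · rw [if_pos hm, Finset.sum_eq_single m]
    · rw [Category.assoc, Sigma.ι_π_eq_id, Category.comp_id]
    · intro n _ hn
      rw [Category.assoc, Sigma.ι_π_of_ne K hn, Limits.comp_zero]
    · intro h; exact absurd hm h
  · rw [if_neg hm]
    apply Finset.sum_eq_zero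
    intro n hn
    have : n ≠ m := by rintro rfl; exact hm hn
    rw [Category.assoc, Sigma.ι_π_of_ne K this, Limits.comp_zero]

/-- A map from a compact object to a countable coproduct all of whose components vanish is
zero. -/
lemma IsCompactObject.eq_zero_of_comp_π {C : D} (hC : CohDer.IsCompactObject C) (K : ℕ → D)
    [HasCoproduct K] (h : C ⟶ ∐ K) (h0 : ∀ n, h ≫ Sigma.π K n = 0) : h = 0 := by
  obtain ⟨s, a, hs⟩ := IsCompactObject.exists_finset_nat hC K h
  rw [hs]
  apply Finset.sum_eq_zero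
  intro n hn
  have := sum_comp_π_eq K s a n
  rw [← hs, h0 n, if_pos hn] at this
  rw [← this, Limits.zero_comp]

lemma shiftMap_comp_π_zero (K : ℕ → D) (f : ∀ n, K n ⟶ K (n + 1)) [HasCoproduct K] :
    DerLim.shiftMap K f ≫ Sigma.π K 0 = 0 := by
  apply Sigma.hom_ext
  intro n
  rw [DerLim.shiftMap, Sigma.ι_desc_assoc, Category.assoc,
    Sigma.ι_π_of_ne K (Nat.succ_ne_zero n), Limits.comp_zero, Limits.comp_zero]

lemma shiftMap_comp_π_succ (K : ℕ → D) (f : ∀ n, K n ⟶ K (n + 1)) [HasCoproduct K] (k : ℕ) :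
    DerLim.shiftMap K f ≫ Sigma.π K (k + 1) = Sigma.π K k ≫ f k := by
  apply Sigma.hom_ext
  intro n
  rw [DerLim.shiftMap, Sigma.ι_desc_assoc, Category.assoc]
  by_cases hn : n = k
  · subst hn
    rw [Sigma.ι_π_eq_id, Category.comp_id, Sigma.ι_π_eq_id_assoc]
  · have hn' : n + 1 ≠ k + 1 := fun h => hn (Nat.succ_injective h)
    rw [Sigma.ι_π_of_ne K hn', Limits.comp_zero, Sigma.ι_π_of_ne_assoc K hn, Limits.zero_comp]

/-- `1 - shift` is injective on maps from a compact object. -/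
lemma IsCompactObject.eq_zero_of_comp_one_sub_shiftMap {C : D} (hC : CohDer.IsCompactObject C)
    (K : ℕ → D) (f : ∀ n, K n ⟶ K (n + 1)) [HasCoproduct K] (h : C ⟶ ∐ K)
    (h0 : h ≫ (𝟙 _ - DerLim.shiftMap K f) = 0) : h = 0 := by
  have h1 : h = h ≫ DerLim.shiftMap K f := by
    rw [Preadditive.comp_sub, Category.comp_id, sub_eq_zero] at h0
    exact h0
  apply IsCompactObject.eq_zero_of_comp_π hC K h
  intro n
  induction n with
  | zero => rw [h1, Category.assoc, shiftMap_comp_π_zero, Limits.comp_zero]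
  | succ k ih => rw [h1, Category.assoc, shiftMap_comp_π_succ, ← Category.assoc, ih,
      Limits.zero_comp]

/-- Pushing a finite sum of maps into the stages of a sequential cocone to a single stage. -/
lemma exists_factor_of_sum {C L : D} (K : ℕ → D) (f : ∀ n, K n ⟶ K (n + 1))
    (j : ∀ n, K n ⟶ L) (hj : ∀ n, j n = f n ≫ j (n + 1)) (a : ∀ n, C ⟶ K n) (N : ℕ) :
    ∃ b : C ⟶ K N, ∑ n ∈ Finset.range (N + 1), a n ≫ j n = b ≫ j N := by
  induction N with
  | zero => exact ⟨a 0, by simp⟩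
  | succ N ih =>
    obtain ⟨b, hb⟩ := ih
    refine ⟨b ≫ f N + a (N + 1), ?_⟩
    rw [Finset.sum_range_succ, hb, Preadditive.add_comp, Category.assoc, ← hj N]

end Nat

section Hocolim

open Pretriangulated

variable {D : Type u} [Category.{v} D] [Preadditive D] [HasZeroObject D] [HasShift D ℤ]
  [∀ n : ℤ, (shiftFunctor D n).Additive] [Pretriangulated D] [HasCoproducts.{v} D]

lemma IsHocolim.ι_eq {K : ℕ → D} {f : ∀ n, K n ⟶ K (n + 1)} [HasCoproduct K] {L : D}
    {j : ∀ n, K n ⟶ L} (hL : DerLim.IsHocolim K f L j) (n : ℕ) : j n = f n ≫ j (n + 1) := by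
  obtain ⟨c, hT⟩ := hL
  have h : (𝟙 (∐ K) - DerLim.shiftMap K f) ≫ Sigma.desc j = 0 :=
    comp_distTriang_mor_zero₁₂ _ hT
  have h2 : Sigma.ι K n ≫ ((𝟙 (∐ K) - DerLim.shiftMap K f) ≫ Sigma.desc j) =
      Sigma.ι K n ≫ 0 := by rw [h]
  rw [Preadditive.sub_comp, Preadditive.comp_sub, Category.id_comp, Sigma.ι_desc,
    DerLim.shiftMap, Sigma.ι_desc_assoc, Category.assoc, Sigma.ι_desc, Limits.comp_zero,
    sub_eq_zero] at h2
  exact h2

/-- A map from a compact object to a homotopy colimit factors through a finite stage. -/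
lemma IsHocolim.exists_factor_of_compact {K : ℕ → D} {f : ∀ n, K n ⟶ K (n + 1)}
    [HasCoproduct K] {L : D} {j : ∀ n, K n ⟶ L} (hL : DerLim.IsHocolim K f L j) {C : D}
    (hC : CohDer.IsCompactObject C) (g : C ⟶ L) : ∃ (N : ℕ) (b : C ⟶ K N), g = b ≫ j N := by
  have hj := IsHocolim.ι_eq hL
  obtain ⟨c, hT⟩ := hL
  -- step 1 : `g ≫ c = 0`
  let adj : shiftFunctor D (-1 : ℤ) ⊣ shiftFunctor D (1 : ℤ) :=
    (shiftEquiv' D (-1 : ℤ) 1 (by norm_num)).toAdjunction
  have hgc : g ≫ c = 0 := by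
    have h31 : c ≫ (shiftFunctor D (1 : ℤ)).map (𝟙 (∐ K) - DerLim.shiftMap K f) = 0 :=
      comp_distTriang_mor_zero₃₁ _ hT
    have h0 : (adj.homEquiv _ _).symm (g ≫ c) ≫ (𝟙 (∐ K) - DerLim.shiftMap K f) = 0 := by
      rw [← Adjunction.homEquiv_naturality_right_symm, Category.assoc, h31, Limits.comp_zero]
      exact map_zero (adj.homAddEquiv _ _).symm
    have h1 := IsCompactObject.eq_zero_of_comp_one_sub_shiftMap (isCompactObject_shift hC (-1))
      K f _ h0
    have h2 := congrArg (adj.homEquiv _ _) h1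
    rw [Equiv.apply_symm_apply] at h2
    rw [h2]
    exact map_zero (adj.homAddEquiv _ _)
  -- step 2 : factor through `∐ K`
  obtain ⟨(g' : C ⟶ ∐ K), hg'⟩ := Triangle.coyoneda_exact₃ _ hT g hgc
  replace hg' : g = g' ≫ Sigma.desc j := hg'
  obtain ⟨s, a, hs⟩ := IsCompactObject.exists_finset_nat hC K g'
  -- step 3 : push to one stage
  obtain ⟨N, hN⟩ : ∃ N, s ⊆ Finset.range (N + 1) :=
    ⟨s.sup id, fun n hn => Finset.mem_range.2 (Nat.lt_succ_of_le (Finset.le_sup (f := id) hn))⟩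
  obtain ⟨b, hb⟩ := exists_factor_of_sum K f j hj (fun n => if n ∈ s then a n else 0) N
  refine ⟨N, b, ?_⟩
  rw [← hb, hg', hs, Preadditive.sum_comp]
  rw [← Finset.sum_subset hN]
  · refine Finset.sum_congr rfl (fun n hn => ?_)
    rw [if_pos hn, Category.assoc, Sigma.ι_desc]
  · intro n _ hn
    rw [if_neg hn, Limits.zero_comp]

end Hocolim

end Groth.Agent.H6
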