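import Groth.Agent.H56.PerfDual
import Groth.Agent.S6515
import Groth.Agent.H6.TensorQCoh
import Groth.Agent.H31.RelStep
import Groth.Agent.H45.ExtUnit
import Groth.Agent.H40.FlatBridge

/-!
# (P3) for helper56's S1115/S11112 squad: `- ⊗^L C` and the canonical t-structure (helper6)

* `isLE_LTensorCx` : `C` with `H^i(C) = 0` for `i > m`, `N ∈ D^{≤ k}` ⇒ `N ⊗^L C ∈ D^{≤ k + m + 1}`.
-/

set_option autoImplicit false
set_option backward.isDefEq.respectTransparency false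
universe u
open CategoryTheory CategoryTheory.Limits AlgebraicGeometry HomologicalComplex
  CategoryTheory.Pretriangulated ZeroObject
attribute [local instance] HasDerivedCategory.standard

namespace Groth.Agent.PC

open Groth.Agent.H31 Groth.Agent.H31.Stalk Groth.Agent.H31.KFlat Groth.Agent.H31.FreeSum
  Groth.Agent.H31.PullTensor

variable {Z : Scheme.{u}}

/-- A coproduct of modules `j_! O_U` is flat. -/
theorem isFlat_of_isFS (M : Z.Modules) (h : IsFS (shX Z) M) : ModSite.IsFlat (O := shX Z) M := by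
  obtain ⟨ι, U, ⟨e⟩⟩ := h
  apply Groth.Agent.H40.FlatBridge.isFlat_of_stalkFlat (X := Z)
  exact Groth.Agent.H45.ExtUnit.isFlat_of_iso e.symm
    (Groth.Agent.H45.ExtUnit.isFlat_sigma _ (fun i => Groth.Agent.H45.ExtUnit.isFlat_freeOn (U i)))

/-- The terms of `Tot (K₁ ⊗ K₂)` vanish above `k + m'` when those of `K₁` vanish above `k` and
those of `K₂` above `m'`. -/
theorem isZero_X_tensorCx (K₁ K₂ : CochainComplex Z.Modules ℤ) (k m' : ℤ)
    (h₁ : ∀ p, k < p → IsZero (K₁.X p)) (h₂ : ∀ q, m' < q → IsZero (K₂.X q)) (n : ℤ)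
    (hn : k + m' < n) : IsZero (((DCoh.tensorCx.obj K₁).obj K₂).X n) := by
  let K := (((DCoh.tensorBi (X := Z)).mapBifunctorHomologicalComplex (ComplexShape.up ℤ)
    (ComplexShape.up ℤ)).obj K₁).obj K₂
  have hc := GradedObject.isColimitCofanMapObj K.toGradedObject
    (ComplexShape.π (ComplexShape.up ℤ) (ComplexShape.up ℤ) (ComplexShape.up ℤ)) n
  rw [IsZero.iff_id_eq_zero]
  apply Cofan.IsColimit.hom_ext hc
  rintro ⟨⟨p, q⟩, hpq⟩
  have hpq' : p + q = n := hpq
  have hz : IsZero (((DCoh.tensorBi (X := Z)).obj (K₁.X p)).obj (K₂.X q)) := by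
    by_cases hp : k < p
    · exact (Functor.isZero_iff _).1 (Functor.map_isZero (DCoh.tensorBi (X := Z)) (h₁ p hp)) _
    · exact Functor.map_isZero ((DCoh.tensorBi (X := Z)).obj (K₁.X p)) (h₂ q (by omega))
  exact hz.eq_of_src _ _

/-- **(P3)** -/
theorem isLE_LTensorCx {Z : Scheme.{u}} (C : CochainComplex Z.Modules ℤ) [DCoh.HasLTensorCx C]
    (m : ℤ) (hC : ∀ i : ℤ, m < i → IsZero (C.homology i)) (N : DCoh.D Z) (k : ℤ) [N.IsLE k] :
    ((DCoh.LTensorCx C).obj N).IsLE (k + m + 1) := by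
  have hCle : C.IsLE m := (CochainComplex.isLE_iff C m).2
    (fun i hi => (HomologicalComplex.exactAt_iff_isZero_homology _ _).2 (hC i hi))
  have hL : ∀ q, m < q → IsZero ((C.truncLE m).X q) :=
    fun q hq => CochainComplex.isZero_of_isStrictlyLE _ m q hq
  have h0 : ∀ q, IsZero ((0 : CochainComplex (ModSite.Mod (shX Z)) ℤ).X q) := fun q =>
    Functor.map_isZero (HomologicalComplex.eval _ _ q) (isZero_zero _)
  obtain ⟨F₁, ι, π, hb, -, hqi, -, hs⟩ := exists_relStep (O := shX Z) (C.truncLE m)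
    (0 : CochainComplex (ModSite.Mod (shX Z)) ℤ) m hL (fun q _ => h0 q) 0
  have hfs : ∀ q, IsFS (shX Z) (F₁.X q) := fun q => (hs q).isFS (IsFS.of_isZero (h0 q))
  have hflat : ∀ q, ModSite.IsFlat (F₁.X q) := fun q => isFlat_of_isFS _ (hfs q)
  have hF₁ : ModSite.IsKFlat (O := shX Z) F₁ :=
    isKFlat_of_bounded_above_flat F₁ (m + 1) hb hflat
  have hF₁' : DCoh.IsKFlat F₁ := hF₁
  let q : F₁ ⟶ C := π ≫ C.ιTruncLE m
  have hq : QuasiIso q := by
    have := hqi
    infer_instance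
  have i0 : ModSite.HasLTensorCx (O := shX Z) F₁ := Groth.Agent.H6.TensorQCoh.hasLTensorCx F₁
  have i1 : ModSite.HasLTensorCx (O := shX Z) C := ‹DCoh.HasLTensorCx C›
  have i0' : DCoh.HasLTensorCx F₁ := Groth.Agent.H6.TensorQCoh.hasLTensorCx F₁
  let φ : DCoh.LTensorCx F₁ ≅ DCoh.LTensorCx C :=
    Groth.Agent.H40.LTensorInv.invIso (O := shX Z) q hq hF₁
  obtain ⟨P, hP, ⟨eP⟩⟩ := N.exists_iso_Q_obj_of_isLE k
  have e : DerivedCategory.Q.obj ((DCoh.tensorCx.obj P).obj F₁) ≅ (DCoh.LTensorCx C).obj N :=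
    (LTensorCxObjIso F₁ hF₁' P).symm ≪≫ φ.app _ ≪≫ (DCoh.LTensorCx C).mapIso eP.symm
  have hT : ((DCoh.tensorCx.obj P).obj F₁).IsStrictlyLE (k + m + 1) :=
    (CochainComplex.isStrictlyLE_iff _ _).2 (fun n hn =>
      isZero_X_tensorCx P F₁ k (m + 1)
        (fun p hp => CochainComplex.isZero_of_isStrictlyLE P k p hp) hb n (by omega))
  exact DerivedCategory.TStructure.t.isLE_of_iso e _

end Groth.Agent.PC
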