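import Groth.Agent.H6.PC3
import Groth.Agent.H31.FlatSite

/-!
# Sharp form of (P3) for helper56's S11112 (helper6)

* `exists_bounded_kflat` : a complex with `H^i = 0` for `i > m` has a K-flat resolution with flat
  terms vanishing above `m`.
* `isLE_LTensorCx_sharp` : `N ∈ D^{≤ k}` ⇒ `N ⊗^L C ∈ D^{≤ k + m}`.
-/

set_option autoImplicit false
set_option backward.isDefEq.respectTransparency false
universe u
open CategoryTheory CategoryTheory.Limits AlgebraicGeometry HomologicalComplex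
  CategoryTheory.Pretriangulated ZeroObject
attribute [local instance] HasDerivedCategory.standard

namespace Groth.Agent.PC

open Groth.Agent.H31 Groth.Agent.H31.Stalk Groth.Agent.H31.KFlat Groth.Agent.H31.FreeSum
  Groth.Agent.H31.PullTensor

variable {Z : Scheme.{u}}

theorem exists_bounded_kflat (C : CochainComplex Z.Modules ℤ) (m : ℤ)
    (hC : ∀ i : ℤ, m < i → IsZero (C.homology i)) :
    ∃ (F : CochainComplex Z.Modules ℤ) (q : F ⟶ C), ModSite.IsKFlat (O := shX Z) F ∧ QuasiIso q ∧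
      ∀ i, m < i → IsZero (F.X i) := by
  have hCle : C.IsLE m := (CochainComplex.isLE_iff C m).2
    (fun i hi => (HomologicalComplex.exactAt_iff_isZero_homology _ _).2 (hC i hi))
  have hL : ∀ q, m < q → IsZero ((C.truncLE m).X q) :=
    fun q hq => CochainComplex.isZero_of_isStrictlyLE _ m q hq
  have h0 : ∀ q, IsZero ((0 : CochainComplex (ModSite.Mod (shX Z)) ℤ).X q) := fun q =>
    Functor.map_isZero (HomologicalComplex.eval _ _ q) (isZero_zero _)
  obtain ⟨F₁, ι, π, hb, -, hqi, -, hs⟩ := exists_relStep (O := shX Z) (C.truncLE m)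
    (0 : CochainComplex (ModSite.Mod (shX Z)) ℤ) m hL (fun q _ => h0 q) 0
  have hfs : ∀ q, IsFS (shX Z) (F₁.X q) := fun q => (hs q).isFS (IsFS.of_isZero (h0 q))
  have hflat : ∀ q, ModSite.IsFlat (F₁.X q) := fun q => isFlat_of_isFS _ (hfs q)
  -- `F₁` is exact above `m`
  have hF₁le : F₁.IsLE m := by
    rw [CochainComplex.isLE_iff]
    intro i hi
    rw [HomologicalComplex.exactAt_iff_isZero_homology]
    have := hqi
    have hz : IsZero ((C.truncLE m).homology i) :=
      (HomologicalComplex.exactAt_iff_isZero_homology _ _).1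
        (CochainComplex.exactAt_of_isLE (C.truncLE m) m i hi)
    have hiso : IsIso (HomologicalComplex.homologyMap π i) :=
      (quasiIsoAt_iff_isIso_homologyMap π i).1 (hqi.quasiIsoAt i)
    exact IsZero.of_iso hz (asIso (HomologicalComplex.homologyMap π i))
  -- the short exact sequence `0 → Z^m → F₁^m → F₁^{m+1} → 0`
  let S : ShortComplex (ModSite.Mod (shX Z)) :=
    ShortComplex.mk (F₁.iCycles m) (F₁.d m (m + 1)) (F₁.iCycles_d m (m + 1))
  have hS : S.ShortExact := by
    have hex : S.Exact := ShortComplex.exact_of_f_is_kernel _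
      (F₁.cyclesIsKernel m (m + 1) (by simp))
    have hepi : Epi S.g := by
      have h1 : (F₁.sc' m (m + 1) (m + 2)).Exact :=
        (HomologicalComplex.exactAt_iff' _ m (m + 1) (m + 2) (by simp) (by simp; omega)).1
          (CochainComplex.exactAt_of_isLE F₁ m (m + 1) (by omega))
      exact h1.epi_f ((hb (m + 2) (by omega)).eq_of_tgt _ _)
    have hmono : Mono S.f := inferInstanceAs (Mono (F₁.iCycles m))
    exact { exact := hex }
  have hcyc : ModSite.IsFlat (F₁.cycles m) :=
    Groth.Agent.H31.isFlat_left S hS (hflat m) (hflat (m + 1))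
  let F₂ := F₁.truncLE m
  have hflat₂ : ∀ i, ModSite.IsFlat (F₂.X i) := by
    intro i
    rcases lt_trichotomy i m with hi | hi | hi
    · exact ExtZero.isFlat_of_iso (F₁.truncLEXIso m i hi).symm (hflat i)
    · subst hi
      exact ExtZero.isFlat_of_iso (F₁.truncLEXIsoCycles i).symm hcyc
    · exact isFlat_of_isZero _ (CochainComplex.isZero_of_isStrictlyLE _ m i hi)
  have hb₂ : ∀ i, m < i → IsZero (F₂.X i) :=
    fun i hi => CochainComplex.isZero_of_isStrictlyLE _ m i hi
  refine ⟨F₂, F₁.ιTruncLE m ≫ π ≫ C.ιTruncLE m, isKFlat_of_bounded_above_flat F₂ m hb₂ hflat₂,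
    ?_, hb₂⟩
  have := hqi
  infer_instance

/-- **(P3), sharp form.** -/
theorem isLE_LTensorCx_sharp {Z : Scheme.{u}} (C : CochainComplex Z.Modules ℤ)
    [DCoh.HasLTensorCx C] (m : ℤ) (hC : ∀ i : ℤ, m < i → IsZero (C.homology i)) (N : DCoh.D Z)
    (k : ℤ) [N.IsLE k] : ((DCoh.LTensorCx C).obj N).IsLE (k + m) := by
  obtain ⟨F₁, q, hF₁, hq, hb⟩ := exists_bounded_kflat C m hC
  have hF₁' : DCoh.IsKFlat F₁ := hF₁
  have i0 : ModSite.HasLTensorCx (O := shX Z) F₁ := Groth.Agent.H6.TensorQCoh.hasLTensorCx F₁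
  have i1 : ModSite.HasLTensorCx (O := shX Z) C := ‹DCoh.HasLTensorCx C›
  have i0' : DCoh.HasLTensorCx F₁ := Groth.Agent.H6.TensorQCoh.hasLTensorCx F₁
  let φ : DCoh.LTensorCx F₁ ≅ DCoh.LTensorCx C :=
    Groth.Agent.H40.LTensorInv.invIso (O := shX Z) q hq hF₁
  obtain ⟨P, hP, ⟨eP⟩⟩ := N.exists_iso_Q_obj_of_isLE k
  have e : DerivedCategory.Q.obj ((DCoh.tensorCx.obj P).obj F₁) ≅ (DCoh.LTensorCx C).obj N :=
    (LTensorCxObjIso F₁ hF₁' P).symm ≪≫ φ.app _ ≪≫ (DCoh.LTensorCx C).mapIso eP.symm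
  have hT : ((DCoh.tensorCx.obj P).obj F₁).IsStrictlyLE (k + m) :=
    (CochainComplex.isStrictlyLE_iff _ _).2 (fun n hn =>
      isZero_X_tensorCx P F₁ k m
        (fun p hp => CochainComplex.isZero_of_isStrictlyLE P k p hp) hb n (by omega))
  exact DerivedCategory.TStructure.t.isLE_of_iso e _

end Groth.Agent.PC
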