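import Mathlib.RingTheory.AdicCompletion.Basic
import Mathlib.Algebra.Ring.GeomSum

set_option autoImplicit false
universe u v

namespace Groth.Agent.H6

open Finset

/-- If `N` is `J`-adically complete and `b ∈ J`, then `1 - b` acts bijectively on `N`. -/
theorem one_sub_smul_bijective_of_isAdicComplete {S : Type u} {N : Type v} [CommRing S]
    [AddCommGroup N] [Module S N] (J : Ideal S) [IsAdicComplete J N] (b : S) (hb : b ∈ J) :
    Function.Bijective (fun x : N => (1 - b) • x) := by
  have hmem : ∀ (n : ℕ) (x : N), b ^ n • x ∈ (J ^ n • ⊤ : Submodule S N) := fun n x =>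
    Submodule.smul_mem_smul (Ideal.pow_mem_pow hb n) Submodule.mem_top
  constructor
  · intro x y hxy
    rw [← sub_eq_zero]
    have hd : (1 - b) • (x - y) = 0 := by
      simp only at hxy
      rw [smul_sub, hxy, sub_self]
    generalize x - y = d at hd
    have hd' : d = b • d := by
      rw [sub_smul, one_smul, sub_eq_zero] at hd
      exact hd
    have hdn : ∀ n : ℕ, d = b ^ n • d := by
      intro n
      induction n with
      | zero => simp
      | succ n ih => rw [pow_succ, mul_smul, ← hd', ← ih]
    apply IsHausdorff.haus (IsAdicComplete.toIsHausdorff : IsHausdorff J N)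
    intro n
    rw [SModEq.sub_mem, sub_zero, hdn n]
    exact hmem n d
  · intro y
    let f : ℕ → N := fun n => (∑ i ∈ range n, b ^ i) • y
    have hf : ∀ {m n}, m ≤ n → f m ≡ f n [SMOD (J ^ m • ⊤ : Submodule S N)] := by
      intro m n h
      simp only [f, SModEq.sub_mem]
      rw [← sub_smul, ← add_tsub_cancel_of_le h, Finset.sum_range_add, ← sub_sub, sub_self,
        zero_sub, neg_smul, neg_mem_iff, Finset.sum_smul]
      apply Submodule.sum_mem
      intro i _
      rw [pow_add, mul_smul]
      exact hmem m _
    obtain ⟨L, hL⟩ := IsPrecomplete.prec (IsAdicComplete.toIsPrecomplete : IsPrecomplete J N) hf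
    refine ⟨L, ?_⟩
    simp only
    rw [← sub_eq_zero]
    apply IsHausdorff.haus (IsAdicComplete.toIsHausdorff : IsHausdorff J N)
    intro n
    have hLn := hL n
    rw [SModEq.sub_mem] at hLn ⊢
    rw [sub_zero]
    have key : (1 - b) • L - y = -((1 - b) • (f n - L)) - b ^ n • y := by
      have h1 : (1 - b) • f n = y - b ^ n • y := by
        simp only [f]
        rw [← mul_smul, mul_neg_geom_sum, sub_smul, one_smul]
      rw [smul_sub, h1]
      abel
    rw [key]
    exact Submodule.sub_mem _ (Submodule.neg_mem _ (Submodule.smul_mem _ _ hLn)) (hmem n y)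

end Groth.Agent.H6
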