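import Mathlib

/-!
# Coordinates of a free module outside a finite set of basis vectors
-/

set_option autoImplicit false
open Module

namespace Groth.Agent.H6.BasisKer

variable {R : Type*} [CommRing R]

lemma lsubtypeDomain_surjective {α : Type*} (s : Set α) :
    Function.Surjective (Finsupp.lsubtypeDomain s : (α →₀ R) →ₗ[R] s →₀ R) := by
  classical
  intro g
  refine ⟨Finsupp.extendDomain g, ?_⟩
  rw [Finsupp.lsubtypeDomain_apply]
  exact Finsupp.subtypeDomain_extendDomain g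

lemma lsubtypeDomain_single_eq_zero {α : Type*} (B : Set α) (l : α) (hl : l ∈ B) (c : R) :
    (Finsupp.lsubtypeDomain (Bᶜ) : (α →₀ R) →ₗ[R] _) (Finsupp.single l c) = 0 := by
  classical
  ext a
  rw [Finsupp.lsubtypeDomain_apply, Finsupp.subtypeDomain_apply, Finsupp.single_apply, if_neg]
  · rfl
  · intro h
    exact a.2 (h ▸ hl)

variable {P : Type*} [AddCommGroup P] [Module R P] {Λ : Type*} (bs : Basis Λ R P)

/-- The coordinates outside `s`. -/
noncomputable def ρ (s : Set Λ) : P →ₗ[R] (↥(sᶜ) →₀ R) :=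
  (Finsupp.lsubtypeDomain (sᶜ)) ∘ₗ bs.repr.toLinearMap

lemma ρ_apply (s : Set Λ) (x : P) (l : ↥(sᶜ)) : ρ bs s x l = bs.repr x l := by
  simp [ρ, Finsupp.lsubtypeDomain_apply, Finsupp.subtypeDomain_apply]

lemma ρ_surjective (s : Set Λ) : Function.Surjective (ρ bs s) :=
  (lsubtypeDomain_surjective (sᶜ)).comp bs.repr.surjective

lemma mem_ker_ρ (s : Set Λ) (x : P) :
    x ∈ LinearMap.ker (ρ bs s) ↔ x ∈ Submodule.span R (bs '' s) := by
  rw [LinearMap.mem_ker, Basis.mem_span_image]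
  constructor
  · intro h l hl
    by_contra hls
    have h1 := DFunLike.congr_fun h ⟨l, hls⟩
    rw [ρ_apply] at h1
    exact (Finsupp.mem_support_iff.1 (Finset.mem_coe.1 hl)) (by simpa using h1)
  · intro h
    ext l
    rw [ρ_apply]
    by_contra h0
    exact l.2 (h (Finset.mem_coe.2 (Finsupp.mem_support_iff.2 h0)))

/-- Second stage: forget moreover the coordinates in `B`. -/
noncomputable def ρ₂ (A : Set Λ) (B : Set ↥(Aᶜ)) : P →ₗ[R] (↥(Bᶜ) →₀ R) :=
  (Finsupp.lsubtypeDomain (Bᶜ)) ∘ₗ ρ bs A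

lemma ρ₂_apply (A : Set Λ) (B : Set ↥(Aᶜ)) (x : P) (l : ↥(Bᶜ)) :
    ρ₂ bs A B x l = bs.repr x (l : ↥(Aᶜ)) := by
  simp [ρ₂, Finsupp.lsubtypeDomain_apply, Finsupp.subtypeDomain_apply, ρ_apply]

lemma ρ₂_surjective (A : Set Λ) (B : Set ↥(Aᶜ)) : Function.Surjective (ρ₂ bs A B) :=
  (lsubtypeDomain_surjective (Bᶜ)).comp (ρ_surjective bs A)

lemma mem_ker_ρ₂ (A : Set Λ) (B : Set ↥(Aᶜ)) (x : P) :
    x ∈ LinearMap.ker (ρ₂ bs A B) ↔ x ∈ Submodule.span R (bs '' (A ∪ Subtype.val '' B)) := by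
  rw [LinearMap.mem_ker, Basis.mem_span_image]
  constructor
  · intro h l hl
    by_contra hls
    rw [Set.mem_union, not_or] at hls
    have hlA : l ∈ Aᶜ := hls.1
    have hlB : (⟨l, hlA⟩ : ↥(Aᶜ)) ∈ Bᶜ := fun hb => hls.2 ⟨⟨l, hlA⟩, hb, rfl⟩
    have h1 := DFunLike.congr_fun h ⟨⟨l, hlA⟩, hlB⟩
    rw [ρ₂_apply] at h1
    exact (Finsupp.mem_support_iff.1 (Finset.mem_coe.1 hl)) (by simpa using h1)
  · intro h
    ext l
    rw [ρ₂_apply]
    by_contra h0
    have hl := h (Finset.mem_coe.2 (Finsupp.mem_support_iff.2 h0))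
    rcases hl with hA | ⟨b, hb, hbl⟩
    · exact l.1.2 hA
    · have hbl' : b = l.1 := Subtype.ext hbl
      exact l.2 (hbl' ▸ hb)

lemma finite_span (T : Set Λ) (hT : T.Finite) :
    Module.Finite R (Submodule.span R (bs '' T)) :=
  Module.Finite.span_of_finite R (hT.image _)

lemma free_span (T : Set Λ) : Module.Free R (Submodule.span R (bs '' T)) := by
  rw [Set.image_eq_range]
  exact Module.Free.of_basis (Basis.span (bs.linearIndependent.comp _ Subtype.val_injective))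

lemma exists_finite_of_fg (N : Submodule R P) (hN : N.FG) :
    ∃ A : Finset Λ, N ≤ Submodule.span R (bs '' (A : Set Λ)) := by
  classical
  obtain ⟨G, rfl⟩ := hN
  refine ⟨G.biUnion (fun g => (bs.repr g).support), ?_⟩
  rw [Submodule.span_le]
  intro g hg
  have h1 := bs.mem_span_repr_support g
  refine Submodule.span_mono (Set.image_mono ?_) h1
  intro l hl
  exact Finset.mem_coe.2 (Finset.mem_biUnion.2 ⟨g, Finset.mem_coe.1 hg, Finset.mem_coe.1 hl⟩)

end Groth.Agent.H6.BasisKer
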