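import Mathlib
import Groth.Agent.H6.TeleCx

/-!
# Sequences of complexes with eventually vanishing terms

If `G 0 ⟶ G 1 ⟶ ...` is a sequence of complexes of modules such that in each degree the terms of
`G n` vanish for `n` large, then the colimit is zero; hence any map from a countably compact object
of `D(R)` to `Q (G 0)` dies in some `Q (G m)`.
-/

set_option autoImplicit false
universe w u
open CategoryTheory CategoryTheory.Limits

namespace Groth.Agent.H6.ZeroColim

open DerivedCategory ZeroObject

variable {R : Type u} [Ring R] (G : ℕ → CochainComplex (ModuleCat.{u} R) ℤ)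
  (p : ∀ n, G n ⟶ G (n + 1))

/-- The composite `G 0 ⟶ G m`. -/
noncomputable def compTo : ∀ m, G 0 ⟶ G m
  | 0 => 𝟙 _
  | (m + 1) => compTo m ≫ p m

@[simp] lemma compTo_zero : compTo G p 0 = 𝟙 _ := rfl

@[simp] lemma compTo_succ (m : ℕ) : compTo G p (m + 1) = compTo G p m ≫ p m := rfl

lemma ofSequence_map_zero_le (m : ℕ) :
    (Functor.ofSequence p).map (homOfLE (Nat.zero_le m)) = compTo G p m := by
  induction m with
  | zero =>
    rw [Subsingleton.elim (homOfLE (Nat.zero_le 0)) (𝟙 (0 : ℕ)), CategoryTheory.Functor.map_id]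
    rfl
  | succ m ih =>
    rw [Subsingleton.elim (homOfLE (Nat.zero_le (m + 1)))
      (homOfLE (Nat.zero_le m) ≫ homOfLE (Nat.le_add_right m 1)), Functor.map_comp, ih,
      Functor.ofSequence_map_homOfLE_succ]
    rfl

/-- The zero cocone. -/
noncomputable def zeroCocone : Cocone (Functor.ofSequence p) where
  pt := 0
  ι := { app := fun _ => 0 }

variable (hvan : ∀ i : ℤ, ∃ N : ℕ, ∀ n, N ≤ n → IsZero ((G n).X i))

include hvan in
lemma ι_app_eq_zero (s : Cocone (Functor.ofSequence p)) (n : ℕ) : s.ι.app n = 0 := by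
  ext i
  obtain ⟨N, hN⟩ := hvan i
  have h1 : s.ι.app n = (Functor.ofSequence p).map (homOfLE (le_max_left n N)) ≫
      s.ι.app (max n N) := (s.w _).symm
  have hz : IsZero ((G (max n N)).X i) := hN _ (le_max_right _ _)
  have h2 : (s.ι.app (max n N)).f i = 0 := hz.eq_of_src _ _
  rw [h1, HomologicalComplex.comp_f, h2, comp_zero, HomologicalComplex.zero_f]

include hvan in
/-- The zero cocone is a colimit. -/
noncomputable def isColimitZero : IsColimit (zeroCocone G p) where
  desc s := 0
  fac s n := by
    rw [comp_zero]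
    exact (ι_app_eq_zero G p hvan s n).symm
  uniq s m hm := (isZero_zero _).eq_of_src _ _

include hvan in
theorem exists_comp_eq_zero [HasDerivedCategory.{w} (ModuleCat.{u} R)]
    (K : DerivedCategory (ModuleCat.{u} R)) (hK : Telescope.CtblCompact K)
    (y : K ⟶ Q.obj (G 0)) : ∃ m, y ≫ Q.map (compTo G p m) = 0 := by
  obtain ⟨m, h, hm⟩ := (TeleCx.main (Functor.ofSequence p) K hK
    (isColimitZero G p hvan)).2 0 y (by
      have : (zeroCocone G p).ι.app 0 = 0 := rfl
      rw [this, Functor.map_zero, comp_zero])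
  refine ⟨m, ?_⟩
  rw [← ofSequence_map_zero_le]
  exact hm

end Groth.Agent.H6.ZeroColim
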