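import Mathlib
import Groth.Agent.H6.ZeroColim
import Groth.Agent.H6.CompactPerf1

/-!
# Compact objects of `D(R)`, part 2: compact objects are bounded above
-/

set_option autoImplicit false
universe u
open CategoryTheory CategoryTheory.Limits

namespace Groth.Agent.H6.CompactPerf

open DRing DerivedCategory
attribute [local instance] HasDerivedCategory.standard

variable {R : Type u} [CommRing R]

/-- Iterated canonical truncations `C ⟶ τ≥0 C ⟶ τ≥1 τ≥0 C ⟶ ...`. -/
noncomputable def trG (C : Cx R) (n : ℕ) : Cx R :=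
  Nat.rec C (fun k X => X.truncGE (k : ℤ)) n

/-- The transition maps of the iterated truncations. -/
noncomputable def trP (C : Cx R) (n : ℕ) : trG C n ⟶ trG C (n + 1) :=
  (trG C n).πTruncGE (n : ℤ)

lemma trG_vanish (C : Cx R) (i : ℤ) : ∃ N : ℕ, ∀ n, N ≤ n → IsZero ((trG C n).X i) := by
  refine ⟨i.toNat + 2, fun n hn => ?_⟩
  obtain ⟨k, rfl⟩ : ∃ k, n = k + 1 := ⟨n - 1, by omega⟩
  show IsZero (((trG C k).truncGE (k : ℤ)).X i)
  exact CochainComplex.isZero_of_isStrictlyGE _ (k : ℤ) i (by omega)

lemma quasiIsoAt_compTo (C : Cx R) (m : ℕ) (q : ℤ) (hq : (m : ℤ) ≤ q + 1) :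
    QuasiIsoAt (ZeroColim.compTo (trG C) (trP C) m) q := by
  induction m with
  | zero =>
    rw [ZeroColim.compTo_zero]
    infer_instance
  | succ m ih =>
    rw [ZeroColim.compTo_succ]
    have h1 := ih (by push_cast at hq; omega)
    have h2 : QuasiIsoAt (trP C m) q :=
      CochainComplex.quasiIsoAt_πTruncGE _ _ _ (by push_cast at hq; omega)
    infer_instance

/-- Countably compact objects of `D(R)` are bounded above. -/
theorem exists_isLE_of_ctblCompact (K : Dual.D R) (hK : Telescope.CtblCompact K) :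
    ∃ b : ℤ, K.IsLE b := by
  obtain ⟨m, hm⟩ := ZeroColim.exists_comp_eq_zero (trG (Q.objPreimage K))
    (trP (Q.objPreimage K)) (trG_vanish (Q.objPreimage K)) K hK (Q.objObjPreimageIso K).inv
  have h0 : Q.map (ZeroColim.compTo (trG (Q.objPreimage K)) (trP (Q.objPreimage K)) m) = 0 :=
    (cancel_epi (Q.objObjPreimageIso K).inv).1 (hm.trans comp_zero.symm)
  refine ⟨(m : ℤ), ?_⟩
  have hC : (Q.objPreimage K : Cx R).IsLE (m : ℤ) := by
    rw [CochainComplex.isLE_iff]
    intro q hq
    rw [HomologicalComplex.exactAt_iff_isZero_homology]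
    have hqi := quasiIsoAt_compTo (Q.objPreimage K) m q (by omega)
    rw [quasiIsoAt_iff_isIso_homologyMap] at hqi
    have hz : HomologicalComplex.homologyMap
        (ZeroColim.compTo (trG (Q.objPreimage K)) (trP (Q.objPreimage K)) m) q = 0 := by
      have nat := homologyFunctorFactors_hom_naturality
        (ZeroColim.compTo (trG (Q.objPreimage K)) (trP (Q.objPreimage K)) m) q
      rw [h0, Functor.map_zero, zero_comp] at nat
      exact (cancel_epi ((homologyFunctorFactors (ModuleCat.{u} R) q).hom.app _)).1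
        (nat.symm.trans comp_zero.symm)
    have hmono : Mono (HomologicalComplex.homologyMap
        (ZeroColim.compTo (trG (Q.objPreimage K)) (trP (Q.objPreimage K)) m) q) := by
      haveI := hqi
      infer_instance
    show IsZero (HomologicalComplex.homology (trG (Q.objPreimage K) 0) q)
    exact IsZero.of_mono_eq_zero _ hz
  have : (Q.obj (Q.objPreimage K : Cx R)).IsLE (m : ℤ) := (isLE_Q_obj_iff _ _).2 hC
  exact TStructure.t.isLE_of_iso (Q.objObjPreimageIso K) (m : ℤ)

end Groth.Agent.H6.CompactPerf
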