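import Mathlib

/-!
# The kernel of an epimorphism of complexes

For an epimorphism `q : L ⟶ Z` of cochain complexes: the short exact sequence
`0 ⟶ kernel q ⟶ L ⟶ Z ⟶ 0`, degreewise information on `kernel q`, and the factorization through
`Q (kernel q)` of maps `K ⟶ Q L` in the derived category killed by `Q q`.
-/

set_option autoImplicit false
universe w v u
open CategoryTheory CategoryTheory.Limits

namespace Groth.Agent.H6.KerSES

open DerivedCategory Pretriangulated

variable {A : Type u} [Category.{v} A] [Abelian A] {L Z : CochainComplex A ℤ} (q : L ⟶ Z)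

/-- The short complex `kernel q ⟶ L ⟶ Z`. -/
noncomputable abbrev SC : ShortComplex (CochainComplex A ℤ) :=
  ShortComplex.mk (kernel.ι q) q (kernel.condition q)

lemma shortExact [Epi q] : (SC q).ShortExact :=
  { exact := ShortComplex.exact_kernel q
    mono_f := by dsimp; infer_instance
    epi_g := by dsimp; infer_instance }

lemma degreewise [Epi q] (i : ℤ) :
    ((SC q).map (HomologicalComplex.eval A (ComplexShape.up ℤ) i)).ShortExact :=
  (HomologicalComplex.shortExact_iff_degreewise_shortExact _).1 (shortExact q) i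

lemma mono_ι_f [Epi q] (i : ℤ) : Mono ((kernel.ι q).f i) := (degreewise q i).mono_f

lemma epi_q_f [Epi q] (i : ℤ) : Epi (q.f i) := (degreewise q i).epi_g

lemma ι_f_comp_q_f (i : ℤ) : (kernel.ι q).f i ≫ q.f i = 0 := by
  rw [← HomologicalComplex.comp_f, kernel.condition, HomologicalComplex.zero_f]

lemma isIso_ι_f [Epi q] (i : ℤ) (hz : IsZero (Z.X i)) : IsIso ((kernel.ι q).f i) := by
  have h1 : Mono ((kernel.ι q).f i) := mono_ι_f q i
  have h2 : Epi ((kernel.ι q).f i) := (degreewise q i).exact.epi_f (hz.eq_of_tgt _ _)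
  exact isIso_of_mono_of_epi _

lemma isZero_X [Epi q] (i : ℤ) [Mono (q.f i)] : IsZero ((kernel q).X i) := by
  have h1 : Mono ((kernel.ι q).f i) := mono_ι_f q i
  have h0 : (kernel.ι q).f i = 0 := by
    rw [← cancel_mono (q.f i), ι_f_comp_q_f, zero_comp]
  exact IsZero.of_mono_eq_zero _ h0

variable [HasDerivedCategory.{w} A]

lemma exists_factor [Epi q] (K : DerivedCategory A) (φ : K ⟶ Q.obj L)
    (h : φ ≫ Q.map q = 0) : ∃ φ' : K ⟶ Q.obj (kernel q), φ' ≫ Q.map (kernel.ι q) = φ := by
  have hT := DerivedCategory.triangleOfSES_distinguished (shortExact q)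
  obtain ⟨φ', hφ'⟩ := Triangle.coyoneda_exact₂ _ hT φ h
  exact ⟨φ', hφ'.symm⟩

end Groth.Agent.H6.KerSES
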