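import Mathlib
import Groth.Agent.H6.KerSES
import Groth.Agent.H6.CompactPerf2
import Groth.Agent.H35.TorAmp

/-!
# Compact objects of `D(R)`, part 3: a compact object is a retract of a bounded complex of free
modules
-/

set_option autoImplicit false
universe u
open CategoryTheory CategoryTheory.Limits

namespace Groth.Agent.H6.CompactPerf

section TopCell

variable {A : Type*} [Category A] [Abelian A]

open HomologicalComplex

/-- The inclusion of the top cell of a complex with `E^{b+1} = 0`. -/
noncomputable def topMap (E : CochainComplex A ℤ) (b : ℤ) (hb : IsZero (E.X (b + 1))) :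
    (single A (ComplexShape.up ℤ) b).obj (E.X b) ⟶ E :=
  mkHomFromSingle (𝟙 (E.X b)) (fun k hk => by
    have hk' : b + 1 = k := hk
    subst hk'
    exact hb.eq_of_tgt _ _)

variable (E : CochainComplex A ℤ) (b : ℤ) (hb : IsZero (E.X (b + 1)))

lemma isIso_topMap_f : IsIso ((topMap E b hb).f b) := by
  have : (topMap E b hb).f b = (singleObjXSelf (ComplexShape.up ℤ) b (E.X b)).hom ≫ 𝟙 _ :=
    mkHomFromSingle_f _ _
  rw [this]
  infer_instance

instance mono_topMap : Mono (topMap E b hb) := by
  apply HomologicalComplex.mono_of_mono_f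
  intro i
  by_cases hi : i = b
  · subst hi
    have := isIso_topMap_f E i hb
    infer_instance
  · exact ⟨fun _ _ _ =>
      (isZero_single_obj_X (ComplexShape.up ℤ) b (E.X b) i hi).eq_of_tgt _ _⟩

/-- The quotient of a complex by its top cell. -/
noncomputable abbrev topQuot : CochainComplex A ℤ := cokernel (topMap E b hb)

/-- The projection to the quotient by the top cell. -/
noncomputable abbrev topπ : E ⟶ topQuot E b hb := cokernel.π _

lemma topSES : (ShortComplex.mk (topMap E b hb) (topπ E b hb)
    (cokernel.condition _)).ShortExact :=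
  { exact := ShortComplex.exact_cokernel _
    mono_f := by dsimp; infer_instance
    epi_g := by dsimp [topπ]; infer_instance }

lemma isZero_topQuot_X : IsZero ((topQuot E b hb).X b) := by
  have hdeg := (HomologicalComplex.shortExact_iff_degreewise_shortExact _).1 (topSES E b hb) b
  have hepi : Epi ((topπ E b hb).f b) := hdeg.epi_g
  have := isIso_topMap_f E b hb
  have h0 : (topπ E b hb).f b = 0 := by
    rw [← cancel_epi ((topMap E b hb).f b), comp_zero, ← HomologicalComplex.comp_f]
    have : topMap E b hb ≫ topπ E b hb = 0 := cokernel.condition _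
    rw [this, HomologicalComplex.zero_f]
  exact IsZero.of_epi_eq_zero _ h0

lemma isIso_topπ_f (i : ℤ) (hi : i ≠ b) : IsIso ((topπ E b hb).f i) := by
  have hdeg := (HomologicalComplex.shortExact_iff_degreewise_shortExact _).1 (topSES E b hb) i
  have hz := isZero_single_obj_X (ComplexShape.up ℤ) b (E.X b) i hi
  have hepi : Epi ((topπ E b hb).f i) := hdeg.epi_g
  have hmono : Mono ((topπ E b hb).f i) := hdeg.exact.mono_g (hz.eq_of_src _ _)
  exact isIso_of_mono_of_epi _

end TopCell

open DRing DerivedCategory
attribute [local instance] HasDerivedCategory.standard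

variable {R : Type u} [CommRing R]

/-- The `n`-th stage of the tower of quotients by top cells. -/
structure Stage (R : Type u) [CommRing R] (b : ℤ) (n : ℕ) where
  /-- the complex -/
  G : Cx R
  hG : ∀ i : ℤ, b - n < i → IsZero (G.X i)

/-- The next stage. -/
noncomputable def Stage.next {b : ℤ} {n : ℕ} (s : Stage R b n) : Stage R b (n + 1) where
  G := topQuot s.G (b - n) (s.hG (b - n + 1) (by omega))
  hG := fun i hi => by
    by_cases h : i = b - n
    · subst h
      exact isZero_topQuot_X _ _ _
    · have := isIso_topπ_f s.G (b - n) (s.hG (b - n + 1) (by omega)) i h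
      exact (s.hG i (by push_cast at hi; omega)).of_iso
        (asIso ((topπ s.G (b - n) (s.hG (b - n + 1) (by omega))).f i)).symm

variable (F : Cx R) (b : ℤ) (hF : VanishesAbove F b)

/-- The tower of quotients by top cells. -/
noncomputable def stage (n : ℕ) : Stage R b n :=
  Nat.rec (motive := fun n => Stage R b n) ⟨F, fun i hi => hF i (by simpa using hi)⟩
    (fun _ s => s.next) n

/-- The complexes of the tower. -/
noncomputable def stG (n : ℕ) : Cx R := (stage F b hF n).G

/-- The transition maps of the tower. -/
noncomputable def stP (n : ℕ) : stG F b hF n ⟶ stG F b hF (n + 1) :=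
  topπ (stage F b hF n).G (b - n) ((stage F b hF n).hG (b - n + 1) (by omega))

lemma stG_vanish (i : ℤ) : ∃ N : ℕ, ∀ n, N ≤ n → IsZero ((stG F b hF n).X i) :=
  ⟨(b - i).toNat + 1, fun n hn => (stage F b hF n).hG i (by omega)⟩

lemma isIso_compTo_f (m : ℕ) (i : ℤ) (hi : i ≤ b - m) :
    IsIso ((ZeroColim.compTo (stG F b hF) (stP F b hF) m).f i) := by
  induction m with
  | zero =>
    rw [ZeroColim.compTo_zero, HomologicalComplex.id_f]
    infer_instance
  | succ m ih =>
    rw [ZeroColim.compTo_succ, HomologicalComplex.comp_f]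
    have := ih (by push_cast at hi; omega)
    have : IsIso ((stP F b hF m).f i) :=
      isIso_topπ_f _ _ _ i (by push_cast at hi; omega)
    infer_instance

lemma epi_compTo (m : ℕ) : Epi (ZeroColim.compTo (stG F b hF) (stP F b hF) m) := by
  apply HomologicalComplex.epi_of_epi_f
  intro i
  by_cases hi : i ≤ b - m
  · have := isIso_compTo_f F b hF m i hi
    infer_instance
  · have hz : IsZero ((stG F b hF m).X i) := (stage F b hF m).hG i (by omega)
    exact ⟨fun _ _ _ => hz.eq_of_src _ _⟩

/-- A countably compact object of `D(R)` which is bounded above is a retract of a bounded complex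
of free modules. -/
theorem exists_bounded_free_retract (K : Dual.D R) (hK : Telescope.CtblCompact K) (b : ℤ)
    [K.IsLE b] :
    ∃ (N : Cx R) (a : ℤ), VanishesOutside N a b ∧ (∀ i, Module.Free R (N.X i)) ∧
      ∃ (φ : K ⟶ Q.obj N) (ψ : Q.obj N ⟶ K), φ ≫ ψ = 𝟙 K := by
  obtain ⟨F, hF, hfree, ⟨e'⟩⟩ := Groth.Agent.H35.TorAmp.exists_free_model_of_isLE K b
  have e : Q.obj (stG F b hF 0) ≅ K := e'
  have hfree' : ∀ i, Module.Free R ((stG F b hF 0).X i) := hfree
  have hF' : ∀ i, b < i → IsZero ((stG F b hF 0).X i) := hF
  obtain ⟨m, hm⟩ := ZeroColim.exists_comp_eq_zero (stG F b hF) (stP F b hF)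
    (stG_vanish F b hF) K hK e.inv
  have := epi_compTo F b hF m
  obtain ⟨φ', hφ'⟩ := KerSES.exists_factor
    (ZeroColim.compTo (stG F b hF) (stP F b hF) m) K e.inv hm
  refine ⟨kernel (ZeroColim.compTo (stG F b hF) (stP F b hF) m), b - m + 1, ?_, ?_, φ',
    Q.map (kernel.ι _) ≫ e.hom, ?_⟩
  · intro i hi
    by_cases h : i ≤ b - m
    · have := isIso_compTo_f F b hF m i h
      exact KerSES.isZero_X _ i
    · have hb' : b < i := by omega
      have := KerSES.isIso_ι_f (ZeroColim.compTo (stG F b hF) (stP F b hF) m) i
        ((stage F b hF m).hG i (by omega))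
      exact (hF' i hb').of_iso
        (asIso ((kernel.ι (ZeroColim.compTo (stG F b hF) (stP F b hF) m)).f i))
  · intro i
    by_cases h : i ≤ b - m
    · have := isIso_compTo_f F b hF m i h
      have hz := KerSES.isZero_X (ZeroColim.compTo (stG F b hF) (stP F b hF) m) i
      have : Subsingleton ((kernel (ZeroColim.compTo (stG F b hF) (stP F b hF) m)).X i) :=
        ModuleCat.subsingleton_of_isZero hz
      exact Module.Free.of_subsingleton R _
    · have := KerSES.isIso_ι_f (ZeroColim.compTo (stG F b hF) (stP F b hF) m) i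
        ((stage F b hF m).hG i (by omega))
      have := hfree' i
      exact Module.Free.of_equiv
        (asIso ((kernel.ι
          (ZeroColim.compTo (stG F b hF) (stP F b hF) m)).f i)).toLinearEquiv.symm
  · rw [← Category.assoc, hφ', e.inv_hom_id]

end Groth.Agent.H6.CompactPerf
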