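import Mathlib
import Groth.Agent.H6.BasisKer
import Groth.Agent.H6.CompactPerf3
import Groth.Agent.H35.PerfAmp
import Groth.Agent.H56.PCohMore

/-!
# Compact objects of `D(R)`, part 4: compact objects are perfect
-/

set_option autoImplicit false
universe u
open CategoryTheory CategoryTheory.Limits

namespace Groth.Agent.H6.CompactPerf

open DRing DerivedCategory HomologicalComplex Pretriangulated
attribute [local instance] HasDerivedCategory.standard

variable {R : Type u} [CommRing R]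

section ToSingle

variable {L : Cx R} {c : ℤ} {W W' : ModuleCat.{u} R}

lemma epi_mkHomToSingle (ρ : L.X c ⟶ W)
    (h : ∀ i, (ComplexShape.up ℤ).Rel i c → L.d i c ≫ ρ = 0) [Epi ρ] :
    Epi (mkHomToSingle ρ h) := by
  apply HomologicalComplex.epi_of_epi_f
  intro j
  by_cases hj : j = c
  · subst hj
    rw [mkHomToSingle_f]
    infer_instance
  · exact ⟨fun _ _ _ => (isZero_single_obj_X (ComplexShape.up ℤ) c W j hj).eq_of_src _ _⟩

lemma mkHomToSingle_comp_map (ρ : L.X c ⟶ W)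
    (h : ∀ i, (ComplexShape.up ℤ).Rel i c → L.d i c ≫ ρ = 0) (r : W ⟶ W')
    (h' : ∀ i, (ComplexShape.up ℤ).Rel i c → L.d i c ≫ (ρ ≫ r) = 0) :
    mkHomToSingle ρ h ≫ (single (ModuleCat.{u} R) (ComplexShape.up ℤ) c).map r =
      mkHomToSingle (ρ ≫ r) h' := by
  apply to_single_hom_ext
  rw [comp_f, mkHomToSingle_f, mkHomToSingle_f, single_map_f_self]
  simp

end ToSingle

/-- Retracts of perfect objects are perfect. -/
theorem isPerfect_of_retract {K M : Dual.D R} (i : K ⟶ M) (p : M ⟶ K) (hip : i ≫ p = 𝟙 K)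
    (hM : IsPerfect R M) : IsPerfect R K := by
  obtain ⟨hpc, a, b, hamp⟩ := (Groth.Agent.H35.TorAmp.isPerfect_iff M).1 hM
  have hfm := Groth.Agent.H35.TorAmp.hasFlatModel_of_hasTorAmplitudeIn hamp
  refine (Groth.Agent.H35.TorAmp.isPerfect_iff K).2 ⟨?_, a, b,
    Groth.Agent.H35.TorAmp.hasTorAmplitudeIn_of_hasFlatModel
      (Groth.Agent.H35.TorAmp.hasFlatModel_of_retract i p hip hfm)⟩
  obtain ⟨C, g, h, hT⟩ := distinguished_cocone_triangle i
  have hmono : Mono i := (SplitMono.mk p hip).mono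
  have hzero : h = 0 := Triangle.mor₃_eq_zero_of_mono₁ _ hT hmono
  obtain ⟨e, -, -⟩ := exists_iso_binaryBiproduct_of_distTriang _ hT hzero
  have h1 : IsPseudoCoherent' R (K ⊞ C) := Groth.Agent.H56.isPseudoCoherent'_of_iso e hpc
  exact (Groth.Agent.H56.isPseudoCoherent'_of_biprod K C h1).1

/-- One step of the induction: making the term in degree `c` finite. -/
theorem step (K : Dual.D R) (hK : SmallCompact.{u} K) (L : Cx R) (a b c : ℤ)
    (hL : VanishesOutside L a b) (hfree : ∀ i, Module.Free R (L.X i))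
    (hfin : ∀ i, i < c → Module.Finite R (L.X i))
    (φ : K ⟶ Q.obj L) (ψ : Q.obj L ⟶ K) (hφψ : φ ≫ ψ = 𝟙 K) :
    ∃ L' : Cx R, VanishesOutside L' a b ∧ (∀ i, Module.Free R (L'.X i)) ∧
      (∀ i, i < c + 1 → Module.Finite R (L'.X i)) ∧
      ∃ (φ' : K ⟶ Q.obj L') (ψ' : Q.obj L' ⟶ K), φ' ≫ ψ' = 𝟙 K := by
  classical
  have := hfree c
  obtain ⟨Λ, ⟨bs⟩⟩ : ∃ Λ : Type u, Nonempty (Module.Basis Λ R (L.X c)) :=
    ⟨_, ⟨Module.Free.chooseBasis R (L.X c)⟩⟩
  -- the finite set `A`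
  have hfg : (LinearMap.range (L.d (c - 1) c).hom).FG := by
    have := hfin (c - 1) (by omega)
    rw [LinearMap.range_eq_map]
    exact Module.Finite.fg_top.map _
  obtain ⟨A, hA⟩ := BasisKer.exists_finite_of_fg bs _ hfg
  have hd : ∀ x, (L.d (c - 1) c).hom x ∈ Submodule.span R (bs '' (A : Set Λ)) :=
    fun x => hA (LinearMap.mem_range_self _ x)
  -- the first map
  have hρ₁ : ∀ i, (ComplexShape.up ℤ).Rel i c →
      L.d i c ≫ ModuleCat.ofHom (BasisKer.ρ bs (A : Set Λ)) = 0 := by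
    intro i hi
    have hi' : i + 1 = c := hi
    obtain rfl : i = c - 1 := by omega
    refine ModuleCat.hom_ext (LinearMap.ext (fun x => ?_))
    show (BasisKer.ρ bs (A : Set Λ)) ((L.d (c - 1) c).hom x) = 0
    exact LinearMap.mem_ker.1 ((BasisKer.mem_ker_ρ bs _ _).2 (hd x))
  -- compactness
  have hcof := DSum.isColimitQOfIsColimit
    (fun _ : ↥((A : Set Λ)ᶜ) =>
      (single (ModuleCat.{u} R) (ComplexShape.up ℤ) c).obj (ModuleCat.of R R))
    (fun l => l) Function.bijective_id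
    (Cofan.mk ((single (ModuleCat.{u} R) (ComplexShape.up ℤ) c).obj
        (ModuleCat.of R (↥((A : Set Λ)ᶜ) →₀ R)))
      (fun l => (single (ModuleCat.{u} R) (ComplexShape.up ℤ) c).map
        (ModuleCat.ofHom (Finsupp.lsingle (R := R) (M := R) l))))
    (isColimitCofanMkObjOfIsColimit (single (ModuleCat.{u} R) (ComplexShape.up ℤ) c) _ _
      (ModuleCat.finsuppCoconeIsColimit R R ↥((A : Set Λ)ᶜ)))
  obtain ⟨B, a', hB⟩ := hK _ _ _ hcof
    (φ ≫ Q.map (mkHomToSingle (ModuleCat.ofHom (BasisKer.ρ bs (A : Set Λ))) hρ₁))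
  replace hB : φ ≫ Q.map (mkHomToSingle (ModuleCat.ofHom (BasisKer.ρ bs (A : Set Λ))) hρ₁) =
      ∑ l ∈ B, a' l ≫ Q.map ((single (ModuleCat.{u} R) (ComplexShape.up ℤ) c).map
        (ModuleCat.ofHom (Finsupp.lsingle (R := R) (M := R) l))) := hB
  -- the second map
  have hr : ∀ l ∈ B, ModuleCat.ofHom (Finsupp.lsingle (R := R) (M := R) l) ≫
      ModuleCat.ofHom (Finsupp.lsubtypeDomain (R := R) (M := R) ((B : Set ↥((A : Set Λ)ᶜ))ᶜ)) =
        0 := by
    intro l hl
    refine ModuleCat.hom_ext (LinearMap.ext (fun x => ?_))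
    show (Finsupp.lsubtypeDomain (R := R) (M := R) ((B : Set ↥((A : Set Λ)ᶜ))ᶜ))
      (Finsupp.single l x) = 0
    exact BasisKer.lsubtypeDomain_single_eq_zero (B : Set ↥((A : Set Λ)ᶜ)) l
      (Finset.mem_coe.2 hl) x
  have hρ₂ : ∀ i, (ComplexShape.up ℤ).Rel i c →
      L.d i c ≫ (ModuleCat.ofHom (BasisKer.ρ bs (A : Set Λ)) ≫
        ModuleCat.ofHom (Finsupp.lsubtypeDomain (R := R) (M := R)
          ((B : Set ↥((A : Set Λ)ᶜ))ᶜ))) = 0 :=
    fun i hi => by rw [← Category.assoc, hρ₁ i hi, zero_comp]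
  have hq₂ := mkHomToSingle_comp_map (ModuleCat.ofHom (BasisKer.ρ bs (A : Set Λ))) hρ₁
    (ModuleCat.ofHom (Finsupp.lsubtypeDomain (R := R) (M := R)
      ((B : Set ↥((A : Set Λ)ᶜ))ᶜ))) hρ₂
  have hepi : Epi (ModuleCat.ofHom (BasisKer.ρ bs (A : Set Λ)) ≫
        ModuleCat.ofHom (Finsupp.lsubtypeDomain (R := R) (M := R)
          ((B : Set ↥((A : Set Λ)ᶜ))ᶜ))) :=
    (ModuleCat.epi_iff_surjective _).2 (BasisKer.ρ₂_surjective bs (A : Set Λ) (B : Set _))
  have hepi₂ := epi_mkHomToSingle _ hρ₂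
  have hzero : φ ≫ Q.map (mkHomToSingle _ hρ₂) = 0 := by
    rw [← hq₂, Functor.map_comp, ← Category.assoc, hB, Preadditive.sum_comp]
    apply Finset.sum_eq_zero
    intro l hl
    rw [Category.assoc, ← Functor.map_comp, ← Functor.map_comp, hr l hl, Functor.map_zero,
      Functor.map_zero, comp_zero]
  obtain ⟨φ', hφ'⟩ := KerSES.exists_factor (mkHomToSingle _ hρ₂) K φ hzero
  -- the term in degree `c`
  have hker : LinearMap.ker ((mkHomToSingle _ hρ₂ : L ⟶ _).f c).hom =
      Submodule.span R (bs '' ((A : Set Λ) ∪ Subtype.val '' (B : Set ↥((A : Set Λ)ᶜ)))) := by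
    ext x
    rw [← BasisKer.mem_ker_ρ₂, LinearMap.mem_ker, LinearMap.mem_ker, mkHomToSingle_f]
    have hinj : Function.Injective
        (singleObjXSelf (ComplexShape.up ℤ) c (ModuleCat.of R
          (↥((B : Set ↥((A : Set Λ)ᶜ))ᶜ) →₀ R))).inv.hom :=
      (ModuleCat.mono_iff_injective _).1 inferInstance
    constructor
    · intro h
      apply hinj
      rw [map_zero]
      exact h
    · intro h
      have h' : (ModuleCat.ofHom (BasisKer.ρ bs (A : Set Λ)) ≫
        ModuleCat.ofHom (Finsupp.lsubtypeDomain (R := R) (M := R)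
          ((B : Set ↥((A : Set Λ)ᶜ))ᶜ))).hom x = 0 := h
      rw [ModuleCat.hom_comp, LinearMap.comp_apply, h', map_zero]
  have hexact := (KerSES.degreewise (mkHomToSingle _ hρ₂) c).exact.moduleCat_range_eq_ker
  have hinj : Function.Injective ((kernel.ι (mkHomToSingle _ hρ₂ : L ⟶ _)).f c).hom :=
    (ModuleCat.mono_iff_injective _).1 (KerSES.mono_ι_f _ c)
  have e_c : (kernel (mkHomToSingle _ hρ₂ : L ⟶ _)).X c ≃ₗ[R]
      ↥(Submodule.span R (bs '' ((A : Set Λ) ∪ Subtype.val '' (B : Set ↥((A : Set Λ)ᶜ))))) :=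
    (LinearEquiv.ofInjective _ hinj).trans (LinearEquiv.ofEq _ _ (hexact.trans hker))
  have hTfin : ((A : Set Λ) ∪ Subtype.val '' (B : Set ↥((A : Set Λ)ᶜ))).Finite :=
    A.finite_toSet.union (B.finite_toSet.image _)
  have hfin_c : Module.Finite R ((kernel (mkHomToSingle _ hρ₂ : L ⟶ _)).X c) := by
    have := BasisKer.finite_span bs _ hTfin
    exact Module.Finite.equiv e_c.symm
  have hfree_c : Module.Free R ((kernel (mkHomToSingle _ hρ₂ : L ⟶ _)).X c) := by
    have := BasisKer.free_span bs ((A : Set Λ) ∪ Subtype.val '' (B : Set ↥((A : Set Λ)ᶜ)))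
    exact Module.Free.of_equiv e_c.symm
  have hiso : ∀ i, i ≠ c → IsIso ((kernel.ι (mkHomToSingle _ hρ₂ : L ⟶ _)).f i) :=
    fun i hi => KerSES.isIso_ι_f _ i (isZero_single_obj_X (ComplexShape.up ℤ) c _ i hi)
  refine ⟨kernel (mkHomToSingle _ hρ₂ : L ⟶ _), ?_, ?_, ?_, φ',
    Q.map (kernel.ι _) ≫ ψ, by rw [← Category.assoc, hφ', hφψ]⟩
  · intro i hi
    have := KerSES.mono_ι_f (mkHomToSingle _ hρ₂ : L ⟶ _) i
    exact IsZero.of_mono ((kernel.ι (mkHomToSingle _ hρ₂ : L ⟶ _)).f i) (hL i hi)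
  · intro i
    by_cases hi : i = c
    · subst hi
      exact hfree_c
    · have := hiso i hi
      have := hfree i
      exact Module.Free.of_equiv
        (asIso ((kernel.ι (mkHomToSingle _ hρ₂ : L ⟶ _)).f i)).toLinearEquiv.symm
  · intro i hi
    by_cases hic : i = c
    · subst hic
      exact hfin_c
    · have := hiso i hic
      have := hfin i (by omega)
      exact Module.Finite.equiv
        (asIso ((kernel.ι (mkHomToSingle _ hρ₂ : L ⟶ _)).f i)).toLinearEquiv.symm

/-- The induction: a compact object which is a retract of a bounded complex of free modules is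
perfect. -/
theorem isPerfect_of_retract_bounded_free (K : Dual.D R) (hK : SmallCompact.{u} K) :
    ∀ (n : ℕ) (L : Cx R) (a b c : ℤ), b + 1 ≤ c + n → VanishesOutside L a b →
      (∀ i, Module.Free R (L.X i)) → (∀ i, i < c → Module.Finite R (L.X i)) →
      ∀ (φ : K ⟶ Q.obj L) (ψ : Q.obj L ⟶ K), φ ≫ ψ = 𝟙 K → IsPerfect R K := by
  intro n
  induction n with
  | zero =>
    intro L a b c hc hL hfree hfin φ ψ hφψ
    refine isPerfect_of_retract φ ψ hφψ ⟨L, a, b, hL, fun i => ⟨?_, ?_⟩, ⟨Iso.refl _⟩⟩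
    · by_cases hi : i < c
      · exact hfin i hi
      · have hz : IsZero (L.X i) := hL i (Or.inr (by push_cast at hc; omega))
        have := ModuleCat.subsingleton_of_isZero hz
        infer_instance
    · have := hfree i
      infer_instance
  | succ n ih =>
    intro L a b c hc hL hfree hfin φ ψ hφψ
    obtain ⟨L', hL', hfree', hfin', φ', ψ', h'⟩ := step K hK L a b c hL hfree hfin φ ψ hφψ
    exact ih L' a b (c + 1) (by push_cast at hc; omega) hL' hfree' hfin' φ' ψ' h'

/-- Compact objects of `D(R)` are perfect. -/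
theorem isPerfect_of_smallCompact (K : Dual.D R) (hK : SmallCompact.{u} K) : IsPerfect R K := by
  have hK' := ctblCompact_of_smallCompact hK
  obtain ⟨b, hb⟩ := exists_isLE_of_ctblCompact K hK'
  obtain ⟨N, a, hN, hfree, φ, ψ, hφψ⟩ := exists_bounded_free_retract K hK' b
  refine isPerfect_of_retract_bounded_free K hK (b + 1 - a).toNat N a b a (by omega) hN hfree
    (fun i hi => ?_) φ ψ hφψ
  have hz : IsZero (N.X i) := hN i (Or.inl hi)
  have := ModuleCat.subsingleton_of_isZero hz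
  infer_instance

end Groth.Agent.H6.CompactPerf
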