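import Mathlib
import Groth.Prelude.Def_DefoConn
import Groth.Prelude.Def_DefoSh2
import Groth.Agent.H31.StalkKFlat
import Groth.Agent.H8.LocFreeStalk
import Groth.Agent.H8.LocFreeNearFinite

/-!
# (T1) for helper16's S17436 squad: tensoring a short exact sequence with finite locally free
cokernel stays short exact (stalk route).
-/

set_option autoImplicit false
set_option backward.isDefEq.respectTransparency false
set_option linter.style.haveILetI false
universe u
open CategoryTheory CategoryTheory.Limits AlgebraicGeometry TopologicalSpace Opposite MonoidalCategory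

namespace Groth.Agent.H6.DefoConnT1

open Groth.Agent.H31.Stalk Groth.Agent.H31 Groth.Agent.H40.StalkTensor

variable {X : Scheme.{u}}

instance stkX_additive (x : X) : Functor.Additive (C := X.Modules)
    (D := ModuleCat.{u} (Rx (shX X).obj x)) (stk (shX X) x) := stk_additive (shX X) x

instance stkX_pfl (x : X) : PreservesFiniteLimits (C := X.Modules)
    (D := ModuleCat.{u} (Rx (shX X).obj x)) (stk (shX X) x) := stk_preservesFiniteLimits (shX X) x

instance stkX_pfc (x : X) : PreservesFiniteColimits (C := X.Modules)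
    (D := ModuleCat.{u} (Rx (shX X).obj x)) (stk (shX X) x) := stk_preservesFiniteColimits (shX X) x

/-- Short exactness of a short complex of modules can be checked on stalks. -/
theorem shortExact_of_stk (T : ShortComplex X.Modules)
    (h : ∀ x : X, (T.map (stk (shX X) x)).ShortExact) : T.ShortExact := by
  have hex : T.Exact := exact_of_stk (O := shX X) T (fun x => (h x).exact)
  have hmono : Mono T.f := by
    let S₁ : ShortComplex X.Modules := ShortComplex.mk (0 : T.X₁ ⟶ T.X₁) T.f zero_comp
    have h1 : S₁.Exact := by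
      refine exact_of_stk (O := shX X) S₁ (fun x => ?_)
      exact ((S₁.map (stk (shX X) x)).exact_iff_mono (by simp [S₁])).2 (h x).mono_f
    exact (S₁.exact_iff_mono rfl).1 h1
  have hepi : Epi T.g := by
    let S₃ : ShortComplex X.Modules := ShortComplex.mk T.g (0 : T.X₃ ⟶ T.X₃) comp_zero
    have h1 : S₃.Exact := by
      refine exact_of_stk (O := shX X) S₃ (fun x => ?_)
      exact ((S₃.map (stk (shX X) x)).exact_iff_epi (by simp [S₃])).2 (h x).epi_g
    exact (S₃.exact_iff_epi rfl).1 h1
  exact ShortComplex.ShortExact.mk' hex hmono hepi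

/-- Stalks of finite locally free modules are projective. -/
theorem projective_stalk_of_isFinLocFree {E : X.Modules} (hE : FlatMod.IsFinLocFree E) (z : X) :
    Module.Projective (X.presheaf.stalk z) (E.presheaf.stalk z) := by
  haveI hq : E.IsQuasicoherent := H8.isQuasicoherent_of_isFinLocFree E hE
  obtain ⟨U, hU, hzU, -⟩ := exists_isAffineOpen_mem_and_subset (x := z)
    (U := (⊤ : X.Opens)) trivial
  obtain ⟨hfp, hproj⟩ := H8.finitePresentation_projective_sections_of_isFinLocFree E hE hU
  haveI := hfp
  haveI := hproj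
  haveI : Module.Finite Γ(X, U) Γ(E, U) := inferInstance
  haveI : Module.Flat Γ(X, U) Γ(E, U) := inferInstance
  haveI := H8.free_stalk_of_finite_flat_sections E hU z hzU
  infer_instance

theorem projective_stk_of_isFinLocFree {E : X.Modules} (hE : FlatMod.IsFinLocFree E) (x : X) :
    Projective ((stk (shX X) x).obj E) := by
  have h : Module.Projective (Rx (shX X).obj x) ((stk (shX X) x).obj E) :=
    projective_stalk_of_isFinLocFree hE x
  exact (IsProjective.iff_projective _).1 h

theorem tensor_shortExact {X : Scheme.{u}} (K D E Ω' : X.Modules) (ι : K ⟶ D) (π : D ⟶ E)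
    (w : ι ≫ π = 0) (hS : (ShortComplex.mk ι π w).ShortExact) (hE : FlatMod.IsFinLocFree E)
    (w' : KoszTw.tensorMap ι (𝟙 Ω') ≫ KoszTw.tensorMap π (𝟙 Ω') = 0) :
    (ShortComplex.mk (KoszTw.tensorMap ι (𝟙 Ω')) (KoszTw.tensorMap π (𝟙 Ω')) w').ShortExact := by
  apply shortExact_of_stk
  intro x
  have h1 : ((ShortComplex.mk ι π w).map (stk (shX X) x)).ShortExact :=
    hS.map_of_exact (stk (shX X) x)
  haveI : Projective ((ShortComplex.mk ι π w).map (stk (shX X) x)).X₃ :=
    projective_stk_of_isFinLocFree hE x
  have s := h1.splittingOfProjective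
  have h2 := (s.map (tensorRight ((stk (shX X) x).obj Ω'))).shortExact
  refine ShortComplex.shortExact_of_iso ?_ h2
  refine (ShortComplex.isoMk (τ (shX X) x K Ω') (τ (shX X) x D Ω') (τ (shX X) x E Ω') ?_ ?_).symm
  · have := τ_natural_left (shX X) x ι Ω'
    have e : KoszTw.tensorMap ι (𝟙 Ω') = ((ModSite.tensorBi (shX X)).map ι).app Ω' :=
      (KoszTw.tensorBi_map_app ι Ω').symm
    change (τ (shX X) x K Ω').hom ≫ ((stk (shX X) x).map ι ▷ (stk (shX X) x).obj Ω') =
      (stk (shX X) x).map (KoszTw.tensorMap ι (𝟙 Ω')) ≫ (τ (shX X) x D Ω').hom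
    rw [e]
    exact this.symm
  · have := τ_natural_left (shX X) x π Ω'
    have e : KoszTw.tensorMap π (𝟙 Ω') = ((ModSite.tensorBi (shX X)).map π).app Ω' :=
      (KoszTw.tensorBi_map_app π Ω').symm
    change (τ (shX X) x D Ω').hom ≫ ((stk (shX X) x).map π ▷ (stk (shX X) x).obj Ω') =
      (stk (shX X) x).map (KoszTw.tensorMap π (𝟙 Ω')) ≫ (τ (shX X) x E Ω').hom
    rw [e]
    exact this.symm

end Groth.Agent.H6.DefoConnT1
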