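import Groth.Agent.S7148

/-!
# Derived Artin–Rees in `D(A)`

* `annD A X` : the ideal of scalars acting by zero on an object of an `A`-linear category.
* `mul_smul_id_obj₃_eq_zero`, `radical_cone` : annihilators and cones.
* `exists_factor_through_killed` : a map `X ⟶ Z` with `Z` killed by `f₁, …, f_r` factors through a
  bounded object killed by powers of the `f_i` (iterated cones).
* `PAR I X` : every map `M[0] ⟶ X` from a finite module vanishes on `IⁿM[0]` for some `n`.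
* `PAR_of_bdd_of_killed` : bounded objects killed by a power of `I` have `PAR` (Noetherian case).
* `exists_pow_comp_eq_zero` : if `I ≤ √(ann Z)` then every `M[0] ⟶ Z` vanishes on some `IⁿM[0]`.
-/

set_option autoImplicit false
universe u
open CategoryTheory CategoryTheory.Limits Pretriangulated
attribute [local instance] HasDerivedCategory.standard

namespace Groth.Agent.H6.DerivedAR

section Ann

variable (A : Type*) [CommRing A] {C : Type*} [Category C] [Preadditive C] [Linear A C]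

/-- The ideal of scalars acting by zero on an object of a linear category. -/
def annD (X : C) : Ideal A where
  carrier := {a | a • 𝟙 X = 0}
  add_mem' := by
    intro a b ha hb
    show (a + b) • 𝟙 X = 0
    rw [add_smul, show a • 𝟙 X = 0 from ha, show b • 𝟙 X = 0 from hb, add_zero]
  zero_mem' := zero_smul A (𝟙 X)
  smul_mem' := by
    intro c a ha
    show (c • a) • 𝟙 X = 0
    rw [smul_eq_mul, mul_smul, show a • 𝟙 X = 0 from ha, smul_zero]

variable {A}

lemma mem_annD {X : C} {a : A} : a ∈ annD A X ↔ a • 𝟙 X = 0 := Iff.rfl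

lemma smul_eq_zero_of_mem_annD_left {X Y : C} {a : A} (ha : a ∈ annD A X) (f : X ⟶ Y) :
    a • f = 0 := by
  have h : a • f = (a • 𝟙 X) ≫ f := by rw [Linear.smul_comp, Category.id_comp]
  rw [h, mem_annD.mp ha, zero_comp]

lemma smul_eq_zero_of_mem_annD_right {X Y : C} {a : A} (ha : a ∈ annD A Y) (f : X ⟶ Y) :
    a • f = 0 := by
  have h : a • f = f ≫ (a • 𝟙 Y) := by rw [Linear.comp_smul, Category.comp_id]
  rw [h, mem_annD.mp ha, comp_zero]

lemma annD_le_of_iso {X Y : C} (e : X ≅ Y) : annD A X ≤ annD A Y := by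
  intro a ha
  rw [mem_annD]
  have h : a • 𝟙 Y = e.inv ≫ (a • e.hom) := by
    rw [Linear.comp_smul, e.inv_hom_id]
  rw [h, smul_eq_zero_of_mem_annD_left ha, comp_zero]

end Ann

section Tri

variable {A : Type*} [CommRing A] {C : Type*} [Category C] [Preadditive C] [Linear A C]
  [HasZeroObject C] [HasShift C ℤ] [∀ n : ℤ, (shiftFunctor C n).Additive]
  [∀ n : ℤ, (shiftFunctor C n).Linear A] [Pretriangulated C]

lemma mul_smul_id_obj₃_eq_zero (T : Triangle C) (hT : T ∈ distTriang C) (x y : A)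
    (hx : (x • 𝟙 T.obj₂) ≫ T.mor₂ = 0) (hy : T.mor₃ ≫ (y • 𝟙 T.obj₁)⟦(1 : ℤ)⟧' = 0) :
    (x * y) • 𝟙 T.obj₃ = 0 := by
  have h1 : T.mor₂ ≫ (x • 𝟙 T.obj₃) = 0 := by
    rw [Linear.comp_smul, Category.comp_id]
    rw [Linear.smul_comp, Category.id_comp] at hx
    exact hx
  obtain ⟨k, hk⟩ := Triangle.yoneda_exact₃ T hT (x • 𝟙 T.obj₃) h1
  have h2 : (y • 𝟙 T.obj₃) ≫ T.mor₃ = 0 := by
    rw [Functor.map_smul, CategoryTheory.Functor.map_id, Linear.comp_smul, Category.comp_id] at hy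
    rw [Linear.smul_comp, Category.id_comp]
    exact hy
  calc (x * y) • 𝟙 T.obj₃ = (y • 𝟙 T.obj₃) ≫ (x • 𝟙 T.obj₃) := by
        rw [Linear.smul_comp, Category.id_comp, smul_smul, mul_comm]
    _ = 0 := by rw [hk, ← Category.assoc, h2, zero_comp]

lemma mul_self_smul_id_obj₃_eq_zero_of_homotopy (T : Triangle C) (hT : T ∈ distTriang C) (x : A)
    (h : T.obj₂ ⟶ T.obj₁) (h₁ : h ≫ T.mor₁ = x • 𝟙 T.obj₂) (h₂ : T.mor₁ ≫ h = x • 𝟙 T.obj₁) :
    (x * x) • 𝟙 T.obj₃ = 0 :=
  mul_smul_id_obj₃_eq_zero T hT x x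
    (by rw [← h₁, Category.assoc, comp_distTriang_mor_zero₁₂ T hT, comp_zero])
    (by rw [← h₂, Functor.map_comp, ← Category.assoc, comp_distTriang_mor_zero₃₁ T hT,
      zero_comp])

lemma exists_lift_of_comp_eq_zero (T : Triangle C) (hT : T ∈ distTriang C) {S Y : C} (ι : S ⟶ Y)
    (qq : T.obj₂ ⟶ Y) (hqq : IsIso qq) (hz : ι ≫ inv qq ≫ T.mor₂ = 0) :
    ∃ g' : S ⟶ T.obj₁, g' ≫ T.mor₁ ≫ qq = ι := by
  obtain ⟨g', hg'⟩ := Triangle.coyoneda_exact₂ T hT (ι ≫ inv qq)
    (by rw [Category.assoc]; exact hz)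
  refine ⟨g', ?_⟩
  rw [← Category.assoc, ← hg', Category.assoc, IsIso.inv_hom_id, Category.comp_id]

lemma annD_mul_le_obj₃ (T : Triangle C) (hT : T ∈ distTriang C) :
    annD A T.obj₂ * annD A T.obj₁ ≤ annD A T.obj₃ := by
  rw [Ideal.mul_le]
  intro x hx y hy
  rw [mem_annD] at hx hy ⊢
  exact mul_smul_id_obj₃_eq_zero T hT x y (by rw [hx, zero_comp])
    (by rw [hy, Functor.map_zero, comp_zero])

lemma radical_cone {Y W : C} (f : A) (a : Y ⟶ W) (b : W ⟶ Y⟦(1 : ℤ)⟧)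
    (hT : Triangle.mk (f • 𝟙 Y) a b ∈ distTriang C) :
    f ∈ (annD A W).radical ∧ annD A Y ≤ (annD A W).radical := by
  constructor
  · refine Ideal.mem_radical_iff.mpr ⟨2, ?_⟩
    rw [pow_two, mem_annD]
    exact mul_smul_id_obj₃_eq_zero _ hT f f (comp_distTriang_mor_zero₁₂ _ hT)
      (comp_distTriang_mor_zero₃₁ _ hT)
  · intro x hx
    refine Ideal.mem_radical_iff.mpr ⟨2, ?_⟩
    rw [pow_two]
    exact annD_mul_le_obj₃ _ hT (Ideal.mul_mem_mul hx hx)

end Tri

section DA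

variable {A : Type u} [CommRing A]

/-- The canonical t-structure on `D(A)`. -/
noncomputable abbrev tt : Triangulated.TStructure (Dual.D A) := DerivedCategory.TStructure.t

/-- Bounded objects of `D(A)`. -/
def IsBdd (X : Dual.D A) : Prop := ∃ a b : ℤ, tt.IsGE X a ∧ tt.IsLE X b

lemma isBdd_cone {Y W : Dual.D A} (u : Y ⟶ Y) (a : Y ⟶ W) (b : W ⟶ Y⟦(1 : ℤ)⟧)
    (hT : Triangle.mk u a b ∈ distTriang (Dual.D A)) (hY : IsBdd Y) : IsBdd W := by
  obtain ⟨p, q, hp, hq⟩ := hY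
  have hT' := rot_of_distTriang _ hT
  refine ⟨p - 1, q, ?_, ?_⟩
  · have h1 : tt.IsGE Y (p - 1) := tt.isGE_of_ge Y (p - 1) p (by omega)
    have h3 : tt.IsGE (Y⟦(1 : ℤ)⟧) (p - 1) := tt.isGE_shift Y p 1 (p - 1) (by omega)
    exact tt.isGE₂ _ hT' (p - 1) h1 h3
  · have h3' : tt.IsLE (Y⟦(1 : ℤ)⟧) (q - 1) := tt.isLE_shift Y q 1 (q - 1) (by omega)
    have h3 : tt.IsLE (Y⟦(1 : ℤ)⟧) q := tt.isLE_of_le (Y⟦(1 : ℤ)⟧) (q - 1) q (by omega)
    exact tt.isLE₂ _ hT' q hq h3

theorem exists_factor_through_killed (Z : Dual.D A) (s : Finset A)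
    (hs : ∀ f ∈ s, f ∈ annD A Z) (X : Dual.D A) (hX : IsBdd X) (φ : X ⟶ Z) :
    ∃ (X' : Dual.D A) (u : X ⟶ X') (φ' : X' ⟶ Z), IsBdd X' ∧ φ = u ≫ φ' ∧
      Ideal.span (s : Set A) ≤ (annD A X').radical := by
  classical
  induction s using Finset.induction_on with
  | empty =>
    refine ⟨X, 𝟙 X, φ, hX, (Category.id_comp φ).symm, ?_⟩
    rw [Finset.coe_empty, Ideal.span_empty]
    exact bot_le
  | @insert f s hfs ih =>
    obtain ⟨X₁, u₁, φ₁, hb₁, hφ₁, hrad₁⟩ :=
      ih (fun g hg => hs g (Finset.mem_insert_of_mem hg))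
    obtain ⟨W, a, b, hT⟩ := distinguished_cocone_triangle (f • 𝟙 X₁)
    have hf : f ∈ annD A Z := hs f (Finset.mem_insert_self f s)
    have hz : (f • 𝟙 X₁) ≫ φ₁ = 0 := by
      rw [Linear.smul_comp, Category.id_comp]
      exact smul_eq_zero_of_mem_annD_right hf φ₁
    obtain ⟨φW, hφW⟩ := Triangle.yoneda_exact₂ _ hT φ₁ hz
    have hφW' : φ₁ = a ≫ φW := hφW
    obtain ⟨h1, h2⟩ := radical_cone f a b hT
    refine ⟨W, u₁ ≫ a, φW, isBdd_cone _ a b hT hb₁, ?_, ?_⟩
    · rw [Category.assoc, ← hφW']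
      exact hφ₁
    · rw [Finset.coe_insert, Ideal.span_insert, sup_le_iff]
      constructor
      · rw [Ideal.span_le, Set.singleton_subset_iff]
        exact h1
      · exact hrad₁.trans ((Ideal.radical_mono h2).trans (le_of_eq (Ideal.radical_idem _)))

/-- Artin–Rees vanishing property of an object `X` of `D(A)`: every morphism `M[0] ⟶ X` from a
finite module vanishes on `IⁿM[0]` for some `n`. -/
def PAR (I : Ideal A) (X : Dual.D A) : Prop :=
  ∀ (M : Type u) [AddCommGroup M] [Module A M] [Module.Finite A M] (φ : Dual.inD A M ⟶ X),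
    ∃ n : ℕ, (DerivedCategory.singleFunctor (ModuleCat.{u} A) 0).map
      (ModuleCat.ofHom (I ^ n • ⊤ : Submodule A M).subtype) ≫ φ = 0

lemma PAR.of_iso {I : Ideal A} {X Y : Dual.D A} (e : X ≅ Y) (h : PAR I X) : PAR I Y := by
  intro M _ _ _ φ
  obtain ⟨n, hn⟩ := h M (φ ≫ e.inv)
  refine ⟨n, ?_⟩
  have h1 : (DerivedCategory.singleFunctor (ModuleCat.{u} A) 0).map
      (ModuleCat.ofHom (I ^ n • ⊤ : Submodule A M).subtype) ≫ φ =
      ((DerivedCategory.singleFunctor (ModuleCat.{u} A) 0).map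
      (ModuleCat.ofHom (I ^ n • ⊤ : Submodule A M).subtype) ≫ φ ≫ e.inv) ≫ e.hom := by
    simp
  rw [h1, hn, zero_comp]

lemma PAR.of_isZero {I : Ideal A} {X : Dual.D A} (h : IsZero X) : PAR I X :=
  fun _ _ _ _ _ => ⟨0, h.eq_of_tgt _ _⟩

lemma exists_factor_pow (I : Ideal A) (M : Type u) [AddCommGroup M] [Module A M] (n₁ n₂ : ℕ) :
    ∃ κ : ↥(I ^ (n₁ + n₂) • ⊤ : Submodule A M) →ₗ[A]
        ↥(I ^ n₂ • ⊤ : Submodule A ↥(I ^ n₁ • ⊤ : Submodule A M)),
      ∀ x, (((κ x : ↥(I ^ n₂ • ⊤ : Submodule A ↥(I ^ n₁ • ⊤ : Submodule A M))) :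
        ↥(I ^ n₁ • ⊤ : Submodule A M)) : M) = (x : M) := by
  have hle : (I ^ (n₁ + n₂) • ⊤ : Submodule A M) ≤ I ^ n₁ • ⊤ :=
    Submodule.smul_mono_left (Ideal.pow_le_pow_right (by omega))
  have hj : ∀ x : ↥(I ^ (n₁ + n₂) • ⊤ : Submodule A M),
      Submodule.inclusion hle x ∈
        (I ^ n₂ • ⊤ : Submodule A ↥(I ^ n₁ • ⊤ : Submodule A M)) := by
    intro x
    have hx : (x : M) ∈ (I ^ n₂ • (⊤ : Submodule A ↥(I ^ n₁ • ⊤ : Submodule A M))).map
        (I ^ n₁ • ⊤ : Submodule A M).subtype := by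
      rw [Submodule.map_smul'', Submodule.map_top, Submodule.range_subtype]
      show (x : M) ∈ I ^ n₂ • (I ^ n₁ • ⊤ : Submodule A M)
      rw [← Submodule.mul_smul, ← pow_add, add_comm n₂ n₁]
      exact x.2
    obtain ⟨y, hy, hyx⟩ := Submodule.mem_map.mp hx
    have hyy : y = Submodule.inclusion hle x := Subtype.ext hyx
    rw [← hyy]
    exact hy
  exact ⟨LinearMap.codRestrict _ (Submodule.inclusion hle) hj, fun x => rfl⟩

lemma comp_eq_zero_succ (I : Ideal A) (M : Type u) [AddCommGroup M] [Module A M] (n : ℕ)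
    {X : Dual.D A} (φ : Dual.inD A M ⟶ X)
    (h : (DerivedCategory.singleFunctor (ModuleCat.{u} A) 0).map
      (ModuleCat.ofHom (I ^ n • ⊤ : Submodule A M).subtype) ≫ φ = 0) :
    (DerivedCategory.singleFunctor (ModuleCat.{u} A) 0).map
      (ModuleCat.ofHom (I ^ (n + 1) • ⊤ : Submodule A M).subtype) ≫ φ = 0 := by
  have hle : (I ^ (n + 1) • ⊤ : Submodule A M) ≤ I ^ n • ⊤ :=
    Submodule.smul_mono_left (Ideal.pow_le_pow_right (by omega))
  have hfac : (DerivedCategory.singleFunctor (ModuleCat.{u} A) 0).map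
        (ModuleCat.ofHom (I ^ (n + 1) • ⊤ : Submodule A M).subtype) =
      (DerivedCategory.singleFunctor (ModuleCat.{u} A) 0).map
        (ModuleCat.ofHom (Submodule.inclusion hle)) ≫
      (DerivedCategory.singleFunctor (ModuleCat.{u} A) 0).map
        (ModuleCat.ofHom (I ^ n • ⊤ : Submodule A M).subtype) := by
    rw [← Functor.map_comp]
    rfl
  rw [hfac, Category.assoc, h, comp_zero]

lemma PAR.ext₂ [IsNoetherianRing A] {I : Ideal A} (T : Triangle (Dual.D A))
    (hT : T ∈ distTriang (Dual.D A)) (h₁ : PAR I T.obj₁) (h₃ : PAR I T.obj₃) :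
    PAR I T.obj₂ := by
  intro M _ _ _ φ
  obtain ⟨n₁, hn₁⟩ := h₃ M (φ ≫ T.mor₂)
  obtain ⟨ψ, hψ⟩ := Triangle.coyoneda_exact₂ T hT
    ((DerivedCategory.singleFunctor (ModuleCat.{u} A) 0).map
      (ModuleCat.ofHom (I ^ n₁ • ⊤ : Submodule A M).subtype) ≫ φ)
    (by rw [Category.assoc]; exact hn₁)
  haveI : Module.Finite A ↥(I ^ n₁ • ⊤ : Submodule A M) :=
    Module.Finite.iff_fg.mpr (IsNoetherian.noetherian _)
  obtain ⟨n₂, hn₂⟩ := h₁ ↥(I ^ n₁ • ⊤ : Submodule A M) ψ
  obtain ⟨κ, hκ⟩ := exists_factor_pow I M n₁ n₂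
  refine ⟨n₁ + n₂, ?_⟩
  have hlin : ModuleCat.ofHom (I ^ (n₁ + n₂) • ⊤ : Submodule A M).subtype =
      ModuleCat.ofHom κ ≫
        ModuleCat.ofHom (I ^ n₂ • ⊤ : Submodule A ↥(I ^ n₁ • ⊤ : Submodule A M)).subtype ≫
        ModuleCat.ofHom (I ^ n₁ • ⊤ : Submodule A M).subtype := by
    ext x
    exact (hκ x).symm
  rw [hlin, Functor.map_comp, Functor.map_comp]
  simp only [Category.assoc]
  rw [hψ, reassoc_of% hn₂, zero_comp, comp_zero]

lemma PAR_single [IsNoetherianRing A] (I : Ideal A) (H : Type u) [AddCommGroup H] [Module A H]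
    (s : ℕ) (hH : ∀ x ∈ I ^ s, ∀ h : H, x • h = 0) (t : ℤ) :
    PAR I ((Dual.inD A H)⟦t⟧) := by
  intro M _ _ _ φ
  by_cases ht : t < 0
  · refine ⟨0, ?_⟩
    have : tt.IsGE ((Dual.inD A H)⟦t⟧) (-t) :=
      tt.isGE_shift (Dual.inD A H) 0 t (-t) (by omega)
    have hφ : φ = 0 := tt.zero φ 0 (-t) (by omega)
    rw [hφ, comp_zero]
  · obtain ⟨p, rfl⟩ := Int.eq_ofNat_of_zero_le (by omega : 0 ≤ t)
    obtain ⟨c, hc⟩ := Groth.Agent.S7148.main I H p M
    obtain ⟨e', he'⟩ := hc s φ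
    refine ⟨s + c, ?_⟩
    rw [← he']
    have hzero : ModuleCat.ofHom (I ^ s • ⊤ : Submodule A H).subtype = 0 := by
      ext x
      have hle : (I ^ s • ⊤ : Submodule A H) ≤ ⊥ :=
        Submodule.smul_le.mpr (fun r hr h _ => (Submodule.mem_bot A).mpr (hH r hr h))
      have hx : (x : H) = 0 := (Submodule.mem_bot A).mp (hle x.2)
      simpa using hx
    rw [hzero, Functor.map_zero, Functor.map_zero, comp_zero]

lemma annD_le_truncGE (X : Dual.D A) (n : ℤ) :
    annD A X ≤ annD A ((tt.truncGE n).obj X) := by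
  intro x hx
  rw [mem_annD]
  apply tt.from_truncGE_obj_ext (n := n) (X := X)
  rw [comp_zero, Linear.comp_smul, Category.comp_id]
  exact smul_eq_zero_of_mem_annD_left hx _

lemma annD_le_truncLT (X : Dual.D A) (n : ℤ) :
    annD A X ≤ annD A ((tt.truncLT n).obj X) := by
  intro x hx
  rw [mem_annD]
  apply tt.to_truncLT_obj_ext (n := n) (X := X)
  rw [zero_comp, Linear.smul_comp, Category.id_comp]
  exact smul_eq_zero_of_mem_annD_right hx _

lemma smul_eq_zero_of_mem_annD_single (H : ModuleCat.{u} A) (t : ℤ) (x : A)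
    (hx : x ∈ annD A (((DerivedCategory.singleFunctor (ModuleCat.{u} A) 0).obj H)⟦t⟧))
    (h : H) : x • h = 0 := by
  rw [mem_annD] at hx
  have h1 : ((DerivedCategory.singleFunctor (ModuleCat.{u} A) 0).map (x • 𝟙 H))⟦t⟧' = 0 := by
    rw [Functor.map_smul, CategoryTheory.Functor.map_id, Functor.map_smul,
      CategoryTheory.Functor.map_id]
    exact hx
  have h2 : (DerivedCategory.singleFunctor (ModuleCat.{u} A) 0).map (x • 𝟙 H) = 0 :=
    (shiftFunctor (Dual.D A) t).map_injective (by rw [h1, Functor.map_zero])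
  have h3 : x • 𝟙 H = 0 :=
    (DerivedCategory.singleFunctor (ModuleCat.{u} A) 0).map_injective
      (by rw [h2, Functor.map_zero])
  have h4 : (x • 𝟙 H : H ⟶ H).hom h = (0 : H ⟶ H).hom h := by rw [h3]
  exact h4

theorem PAR_of_bdd_of_killed [IsNoetherianRing A] (I : Ideal A) (s : ℕ) :
    ∀ (d : ℕ) (X : Dual.D A) (a b : ℤ), b - a < d → tt.IsGE X a → tt.IsLE X b →
      I ^ s ≤ annD A X → PAR I X := by
  intro d
  induction d with
  | zero =>
    intro X a b hab hge hle _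
    exact PAR.of_isZero (tt.isZero X b a (by omega))
  | succ d ih =>
    intro X a b hab hge hle hann
    by_cases hba : b < a
    · exact PAR.of_isZero (tt.isZero X b a hba)
    · have hT := tt.triangleLTGE_distinguished b X
      refine PAR.ext₂ ((tt.triangleLTGE b).obj X) hT ?_ ?_
      · have i1 : tt.IsGE ((tt.truncLT b).obj X) a := inferInstance
        have i2 : tt.IsLE ((tt.truncLT b).obj X) (b - 1) := inferInstance
        exact ih ((tt.truncLT b).obj X) a (b - 1) (by omega) i1 i2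
          (hann.trans (annD_le_truncLT X b))
      · have i1 : tt.IsGE ((tt.truncGE b).obj X) b := inferInstance
        have i2 : tt.IsLE ((tt.truncGE b).obj X) b := inferInstance
        obtain ⟨H, ⟨e⟩⟩ := DerivedCategory.exists_iso_singleFunctor_obj_of_isGE_of_isLE
          ((tt.truncGE b).obj X) b
        let e' : ((DerivedCategory.singleFunctor (ModuleCat.{u} A) 0).obj H)⟦-b⟧ ≅
            (DerivedCategory.singleFunctor (ModuleCat.{u} A) b).obj H :=
          ((DerivedCategory.singleFunctors (ModuleCat.{u} A)).shiftIso (-b) b 0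
            (by omega)).app H
        have hkill : ∀ x ∈ I ^ s, ∀ h : H, x • h = 0 := fun x hx h =>
          smul_eq_zero_of_mem_annD_single H (-b) x
            (annD_le_of_iso (e ≪≫ e'.symm) (annD_le_truncGE X b (hann hx))) h
        exact PAR.of_iso (e' ≪≫ e.symm) (PAR_single I H s hkill (-b))

/-- **Derived Artin–Rees.** Over a Noetherian ring, if every element of `I` acts nilpotently on
`Z`, every morphism `M[0] ⟶ Z` from a finite module vanishes on `IⁿM[0]` for some `n`. -/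
theorem exists_pow_comp_eq_zero [IsNoetherianRing A] (I : Ideal A) (Z : Dual.D A)
    (hZ : I ≤ (annD A Z).radical) (M : Type u) [AddCommGroup M] [Module A M]
    [Module.Finite A M] (φ : Dual.inD A M ⟶ Z) :
    ∃ n : ℕ, (DerivedCategory.singleFunctor (ModuleCat.{u} A) 0).map
      (ModuleCat.ofHom (I ^ n • ⊤ : Submodule A M).subtype) ≫ φ = 0 := by
  classical
  have hfg : ∀ J : Ideal A, J.FG := fun J => IsNoetherian.noetherian J
  obtain ⟨k, hk⟩ := Ideal.exists_pow_le_of_le_radical_of_fg hZ (hfg I)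
  obtain ⟨s, hs⟩ := hfg (I ^ k)
  have hsZ : ∀ f ∈ s, f ∈ annD A Z := by
    intro f hf
    have hfI : f ∈ I ^ k := by
      rw [← hs]
      exact Submodule.subset_span hf
    exact hk hfI
  have hb : IsBdd (Dual.inD A M) := ⟨0, 0, inferInstance, inferInstance⟩
  obtain ⟨X', u, φ', hb', hfac, hrad⟩ := exists_factor_through_killed Z s hsZ _ hb φ
  have hrad' : I ^ k ≤ (annD A X').radical := by
    rw [← hs]
    exact hrad
  obtain ⟨k', hk'⟩ := Ideal.exists_pow_le_of_le_radical_of_fg hrad' (hfg _)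
  obtain ⟨a, b, ha, hb⟩ := hb'
  obtain ⟨d, hd⟩ : ∃ d : ℕ, b - a < d :=
    ⟨(b - a).toNat + 1, by have := Int.self_le_toNat (b - a); omega⟩
  have hP : PAR I X' := PAR_of_bdd_of_killed I (k * k') d X' a b hd ha hb (by
    rw [pow_mul]
    exact hk')
  obtain ⟨n, hn⟩ := hP M u
  exact ⟨n, by rw [hfac, ← Category.assoc, hn, zero_comp]⟩

end DA

end Groth.Agent.H6.DerivedAR
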