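import Mathlib

/-!
# Monoidal functors preserve exact pairings

If `F : C ⥤ D` is a (strong) monoidal functor and `X, Y` form an exact pairing in `C`, then
`F.obj X`, `F.obj Y` form an exact pairing in `D`.
-/

set_option autoImplicit false
universe v₁ v₂ u₁ u₂
open CategoryTheory MonoidalCategory

namespace Groth.Agent.H6.ExactPairingMap

open Functor.LaxMonoidal Functor.OplaxMonoidal Functor.Monoidal

variable {C : Type u₁} [Category.{v₁} C] [MonoidalCategory C]
  {D : Type u₂} [Category.{v₂} D] [MonoidalCategory D]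
  (F : C ⥤ D) [F.Monoidal] (X Y : C) [ExactPairing X Y]

theorem evaluation_coevaluation_map :
    ((ε F ≫ F.map (η_ X Y) ≫ δ F X Y) ▷ F.obj X) ≫ (α_ (F.obj X) (F.obj Y) (F.obj X)).hom ≫
      (F.obj X ◁ (μ F Y X ≫ F.map (ε_ X Y) ≫ η F)) =
      (λ_ (F.obj X)).hom ≫ (ρ_ (F.obj X)).inv := by
  have h := congrArg (fun φ => F.map φ) (ExactPairing.evaluation_coevaluation X Y)
  simp only [Functor.map_comp] at h
  rw [map_whiskerRight, map_associator, map_whiskerLeft, map_leftUnitor,
    map_rightUnitor_inv] at h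
  simp only [Category.assoc, μ_δ_assoc] at h
  have h1 := (cancel_epi (δ F (𝟙_ C) X)).1 h
  have h2 := h1 =≫ δ F X (𝟙_ C)
  simp only [Category.assoc, μ_δ, Category.comp_id] at h2
  simp only [comp_whiskerRight, MonoidalCategory.whiskerLeft_comp, Category.assoc]
  rw [reassoc_of% h2]
  simp only [whiskerRight_ε_η_assoc, whiskerLeft_ε_η, Category.comp_id]

theorem coevaluation_evaluation_map :
    (F.obj Y ◁ (ε F ≫ F.map (η_ X Y) ≫ δ F X Y)) ≫ (α_ (F.obj Y) (F.obj X) (F.obj Y)).inv ≫
      ((μ F Y X ≫ F.map (ε_ X Y) ≫ η F) ▷ F.obj Y) =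
      (ρ_ (F.obj Y)).hom ≫ (λ_ (F.obj Y)).inv := by
  have h := congrArg (fun φ => F.map φ) (ExactPairing.coevaluation_evaluation X Y)
  simp only [Functor.map_comp] at h
  rw [map_whiskerLeft, map_associator_inv, map_whiskerRight, map_rightUnitor,
    map_leftUnitor_inv] at h
  simp only [Category.assoc, μ_δ_assoc] at h
  have h1 := (cancel_epi (δ F Y (𝟙_ C))).1 h
  have h2 := h1 =≫ δ F (𝟙_ C) Y
  simp only [Category.assoc, μ_δ, Category.comp_id] at h2
  simp only [comp_whiskerRight, MonoidalCategory.whiskerLeft_comp, Category.assoc]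
  rw [reassoc_of% h2]
  simp only [whiskerLeft_ε_η_assoc, whiskerRight_ε_η, Category.comp_id]

/-- The image of an exact pairing under a monoidal functor. -/
def exactPairingMap : ExactPairing (F.obj X) (F.obj Y) where
  coevaluation' := ε F ≫ F.map (η_ X Y) ≫ δ F X Y
  evaluation' := μ F Y X ≫ F.map (ε_ X Y) ≫ η F
  coevaluation_evaluation' := coevaluation_evaluation_map F X Y
  evaluation_coevaluation' := evaluation_coevaluation_map F X Y

end Groth.Agent.H6.ExactPairingMap
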