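import Mathlib.Algebra.Homology.DerivedCategory.Ext.ExactSequences
import Mathlib.Algebra.Homology.DerivedCategory.Fractions
import Mathlib.Algebra.Homology.DerivedCategory.FullyFaithful

set_option autoImplicit false
universe w v u

namespace Groth.Agent.H6

open CategoryTheory CategoryTheory.Limits CategoryTheory.Abelian DerivedCategory

variable {C : Type u} [Category.{v} C] [Abelian C]

local notation "S₀" => HomologicalComplex.single C (ComplexShape.up ℤ) 0

/-- Effaceability in the derived category: a morphism from a single complex in degree `0` to a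
complex which vanishes in degree `0` is killed by an epimorphism. -/
theorem exists_epi_Q_map_comp_eq_zero [HasDerivedCategory.{w} C] {X : C} {L : CochainComplex C ℤ}
    (hL : IsZero (L.X 0)) (f : Q.obj ((S₀).obj X) ⟶ Q.obj L) :
    ∃ (X' : C) (π : X' ⟶ X), Epi π ∧ Q.map ((S₀).map π) ≫ f = 0 := by
  have hSX : CochainComplex.IsStrictlyLE ((S₀).obj X) 0 :=
    inferInstanceAs (CochainComplex.IsStrictlyLE ((CochainComplex.singleFunctor C 0).obj X) 0)
  obtain ⟨X', hX', s, hs, g, hfac⟩ := right_fac_of_isStrictlyLE f 0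
  have hd : ∀ k, (ComplexShape.up ℤ).Rel 0 k → 𝟙 (X'.X 0) ≫ X'.d 0 k = 0 := by
    intro k hk
    simp only [ComplexShape.up_Rel] at hk
    apply (X'.isZero_of_isStrictlyLE 0 k (by omega)).eq_of_tgt
  obtain ⟨j, hj⟩ : ∃ j : (S₀).obj (X'.X 0) ⟶ X',
      j.f 0 = (HomologicalComplex.singleObjXSelf (ComplexShape.up ℤ) 0 (X'.X 0)).hom :=
    ⟨HomologicalComplex.mkHomFromSingle (𝟙 (X'.X 0)) hd, by
      rw [HomologicalComplex.mkHomFromSingle_f, Category.comp_id]⟩
  obtain ⟨π, hπ⟩ : ∃ π : X'.X 0 ⟶ X,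
      π = s.f 0 ≫ (HomologicalComplex.singleObjXSelf (ComplexShape.up ℤ) 0 X).hom := ⟨_, rfl⟩
  have hjs : j ≫ s = (S₀).map π := by
    apply HomologicalComplex.from_single_hom_ext
    rw [HomologicalComplex.comp_f, hj, HomologicalComplex.single_map_f_self, hπ,
      Category.assoc, Iso.hom_inv_id, Category.comp_id]
  have hjg : j ≫ g = 0 := by
    apply HomologicalComplex.from_single_hom_ext
    exact hL.eq_of_tgt _ _
  refine ⟨X'.X 0, π, ?_, ?_⟩
  · constructor
    intro T t₁ t₂ ht
    rw [← sub_eq_zero]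
    have ht' : π ≫ (t₁ - t₂) = 0 := by rw [Preadditive.comp_sub, ht, sub_self]
    generalize t₁ - t₂ = t at ht'
    have h0 : s ≫ (S₀).map t = 0 := by
      apply HomologicalComplex.to_single_hom_ext
      rw [HomologicalComplex.comp_f, HomologicalComplex.zero_f,
        HomologicalComplex.single_map_f_self, ← Category.assoc, ← Category.assoc,
        ← hπ, ht', zero_comp]
    have h3 : Q.map s ≫ Q.map ((S₀).map t) = 0 := by
      rw [← Functor.map_comp, h0, Functor.map_zero]
    have h1 : Q.map ((S₀).map t) = 0 := (cancel_epi (Q.map s)).1 (h3.trans comp_zero.symm)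
    have h2 : (singleFunctor C 0).map t = 0 := h1
    exact (singleFunctor C 0).map_injective (h2.trans (Functor.map_zero _ _ _).symm)
  · rw [← hjs, hfac, Functor.map_comp, Category.assoc, IsIso.hom_inv_id_assoc,
      ← Functor.map_comp, hjg, Functor.map_zero]

/-- Effaceability of positive degree `Ext` classes (derived category form). -/
theorem exists_epi_comp_eq_zero [HasDerivedCategory.{w} C] {X Y : C} (n : ℕ)
    (f : (singleFunctor C 0).obj X ⟶ ((singleFunctor C 0).obj Y)⟦((n + 1 : ℕ) : ℤ)⟧) :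
    ∃ (X' : C) (π : X' ⟶ X), Epi π ∧ (singleFunctor C 0).map π ≫ f = 0 := by
  obtain ⟨e⟩ : Nonempty (Q.obj (((S₀).obj Y)⟦((n + 1 : ℕ) : ℤ)⟧) ≅
      ((singleFunctor C 0).obj Y)⟦((n + 1 : ℕ) : ℤ)⟧) :=
    ⟨(Q.commShiftIso ((n + 1 : ℕ) : ℤ)).app ((S₀).obj Y)⟩
  have hL : IsZero ((((S₀).obj Y)⟦((n + 1 : ℕ) : ℤ)⟧).X 0) := by
    dsimp
    apply HomologicalComplex.isZero_single_obj_X
    omega
  obtain ⟨X', π, hπ, h⟩ := exists_epi_Q_map_comp_eq_zero hL (f ≫ e.inv)
  refine ⟨X', π, hπ, ?_⟩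
  have h' : (singleFunctor C 0).map π ≫ f ≫ e.inv = 0 := h
  have := h' =≫ e.hom
  simpa only [Category.assoc, Iso.inv_hom_id, Category.comp_id, zero_comp] using this

/-- Effaceability of positive degree `Ext` classes: every `x : Ext X Y (n+1)` is killed by
precomposition with some epimorphism `X' ⟶ X`. -/
theorem ext_exists_epi_comp_eq_zero [HasExt.{w} C] {X Y : C} {n : ℕ} (x : Ext X Y (n + 1)) :
    ∃ (X' : C) (π : X' ⟶ X), Epi π ∧ (Ext.mk₀ π).comp x (zero_add _) = 0 := by
  let := HasDerivedCategory.standard C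
  obtain ⟨X', π, hπ, h⟩ := exists_epi_comp_eq_zero n x.hom
  refine ⟨X', π, hπ, ?_⟩
  apply Ext.ext
  rw [Ext.comp_hom, Ext.mk₀_hom, ShiftedHom.mk₀_comp, Ext.zero_hom]
  exact h

/-- Every class in `Ext X Y (n+1)` is the Yoneda product of an extension class `Ext X K 1` and a
class in `Ext K Y n`. -/
theorem ext_exists_eq_extClass_comp [HasExt.{w} C] {X Y : C} {n : ℕ} (x : Ext X Y (n + 1)) :
    ∃ (K : C) (e : Ext X K 1) (y : Ext K Y n), e.comp y (add_comm 1 n) = x := by
  obtain ⟨X', π, hπ, hx⟩ := ext_exists_epi_comp_eq_zero x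
  have hS : (ShortComplex.mk (kernel.ι π) π (kernel.condition π)).ShortExact :=
    { exact := ShortComplex.exact_kernel π }
  obtain ⟨y, hy⟩ := Ext.contravariant_sequence_exact₃ hS Y x hx (add_comm 1 n)
  exact ⟨_, hS.extClass, y, hy⟩

end Groth.Agent.H6
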