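import Mathlib
import Groth.Prelude.Def_DRing2
import Groth.Agent.H6.ExtPC

/-!
# Ext from a pseudo-coherent complex: coboundaries, filtered colimits, and the cone of `E → K`

Complements to `Groth.Agent.H6.ExtPC`: the kernel of the cocycle map `Φ` consists of coboundaries, finite
free modules are compact with respect to filtered colimits of modules, and for an `m`-pseudo-coherent
object `K` with approximation `α : E → K` the map `Hom(K, N[n]) → Hom(E, N[n])` is injective for
`n ≤ -m` and bijective for `n < -m`.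
-/

set_option autoImplicit false
universe u
open CategoryTheory CategoryTheory.Limits Pretriangulated
attribute [local instance] HasDerivedCategory.standard

namespace Groth.Agent.H6.ExtPC

open DerivedCategory

variable {A : Type u} [CommRing A]

section Tri

variable {C : Type*} [Category C] [Preadditive C] [HasZeroObject C] [HasShift C ℤ]
  [∀ n : ℤ, (shiftFunctor C n).Additive] [Pretriangulated C]

lemma exists_extension (T : Triangle C) (hT : T ∈ distTriang C) {X : C} (f : T.obj₁ ⟶ X)
    (hz : ∀ g : T.obj₃⟦(-1 : ℤ)⟧ ⟶ X, g = 0) : ∃ g : T.obj₂ ⟶ X, T.mor₁ ≫ g = f := by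
  obtain ⟨g, hg⟩ := Triangle.yoneda_exact₂ T.invRotate (inv_rot_of_distTriang _ hT) f (hz _)
  exact ⟨g, hg.symm⟩

end Tri

section DC

lemma isLE_cone (T : Triangle (DerivedCategory (ModuleCat.{u} A)))
    (hT : T ∈ distTriang (DerivedCategory (ModuleCat.{u} A))) (m : ℤ)
    (hiso : ∀ i : ℤ, m < i → IsIso ((homologyFunctor (ModuleCat.{u} A) i).map T.mor₁))
    (hepi : Epi ((homologyFunctor (ModuleCat.{u} A) m).map T.mor₁)) :
    DerivedCategory.IsLE T.obj₃ (m - 1) := by
  rw [DerivedCategory.isLE_iff]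
  intro i hi
  have h1 : (homologyFunctor (ModuleCat.{u} A) i).map T.mor₂ = 0 := by
    refine (HomologySequence.epi_homologyMap_mor₁_iff T hT i).mp ?_
    by_cases h : i = m
    · rw [h]
      exact hepi
    · haveI := hiso i (by omega)
      infer_instance
  have h2 : HomologySequence.δ T i (i + 1) rfl = 0 := by
    refine (HomologySequence.mono_homologyMap_mor₁_iff T hT i (i + 1) rfl).mp ?_
    haveI := hiso (i + 1) (by omega)
    infer_instance
  exact (HomologySequence.exact₃ T hT i (i + 1) rfl).isZero_of_both_zeros h1 h2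

lemma hom_eq_zero_of_isLE (C : DerivedCategory (ModuleCat.{u} A)) (k : ℤ)
    [DerivedCategory.IsLE C k] (N : ModuleCat.{u} A) (n : ℤ) (hn : k < -n)
    (g : C ⟶ ((DerivedCategory.singleFunctor (ModuleCat.{u} A) 0).obj N)⟦n⟧) : g = 0 := by
  haveI : DerivedCategory.TStructure.t.IsGE
      (((DerivedCategory.singleFunctor (ModuleCat.{u} A) 0).obj N)⟦n⟧) (-n) :=
    DerivedCategory.TStructure.t.isGE_shift _ 0 n (-n) (by omega)
  exact DerivedCategory.TStructure.t.zero g k (-n) hn

/-- For an approximation `α : E → K` inducing isomorphisms on `H^i` for `i > m` and an epimorphism on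
`H^m`, maps from `K` to `N[n]` are detected on `E` for `n ≤ -m` and extend from `E` for `n < -m`. -/
theorem pc_inj_surj (m : ℤ) {K : DerivedCategory (ModuleCat.{u} A)}
    (E : CochainComplex (ModuleCat.{u} A) ℤ) (α : Q.obj E ⟶ K)
    (hiso : ∀ i : ℤ, m < i → IsIso ((homologyFunctor (ModuleCat.{u} A) i).map α))
    (hepi : Epi ((homologyFunctor (ModuleCat.{u} A) m).map α)) :
    (∀ (N : ModuleCat.{u} A) (n : ℤ), n ≤ -m →
      ∀ y : K ⟶ ((DerivedCategory.singleFunctor (ModuleCat.{u} A) 0).obj N)⟦n⟧,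
        α ≫ y = 0 → y = 0) ∧
    (∀ (N : ModuleCat.{u} A) (n : ℤ), n < -m →
      ∀ e : Q.obj E ⟶ ((DerivedCategory.singleFunctor (ModuleCat.{u} A) 0).obj N)⟦n⟧,
        ∃ y : K ⟶ ((DerivedCategory.singleFunctor (ModuleCat.{u} A) 0).obj N)⟦n⟧, α ≫ y = e) := by
  obtain ⟨C, β, γ, hT⟩ := distinguished_cocone_triangle α
  have hC : DerivedCategory.IsLE C (m - 1) := isLE_cone (Triangle.mk α β γ) hT m hiso hepi
  constructor
  · intro N n hn y hy
    obtain ⟨g, hg⟩ := Triangle.yoneda_exact₂ _ hT y hy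
    have hg0 : g = 0 := hom_eq_zero_of_isLE C (m - 1) N n (by omega) g
    rw [hg, hg0]
    exact comp_zero
  · intro N n hn e
    haveI : DerivedCategory.IsLE (C⟦(-1 : ℤ)⟧) m :=
      DerivedCategory.TStructure.t.isLE_shift C (m - 1) (-1) m (by omega)
    exact exists_extension (Triangle.mk α β γ) hT e
      (fun g => hom_eq_zero_of_isLE (C⟦(-1 : ℤ)⟧) m N n (by omega) g)

end DC

section Cx

lemma θapp_θinv (p q : ℤ) (h : p + q = 0) (N : ModuleCat.{u} A) :
    θapp p q h N ≫ θinv p q h N = 𝟙 _ :=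
  (θ p q h).hom_inv_id_app N

/-- A bounded above complex of finite free modules is K-projective (no Noetherian hypothesis). -/
lemma isKProjective_of' (E : DRing.Cx A) (b : ℤ) (hb : DRing.VanishesAbove E b)
    (hE : DRing.TermwiseFiniteFree E) : E.IsKProjective := by
  haveI : E.IsStrictlyLE b := by
    rw [CochainComplex.isStrictlyLE_iff]
    intro i hi
    exact hb i hi
  haveI : ∀ n, Projective (E.X n) := fun n => by
    haveI : Module.Free A (E.X n) := (hE n).2
    have hp : Module.Projective A (E.X n) := Module.Projective.of_free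
    exact (IsProjective.iff_projective _).mp hp
  exact CochainComplex.isKProjective_of_projective E b

lemma homotopy_of_Q_map_eq_zero (E L : CochainComplex (ModuleCat.{u} A) ℤ) [E.IsKProjective]
    (f : E ⟶ L) (hf : Q.map f = 0) : Nonempty (Homotopy f 0) := by
  have nat := (quotientCompQhIso (ModuleCat.{u} A)).hom.naturality f
  have h1 : (HomotopyCategory.quotient (ModuleCat.{u} A) (ComplexShape.up ℤ) ⋙ Qh).map f =
      Qh.map ((HomotopyCategory.quotient (ModuleCat.{u} A) (ComplexShape.up ℤ)).map f) := rfl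
  have h2 : Qh.map ((HomotopyCategory.quotient (ModuleCat.{u} A) (ComplexShape.up ℤ)).map f) =
      0 := by
    rw [← h1, ← cancel_mono ((quotientCompQhIso (ModuleCat.{u} A)).hom.app L), nat, hf, comp_zero,
      zero_comp]
  have h3 : (HomotopyCategory.quotient (ModuleCat.{u} A) (ComplexShape.up ℤ)).map f = 0 := by
    apply (CochainComplex.IsKProjective.Qh_map_bijective E
      ((HomotopyCategory.quotient (ModuleCat.{u} A) (ComplexShape.up ℤ)).obj L)).injective
    rw [h2, Functor.map_zero]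
  exact (HomotopyCategory.quotient_map_eq_zero_iff f).mp h3

variable (E : CochainComplex (ModuleCat.{u} A) ℤ) (q : ℤ)

lemma comp_mem_Z {M M' : Type u} [AddCommGroup M] [Module A M] [AddCommGroup M'] [Module A M']
    (g : M →ₗ[A] M') (φ : E.X q →ₗ[A] M) (hφ : φ ∈ Z E q M) : g ∘ₗ φ ∈ Z E q M' := by
  rw [mem_Z, LinearMap.comp_assoc, (mem_Z E q φ).mp hφ, LinearMap.comp_zero]

lemma d_hom_comp_d_hom (i j k : ℤ) : (E.d j k).hom ∘ₗ (E.d i j).hom = 0 := by
  have h := congrArg ModuleCat.Hom.hom (E.d_comp_d i j k)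
  exact h

lemma comp_d_mem_Z {M : Type u} [AddCommGroup M] [Module A M] (χ : E.X (q + 1) →ₗ[A] M) :
    χ ∘ₗ (E.d q (q + 1)).hom ∈ Z E q M := by
  rw [mem_Z, LinearMap.comp_assoc, d_hom_comp_d_hom, LinearMap.comp_zero]

/-- If the class of a cocycle vanishes in `D(A)`, the cocycle is a coboundary. -/
lemma exists_eq_comp_d_of_Φ_eq_zero [E.IsKProjective] (p : ℤ) (h : p + q = 0) (M : Type u)
    [AddCommGroup M] [Module A M] (φ : Z E q M) (hφ : Φ E q p h M φ = 0) :
    ∃ χ : E.X (q + 1) →ₗ[A] M, φ.1 = χ ∘ₗ (E.d q (q + 1)).hom := by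
  rw [Φ_apply] at hφ
  have h1 : Q.map (toCx E q φ.1 φ.2) = 0 := by
    have h2 : Q.map (toCx E q φ.1 φ.2) ≫ θapp p q h (ModuleCat.of A M) = 0 := hφ
    calc Q.map (toCx E q φ.1 φ.2)
        = (Q.map (toCx E q φ.1 φ.2) ≫ θapp p q h (ModuleCat.of A M)) ≫
            θinv p q h (ModuleCat.of A M) := by
          rw [Category.assoc, θapp_θinv, Category.comp_id]
      _ = 0 := by rw [h2, zero_comp]
  obtain ⟨hh⟩ := homotopy_of_Q_map_eq_zero E _ (toCx E q φ.1 φ.2) h1
  have hc := hh.comm q
  rw [dNext_eq hh.hom (show (ComplexShape.up ℤ).Rel q (q + 1) from rfl),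
    prevD_eq hh.hom (show (ComplexShape.up ℤ).Rel (q - 1) q by simp),
    HomologicalComplex.single_obj_d, comp_zero, add_zero, HomologicalComplex.zero_f_apply, add_zero,
    toCx_f] at hc
  refine ⟨(hh.hom (q + 1) q ≫
    (HomologicalComplex.singleObjXSelf (ComplexShape.up ℤ) q (ModuleCat.of A M)).hom).hom, ?_⟩
  have h3 : ModuleCat.ofHom φ.1 = E.d q (q + 1) ≫ hh.hom (q + 1) q ≫
      (HomologicalComplex.singleObjXSelf (ComplexShape.up ℤ) q (ModuleCat.of A M)).hom := by
    rw [← Category.assoc, ← hc, Category.assoc, Iso.inv_hom_id, Category.comp_id]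
  have h4 := congrArg ModuleCat.Hom.hom h3
  exact h4

/-- The homotopy data for a coboundary. -/
noncomputable def cobH {M : Type u} [AddCommGroup M] [Module A M] (χ : E.X (q + 1) →ₗ[A] M) :
    ∀ i j : ℤ, (ComplexShape.up ℤ).Rel j i →
      (E.X i ⟶ ((HomologicalComplex.single (ModuleCat.{u} A) (ComplexShape.up ℤ) q).obj
        (ModuleCat.of A M)).X j) :=
  fun i j hij =>
    if hj : j = q then
      eqToHom (by
        have h1 : j + 1 = i := hij
        rw [← h1, hj]) ≫ ModuleCat.ofHom χ ≫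
        (HomologicalComplex.singleObjXSelf (ComplexShape.up ℤ) q (ModuleCat.of A M)).inv ≫
        eqToHom (by rw [hj])
    else 0

lemma cobH_self {M : Type u} [AddCommGroup M] [Module A M] (χ : E.X (q + 1) →ₗ[A] M)
    (r : (ComplexShape.up ℤ).Rel q (q + 1)) :
    cobH E q χ (q + 1) q r = ModuleCat.ofHom χ ≫
      (HomologicalComplex.singleObjXSelf (ComplexShape.up ℤ) q (ModuleCat.of A M)).inv := by
  unfold cobH
  rw [dif_pos rfl]
  simp

/-- The class of a coboundary vanishes. -/
lemma Φ_eq_zero_of_coboundary (p : ℤ) (h : p + q = 0) {M : Type u} [AddCommGroup M] [Module A M]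
    (χ : E.X (q + 1) →ₗ[A] M) (hφ : χ ∘ₗ (E.d q (q + 1)).hom ∈ Z E q M) :
    Φ E q p h M ⟨χ ∘ₗ (E.d q (q + 1)).hom, hφ⟩ = 0 := by
  have hc : toCx E q (χ ∘ₗ (E.d q (q + 1)).hom) hφ =
      Homotopy.nullHomotopicMap' (cobH E q χ) := by
    apply HomologicalComplex.to_single_hom_ext
    rw [toCx_f, Homotopy.nullHomotopicMap'_f (k₂ := q - 1) (k₁ := q) (k₀ := q + 1)
      (show (ComplexShape.up ℤ).Rel (q - 1) q by simp)
      (show (ComplexShape.up ℤ).Rel q (q + 1) by simp),
      HomologicalComplex.single_obj_d, comp_zero, add_zero, cobH_self,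
      ModuleCat.ofHom_comp, ModuleCat.ofHom_hom, Category.assoc]
  rw [Φ_apply]
  simp only [hc]
  unfold Ψ
  rw [DerivedCategory.Q_map_eq_of_homotopy _ (Homotopy.nullHomotopy' (cobH E q χ)),
    Functor.map_zero, zero_comp]

end Cx

section Filtered

variable {J : Type u} [SmallCategory J] [IsFiltered J] (F : J ⥤ ModuleCat.{u} A) (c : Cocone F)

/-- The structure maps of a cocone of modules, as linear maps. -/
def ιl (j : J) : ↑(F.obj j) →ₗ[A] ↑c.pt := (c.ι.app j).hom

lemma ιl_comp_map {j j' : J} (g : j ⟶ j') : ιl F c j' ∘ₗ (F.map g).hom = ιl F c j := by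
  have h := congrArg ModuleCat.Hom.hom (c.w g)
  exact h

lemma ιl_map_apply {j j' : J} (g : j ⟶ j') (y : F.obj j) :
    ιl F c j' ((F.map g).hom y) = ιl F c j y := by
  rw [← ιl_comp_map F c g]
  rfl

variable (hc : IsColimit c)

include hc

lemma exists_lift_elt (x : c.pt) (k : J) :
    ∃ (j : J) (_ : k ⟶ j) (y : F.obj j), ιl F c j y = x :=
  Concrete.exists_hom_ι_eq_of_isColimit F hc x k

lemma exists_lift_family {ι : Type*} (s : Finset ι) (x : ι → c.pt) (k : J) :
    ∃ (j : J) (_ : k ⟶ j) (y : ι → F.obj j), ∀ i ∈ s, ιl F c j (y i) = x i := by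
  classical
  induction s using Finset.induction_on with
  | empty => exact ⟨k, 𝟙 k, fun _ => 0, fun i hi => absurd hi (Finset.notMem_empty i)⟩
  | @insert a s has ih =>
    obtain ⟨j, f, y, hy⟩ := ih
    obtain ⟨j', g, ya, hya⟩ := exists_lift_elt F c hc (x a) j
    refine ⟨j', f ≫ g, fun i => if i = a then ya else (F.map g).hom (y i), fun i hi => ?_⟩
    show ιl F c j' (if i = a then ya else (F.map g).hom (y i)) = x i
    by_cases hia : i = a
    · rw [if_pos hia, hia]
      exact hya
    · rw [if_neg hia]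
      rcases Finset.mem_insert.mp hi with h | h
      · exact absurd h hia
      · exact (ιl_map_apply F c g (y i)).trans (hy i h)

/-- A map from a finite free module to a filtered colimit of modules factors through a stage. -/
lemma exists_lift_linearMap (P : Type u) [AddCommGroup P] [Module A P] [Module.Free A P]
    [Module.Finite A P] (φ : P →ₗ[A] c.pt) (k : J) :
    ∃ (j : J) (_ : k ⟶ j) (φ' : P →ₗ[A] F.obj j), ιl F c j ∘ₗ φ' = φ := by
  classical
  let b := Module.Free.chooseBasis A P
  obtain ⟨j, f, y, hy⟩ := exists_lift_family F c hc Finset.univ (fun i => φ (b i)) k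
  refine ⟨j, f, b.constr A y, ?_⟩
  apply b.ext
  intro i
  rw [LinearMap.comp_apply, Module.Basis.constr_basis]
  exact hy i (Finset.mem_univ i)

lemma exists_map_eq_zero_elt {j : J} (y : F.obj j) (hy : ιl F c j y = 0) :
    ∃ (j' : J) (f : j ⟶ j'), (F.map f).hom y = 0 := by
  obtain ⟨k, f, g, hfg⟩ := Concrete.isColimit_exists_of_rep_eq F hc y (0 : F.obj j)
    (by
      show (c.ι.app j).hom y = (c.ι.app j).hom 0
      rw [map_zero]
      exact hy)
  refine ⟨k, f, ?_⟩
  have h1 : (F.map f).hom y = (F.map g).hom 0 := hfg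
  rw [h1, map_zero]

lemma exists_map_eq_zero_family {ι : Type*} (s : Finset ι) {j : J} (y : ι → F.obj j)
    (hy : ∀ i ∈ s, ιl F c j (y i) = 0) :
    ∃ (j' : J) (f : j ⟶ j'), ∀ i ∈ s, (F.map f).hom (y i) = 0 := by
  classical
  induction s using Finset.induction_on with
  | empty => exact ⟨j, 𝟙 j, fun i hi => absurd hi (Finset.notMem_empty i)⟩
  | @insert a s has ih =>
    obtain ⟨j', f, hf⟩ := ih (fun i hi => hy i (Finset.mem_insert_of_mem hi))
    obtain ⟨j'', g, hg⟩ := exists_map_eq_zero_elt F c hc ((F.map f).hom (y a))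
      ((ιl_map_apply F c f (y a)).trans (hy a (Finset.mem_insert_self a s)))
    refine ⟨j'', f ≫ g, fun i hi => ?_⟩
    have hcomp : (F.map (f ≫ g)).hom (y i) = (F.map g).hom ((F.map f).hom (y i)) := by
      rw [F.map_comp]
      rfl
    rw [hcomp]
    rcases Finset.mem_insert.mp hi with h | h
    · rw [h]
      exact hg
    · rw [hf i h, map_zero]

/-- A map from a finite free module to a stage of a filtered diagram which vanishes in the colimit
vanishes at a later stage. -/
lemma exists_map_comp_eq_zero (P : Type u) [AddCommGroup P] [Module A P] [Module.Free A P]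
    [Module.Finite A P] {j : J} (ψ : P →ₗ[A] F.obj j) (hψ : ιl F c j ∘ₗ ψ = 0) :
    ∃ (j' : J) (f : j ⟶ j'), (F.map f).hom ∘ₗ ψ = 0 := by
  classical
  let b := Module.Free.chooseBasis A P
  obtain ⟨j', f, hf⟩ := exists_map_eq_zero_family F c hc Finset.univ (fun i => ψ (b i))
    (fun i _ => by
      have h1 := LinearMap.congr_fun hψ (b i)
      rw [LinearMap.comp_apply, LinearMap.zero_apply] at h1
      exact h1)
  refine ⟨j', f, ?_⟩
  apply b.ext
  intro i
  rw [LinearMap.comp_apply, LinearMap.zero_apply]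
  exact hf i (Finset.mem_univ i)

end Filtered

end Groth.Agent.H6.ExtPC
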