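import Mathlib
import Groth.Agent.H16.NoethSerre

/-!
# Faithful exact left adjoints into locally noetherian / Grothendieck categories (helper6)

`F : A ⥤ B` faithful exact with a right adjoint `G` commuting with filtered colimits, `B` an
`AB5` abelian category with a small separating family `s`.

* `mono_unit_app` : the unit is a monomorphism.
* `ab5OfSize` : `A` satisfies `AB5`.
* `star` : a filtered colimit cocone of monomorphisms with point `c.pt` and a map `X ⟶ G c.pt`
  give a jointly epimorphic filtered family of subobjects of `X` mapping into the `G (D j)`.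
* `diag`, `diagCocone`, `isColimit_diagCocone` : every object of `B` is the filtered colimit of
  the images of finite coproducts of the `s i`.
* `isNoetherianObject_of_map`, `strictMono_subMap`, `wellPowered` : `F` induces a strictly
  monotone map on subobjects.
* `isNoetherianObject_sigma_fin` : finite coproducts of noetherian objects are noetherian.
* `Idx₀`, `t₀`, `exists_sep` : a small separating family of `A`.
-/

set_option autoImplicit false
universe w u₁ u₂
open CategoryTheory CategoryTheory.Limits

namespace Groth.Agent.H6.FaithfulAdj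

variable {A : Type u₁} [Category.{w} A] [Abelian A] {B : Type u₂} [Category.{w} B] [Abelian B]
  {F : A ⥤ B} {G : B ⥤ A} (adj : F ⊣ G)

section Basic

include adj in
lemma mono_unit_app [F.Faithful] (X : A) : Mono (adj.unit.app X) := by
  constructor
  intro T f g h
  apply F.map_injective
  apply (adj.homEquiv T (F.obj X)).injective
  rw [adj.homEquiv_unit, adj.homEquiv_unit]
  have hf := adj.unit.naturality f
  have hg := adj.unit.naturality g
  simp only [Functor.id_obj, Functor.id_map, Functor.comp_obj, Functor.comp_map] at hf hg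
  rw [← hf, ← hg, h]

include adj in
lemma ab5OfSize [F.Faithful] [PreservesFiniteLimits F] [HasColimitsOfSize.{w, w} A]
    [HasColimitsOfSize.{w, w} B] [AB5OfSize.{w, w} B] : AB5OfSize.{w, w} A := by
  haveI : PreservesColimitsOfSize.{w, w} F := adj.leftAdjoint_preservesColimits
  haveI : ReflectsFiniteLimits F := ⟨fun J _ _ => reflectsLimitsOfShape_of_reflectsIsomorphisms⟩
  constructor
  intro J _ _
  exact HasExactColimitsOfShape.domain_of_functor J F

end Basic

section Star

include adj in
/-- the key lemma. -/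
theorem star {J : Type w} [SmallCategory J] [IsFiltered J] [HasColimitsOfShape J A]
    [HasExactColimitsOfShape J A] {D : J ⥤ B} (c : Cocone D) (hc : IsColimit c)
    [PreservesColimit D G] (hmono : ∀ j, Mono (c.ι.app j)) {X : A} (φ : X ⟶ G.obj c.pt) :
    ∃ (P : J ⥤ A) (i : ∀ j, P.obj j ⟶ X), (∀ (j j' : J) (a : j ⟶ j'), P.map a ≫ i j' = i j) ∧
      (∀ j, Mono (i j)) ∧
      (∀ {Z : A} (q : X ⟶ Z), (∀ j, i j ≫ q = 0) → q = 0) ∧
      (∀ j, ∃ u : P.obj j ⟶ G.obj (D.obj j), i j ≫ φ = u ≫ G.map (c.ι.app j)) := by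
  haveI : IsConnected J := IsFiltered.isConnected J
  let c' : Cocone (D ⋙ G) := G.mapCocone c
  have hc' : IsColimit c' := isColimitOfPreserves G hc
  let β : D ⋙ G ⟶ (Functor.const J).obj (G.obj c.pt) := c'.ι
  let φ' : (Functor.const J).obj X ⟶ (Functor.const J).obj (G.obj c.pt) :=
    (Functor.const J).map φ
  let π : (Functor.const J).obj (G.obj c.pt) ⟶ cokernel β := cokernel.π β
  let g : (Functor.const J).obj X ⟶ cokernel β := φ' ≫ π
  let P : J ⥤ A := kernel g
  let i : P ⟶ (Functor.const J).obj X := kernel.ι g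
  have hβπ : ∀ k, β.app k ≫ π.app k = 0 := by
    intro k
    exact congr_app (cokernel.condition β) k
  refine ⟨P, fun j => i.app j, ?_, ?_, ?_, ?_⟩
  · intro j j' a
    exact (i.naturality a).trans (Category.comp_id _)
  · intro j
    exact (NatTrans.mono_iff_mono_app i).1 inferInstance j
  · intro Z q hq
    let S : ShortComplex (J ⥤ A) := ShortComplex.mk i g (kernel.condition g)
    have hS : S.Exact := ShortComplex.exact_kernel g
    have hQ : IsZero (colimit (cokernel β)) := by
      have hψ : ∀ {j₁ j₂ : J} (a : j₁ ⟶ j₂), π.app j₁ ≫ colimit.ι (cokernel β) j₁ =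
          π.app j₂ ≫ colimit.ι (cokernel β) j₂ := by
        intro j₁ j₂ a
        have h1 := π.naturality a
        have h2 := colimit.w (cokernel β) a
        simp only [Functor.const_obj_obj, Functor.const_obj_map, Category.id_comp] at h1
        rw [← h2, ← Category.assoc, ← h1]
      rw [IsZero.iff_id_eq_zero]
      apply colimit.hom_ext
      intro j
      rw [Category.comp_id, comp_zero]
      haveI : Epi (π.app j) := (NatTrans.epi_iff_epi_app π).1 inferInstance j
      rw [← cancel_epi (π.app j), comp_zero]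
      refine hc'.hom_ext (fun k => ?_)
      rw [comp_zero]
      have e1 : π.app j ≫ colimit.ι (cokernel β) j = π.app k ≫ colimit.ι (cokernel β) k := by
        rw [hψ (IsFiltered.leftToMax j k), ← hψ (IsFiltered.rightToMax j k)]
      have e2 : c'.ι.app k ≫ π.app k ≫ colimit.ι (cokernel β) k = 0 := by
        rw [← Category.assoc]
        have := hβπ k
        rw [this, zero_comp]
      exact (congrArg (fun z => c'.ι.app k ≫ z) e1).trans e2
    let f : colimit P ⟶ X := colimit.desc P ⟨X, i⟩
    have hfi : ∀ j, colimit.ι P j ≫ f = i.app j := fun j => colimit.ι_desc _ _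
    have hf : ∀ j, (colimit.cocone P).ι.app j ≫ f = S.f.app j ≫ (constCocone J X).ι.app j := by
      intro j
      exact (hfi j).trans (Category.comp_id _).symm
    have hg : ∀ j, (constCocone J X).ι.app j ≫ (0 : X ⟶ colimit (cokernel β)) =
        S.g.app j ≫ (colimit.cocone (cokernel β)).ι.app j := fun j => hQ.eq_of_tgt _ _
    have hex := colim.exact_mapShortComplex hS (colimit.isColimit P) (isColimitConstCocone J X)
      (colimit.isColimit (cokernel β)) f 0 hf hg
    haveI : Epi f := hex.epi_f rfl
    have h0 : f ≫ q = 0 := by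
      apply colimit.hom_ext
      intro j
      rw [comp_zero, ← Category.assoc, hfi j, hq j]
    exact (cancel_epi f).1 (by rw [h0, comp_zero])
  · intro j
    haveI : G.PreservesMonomorphisms := Functor.preservesMonomorphisms_of_adjunction adj
    haveI := hmono j
    haveI : Mono (β.app j) := by
      change Mono (G.map (c.ι.app j))
      infer_instance
    have hex : (ShortComplex.mk β π (cokernel.condition β)).Exact := ShortComplex.exact_cokernel β
    have hexj := hex.map ((evaluation J A).obj j)
    have hk : (i.app j ≫ φ) ≫ π.app j = 0 := by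
      rw [Category.assoc]
      exact congr_app (kernel.condition g) j
    haveI : Mono ((ShortComplex.mk β π (cokernel.condition β)).map ((evaluation J A).obj j)).f := by
      change Mono (β.app j)
      infer_instance
    exact ⟨hexj.lift (i.app j ≫ φ) hk, (hexj.lift_f (i.app j ≫ φ) hk).symm⟩

end Star

section Diagram

variable {ι : Type w} (s : ι → B) (Y : B)

/-- the finite coproduct attached to a finite set of maps `s i ⟶ Y`. -/
noncomputable abbrev srcObj (S : Finset (Σ i, s i ⟶ Y)) : B := ∐ (fun x : S => s x.1.1)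

/-- the tautological map. -/
noncomputable abbrev srcMap (S : Finset (Σ i, s i ⟶ Y)) : srcObj s Y S ⟶ Y :=
  Sigma.desc (fun x : S => x.1.2)

/-- its image. -/
noncomputable abbrev sub (S : Finset (Σ i, s i ⟶ Y)) : Subobject Y := imageSubobject (srcMap s Y S)

lemma sub_mono : Monotone (sub s Y) := by
  intro S S' h
  refine imageSubobject_le _
    (Sigma.desc (fun x : S => Sigma.ι (fun y : S' => s y.1.1) ⟨x.1, h x.2⟩) ≫
      factorThruImageSubobject (srcMap s Y S')) ?_
  rw [Category.assoc, imageSubobject_arrow_comp]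
  apply Sigma.hom_ext
  intro x
  simp [srcMap]

/-- the diagram of images, as a functor to `MonoOver Y`. -/
noncomputable def diagMono : Finset (Σ i, s i ⟶ Y) ⥤ MonoOver Y :=
  (sub_mono s Y).functor ⋙ Subobject.representative

/-- the diagram of images. -/
noncomputable def diag : Finset (Σ i, s i ⟶ Y) ⥤ B :=
  (diagMono s Y ⋙ MonoOver.forget Y) ⋙ Over.forget Y

/-- the cocone of images, in `Over Y`. -/
noncomputable def diagCocone₀ : Cocone (diagMono s Y ⋙ MonoOver.forget Y) where
  pt := Over.mk (𝟙 Y)
  ι :=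
    { app := fun S => Over.homMk ((diagMono s Y).obj S).arrow (Category.comp_id _)
      naturality := fun S S' a => by
        apply Over.OverMorphism.ext
        exact (MonoOver.w ((diagMono s Y).map a)).trans (Category.comp_id _).symm }

/-- the cocone of images. -/
noncomputable def diagCocone : Cocone (diag s Y) := (Over.forget Y).mapCocone (diagCocone₀ s Y)

lemma diagCocone_ι_app (S : Finset (Σ i, s i ⟶ Y)) :
    (diagCocone s Y).ι.app S = (sub s Y S).arrow := rfl

instance (S : Finset (Σ i, s i ⟶ Y)) : Mono ((diagCocone s Y).ι.app S) :=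
  inferInstanceAs (Mono (Subobject.arrow (sub s Y S)))

/-- the canonical epimorphism from the finite coproduct onto its image. -/
noncomputable def srcEpi (S : Finset (Σ i, s i ⟶ Y)) : srcObj s Y S ⟶ (diag s Y).obj S :=
  factorThruImageSubobject (srcMap s Y S)

instance (S : Finset (Σ i, s i ⟶ Y)) : Epi (srcEpi s Y S) :=
  inferInstanceAs (Epi (factorThruImageSubobject (srcMap s Y S)))

variable {s} in
lemma isGrothendieckAbelian_of_sep
    (hsep : ∀ ⦃X Y : B⦄ (f g : X ⟶ Y), (∀ (i : ι) (h : s i ⟶ X), h ≫ f = h ≫ g) → f = g)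
    [HasColimitsOfSize.{w, w} B] [AB5OfSize.{w, w} B] : IsGrothendieckAbelian.{w} B :=
  { hasSeparator := ⟨⟨∐ s, (isSeparator_sigma s).2 (by
      intro X Y f g h
      apply hsep
      intro i k
      exact h _ ⟨i⟩ k)⟩⟩ }

variable {s} in
lemma iSup_sub_eq_top
    (hsep : ∀ ⦃X Y : B⦄ (f g : X ⟶ Y), (∀ (i : ι) (h : s i ⟶ X), h ≫ f = h ≫ g) → f = g)
    [IsGrothendieckAbelian.{w} B] : ⨆ S, sub s Y S = ⊤ := by
  classical
  rw [← Subobject.isIso_arrow_iff_eq_top]
  haveI : Epi (⨆ S, sub s Y S).arrow := by
    apply Abelian.epi_of_cokernel_π_eq_zero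
    apply hsep
    intro i h
    rw [comp_zero]
    let S : Finset (Σ i, s i ⟶ Y) := {⟨i, h⟩}
    have hS : sub s Y S ≤ ⨆ S, sub s Y S := le_iSup (sub s Y) S
    have e : h = (Sigma.ι (fun x : S => s x.1.1) ⟨⟨i, h⟩, Finset.mem_singleton_self _⟩ ≫
        factorThruImageSubobject (srcMap s Y S) ≫ Subobject.ofLE _ _ hS) ≫
        (⨆ S, sub s Y S).arrow := by
      rw [Category.assoc, Category.assoc, Subobject.ofLE_arrow]
      erw [imageSubobject_arrow_comp]
      simp [srcMap]
    rw [e, Category.assoc, cokernel.condition, comp_zero]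
  exact isIso_of_mono_of_epi _

variable {s} in
/-- every object is the filtered colimit of the images of finite coproducts of the `s i`. -/
noncomputable def isColimit_diagCocone
    (hsep : ∀ ⦃X Y : B⦄ (f g : X ⟶ Y), (∀ (i : ι) (h : s i ⟶ X), h ≫ f = h ≫ g) → f = g)
    [IsGrothendieckAbelian.{w} B] : IsColimit (diagCocone s Y) := by
  haveI : Mono (diagCocone₀ s Y).pt.hom := by
    dsimp [diagCocone₀]
    infer_instance
  refine IsGrothendieckAbelian.isColimitMapCoconeOfSubobjectMkEqISup (diagMono s Y)
    (diagCocone₀ s Y) ?_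
  have h1 : Subobject.mk (diagCocone₀ s Y).pt.hom = ⊤ := by
    dsimp [diagCocone₀]
    exact Subobject.mk_eq_top_of_isIso _
  have h2 : ∀ S, Subobject.mk ((diagMono s Y).obj S).obj.hom = sub s Y S := by
    intro S
    exact Subobject.mk_arrow (sub s Y S)
  rw [h1]
  simp only [h2]
  exact (iSup_sub_eq_top Y hsep).symm

end Diagram

section SubMap

variable (F)
variable [F.Faithful] [PreservesFiniteLimits F]

/-- the map induced by `F` on subobjects. -/
noncomputable def subMap (X : A) (m : Subobject X) : Subobject (F.obj X) :=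
  Subobject.mk (F.map m.arrow)

lemma le_of_subMap_le [F.Additive] {X : A} {m₁ m₂ : Subobject X}
    (h : subMap F X m₁ ≤ subMap F X m₂) : m₁ ≤ m₂ := by
  have ht := Subobject.ofMkLEMk_comp h
  have h0 : m₁.arrow ≫ cokernel.π m₂.arrow = 0 := by
    apply F.map_injective
    rw [F.map_comp, ← ht, Category.assoc, ← F.map_comp, cokernel.condition, F.map_zero,
      comp_zero, F.map_zero]
  exact Subobject.le_of_comm (Abelian.monoLift m₂.arrow m₁.arrow h0)
    (Abelian.monoLift_comp _ _ _)

lemma subMap_monotone (X : A) : Monotone (subMap F X) := by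
  intro m₁ m₂ h
  exact Subobject.mk_le_mk_of_comm (F.map (Subobject.ofLE m₁ m₂ h))
    (by rw [← F.map_comp, Subobject.ofLE_arrow])

lemma strictMono_subMap [F.Additive] (X : A) : StrictMono (subMap F X) := by
  intro m₁ m₂ h
  rw [lt_iff_le_not_ge]
  refine ⟨subMap_monotone F X h.le, fun h' => ?_⟩
  exact (lt_iff_le_not_ge.1 h).2 (le_of_subMap_le F h')

lemma isNoetherianObject_of_map [F.Additive] (X : A) [IsNoetherianObject (F.obj X)] :
    IsNoetherianObject X := by
  rw [Groth.Agent.H16.isNoetherianObject_iff_wf]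
  exact (strictMono_subMap F X).wellFoundedGT

lemma wellPowered [F.Additive] [WellPowered.{w} B] : WellPowered.{w} A :=
  ⟨fun X => small_of_injective (f := subMap F X)
    (fun _ _ h => le_antisymm (le_of_subMap_le F h.le) (le_of_subMap_le F h.ge))⟩

end SubMap

section FinCoprod

lemma isNoetherianObject_biprod (X₁ X₂ : B) [IsNoetherianObject X₁] [IsNoetherianObject X₂] :
    IsNoetherianObject (X₁ ⊞ X₂) :=
  Groth.Agent.H16.isNoetherianObject_of_shortExact
    (S := ShortComplex.mk (biprod.inl : X₁ ⟶ X₁ ⊞ X₂) biprod.snd biprod.inl_snd)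
    (ShortComplex.Splitting.ofHasBinaryBiproduct X₁ X₂).shortExact

lemma isNoetherianObject_sigma_fin : ∀ (n : ℕ) (v : Fin n → B),
    (∀ x, IsNoetherianObject (v x)) → IsNoetherianObject (∐ v) := by
  intro n
  induction n with
  | zero =>
    intro v _
    apply isNoetherianObject_of_isZero
    rw [IsZero.iff_id_eq_zero]
    apply Sigma.hom_ext
    intro x
    exact x.elim0
  | succ n ih =>
    intro v hv
    haveI := ih (fun x => v x.castSucc) (fun x => hv _)
    haveI := hv (Fin.last n)
    let p : (∐ fun x : Fin n => v x.castSucc) ⊞ v (Fin.last n) ⟶ ∐ v :=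
      biprod.desc (Sigma.desc (fun x => Sigma.ι v x.castSucc)) (Sigma.ι v (Fin.last n))
    haveI : Epi p := by
      constructor
      intro Z g₁ g₂ h
      apply Sigma.hom_ext
      intro x
      induction x using Fin.lastCases with
      | last =>
        have := congrArg (fun z => biprod.inr ≫ z) h
        simpa [p] using this
      | cast y =>
        have := congrArg (fun z => Sigma.ι (fun x : Fin n => v x.castSucc) y ≫ biprod.inl ≫ z) h
        simpa [p] using this
    haveI := isNoetherianObject_biprod (∐ fun x : Fin n => v x.castSucc) (v (Fin.last n))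
    exact Groth.Agent.H16.isNoetherianObject_of_epi p

lemma isNoetherianObject_sigma_finite {α : Type w} [Finite α] (v : α → B)
    (hv : ∀ x, IsNoetherianObject (v x)) : IsNoetherianObject (∐ v) := by
  obtain ⟨n, ⟨e⟩⟩ := Finite.exists_equiv_fin α
  haveI := isNoetherianObject_sigma_fin n (v ∘ e.symm) (fun x => hv _)
  exact Groth.Agent.H16.isNoetherianObject_of_epi (Sigma.reindex e.symm v).hom

variable {ι : Type w} {s : ι → B}

lemma isNoetherianObject_diag_obj (hsN : ∀ i, IsNoetherianObject (s i)) (Y : B)
    (S : Finset (Σ i, s i ⟶ Y)) : IsNoetherianObject ((diag s Y).obj S) := by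
  haveI : IsNoetherianObject (srcObj s Y S) :=
    isNoetherianObject_sigma_finite (fun x : S => s x.1.1) (fun x => hsN _)
  exact Groth.Agent.H16.isNoetherianObject_of_epi (srcEpi s Y S)

end FinCoprod

section Family

variable {ι : Type w} (s : ι → B) (G)

/-- index data for the generating family of `A`. -/
abbrev Idx₀ : Type (max u₁ u₂ w) :=
  Σ (n : ℕ) (v : Fin n → ι) (k : Subobject (∐ fun y : Fin n => s (v y))),
    Subobject (G.obj (cokernel k.arrow))

/-- the generating family. -/
noncomputable def t₀ (x : Idx₀ G s) : A := (x.2.2.2 : A)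

/-- the quotient of a finite coproduct of `s i` into which `F (t₀ x)` embeds. -/
noncomputable abbrev quot₀ (x : Idx₀ G s) : B := cokernel x.2.2.1.arrow

/-- the finite coproduct of which `quot₀ x` is a quotient. -/
noncomputable abbrev cop₀ (x : Idx₀ G s) : B := ∐ fun y : Fin x.1 => s (x.2.1 y)

/-- the quotient map. -/
noncomputable abbrev quotπ (x : Idx₀ G s) : cop₀ G s x ⟶ quot₀ G s x := cokernel.π x.2.2.1.arrow

lemma small_Idx₀ [WellPowered.{w} A] [WellPowered.{w} B] : Small.{w} (Idx₀ G s) := by
  infer_instance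

lemma exists_cokernel_kernelSubobject_iso {X Y : B} (ρ : X ⟶ Y) [Epi ρ] :
    ∃ θ : cokernel (kernelSubobject ρ).arrow ≅ Y,
      cokernel.π (kernelSubobject ρ).arrow ≫ θ.hom = ρ := by
  have hlim : IsLimit (KernelFork.ofι (kernelSubobject ρ).arrow (kernelSubobject_arrow_comp ρ)) :=
    IsLimit.ofIsoLimit (kernelIsKernel ρ)
      (Fork.ext (kernelSubobjectIso ρ).symm (by simp))
  have hcolim := Abelian.epiIsCokernelOfKernel _ hlim
  refine ⟨IsColimit.coconePointUniqueUpToIso (cokernelIsCokernel (kernelSubobject ρ).arrow)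
    hcolim, ?_⟩
  exact IsColimit.comp_coconePointUniqueUpToIso_hom (cokernelIsCokernel _) hcolim
    WalkingParallelPair.one

variable {s G}

include adj in
/-- the family `t₀` detects nonzero maps. -/
theorem exists_sep [F.Additive] [F.Faithful] [PreservesFiniteLimits F]
    [PreservesFiniteColimits F] [HasColimitsOfSize.{w, w} A] [HasColimitsOfSize.{w, w} B]
    [AB5OfSize.{w, w} B] [PreservesFilteredColimitsOfSize.{w, w} G]
    (hsep : ∀ ⦃X Y : B⦄ (f g : X ⟶ Y), (∀ (i : ι) (h : s i ⟶ X), h ≫ f = h ≫ g) → f = g)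
    {X Z : A} (q : X ⟶ Z) (hq : q ≠ 0) :
    ∃ (x : Idx₀ G s) (h : t₀ G s x ⟶ X) (m : F.obj (t₀ G s x) ⟶ quot₀ G s x),
      h ≫ q ≠ 0 ∧ Mono m := by
  classical
  haveI := isGrothendieckAbelian_of_sep hsep
  haveI : AB5OfSize.{w, w} A := ab5OfSize adj
  have hc := isColimit_diagCocone (F.obj X) hsep
  obtain ⟨P, i, -, himono, hjoint, hfac⟩ := star adj (diagCocone s (F.obj X)) hc
    (fun S => inferInstance) (X := X) (adj.unit.app X)
  obtain ⟨S, hS⟩ : ∃ S, i S ≫ q ≠ 0 := by
    by_contra hcon
    refine hq (hjoint q (fun j => ?_))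
    by_contra h
    exact hcon ⟨j, h⟩
  obtain ⟨u, hu⟩ := hfac S
  let n := S.card
  let e : Fin n ≃ ↥S := S.equivFin.symm
  let v : Fin n → ι := fun y => (e y).1.1
  let r : (∐ fun y : Fin n => s (v y)) ≅ srcObj s (F.obj X) S :=
    Sigma.reindex e (fun x : S => s x.1.1)
  let ρ : (∐ fun y : Fin n => s (v y)) ⟶ (diag s (F.obj X)).obj S :=
    r.hom ≫ srcEpi s (F.obj X) S
  haveI : Epi ρ := epi_comp _ _
  obtain ⟨θ, hθ⟩ := exists_cokernel_kernelSubobject_iso ρ
  haveI : Mono (i S) := himono S
  haveI : Mono u := by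
    haveI : Mono (u ≫ G.map ((diagCocone s (F.obj X)).ι.app S)) := by
      rw [← hu]
      exact @mono_comp _ _ _ _ _ (i S) (himono S) (adj.unit.app X) (mono_unit_app adj X)
    exact mono_of_mono u (G.map ((diagCocone s (F.obj X)).ι.app S))
  let m₀ : P.obj S ⟶ G.obj (cokernel (kernelSubobject ρ).arrow) := u ≫ G.map θ.inv
  haveI : Mono m₀ := mono_comp _ _
  let x : Idx₀ G s := ⟨n, v, kernelSubobject ρ, Subobject.mk m₀⟩
  let iso : t₀ G s x ≅ P.obj S := Subobject.underlyingIso m₀
  have h1 : (adj.homEquiv (P.obj S) (F.obj X)).symm (i S ≫ adj.unit.app X) = F.map (i S) := by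
    rw [adj.homEquiv_counit, F.map_comp, Category.assoc, adj.left_triangle_components,
      Category.comp_id]
  have hv : (adj.homEquiv _ _).symm u ≫ (diagCocone s (F.obj X)).ι.app S = F.map (i S) := by
    rw [← adj.homEquiv_naturality_right_symm, ← hu]
    exact h1
  haveI : Mono ((adj.homEquiv _ _).symm u) := by
    haveI hFi : Mono (F.map (i S)) := F.map_mono (i S)
    exact @mono_of_mono_fac B _ _ _ _ _ _ _ hFi hv
  refine ⟨x, iso.hom ≫ i S, F.map iso.hom ≫ (adj.homEquiv _ _).symm u ≫ θ.inv, ?_, ?_⟩
  · intro h0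
    apply hS
    rw [← cancel_epi iso.hom, comp_zero, ← Category.assoc]
    exact h0
  · exact mono_comp _ _

end Family

end Groth.Agent.H6.FaithfulAdj
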