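import Mathlib

/-! Filtered colimits of abelian groups, with the indexing category in an arbitrary universe
(helper6): elements of a filtered colimit come from a stage, and vanish iff they vanish at a
later stage. -/

set_option autoImplicit false
universe w v u

namespace Groth.Agent.H6.FiltColimAb

open CategoryTheory CategoryTheory.Limits

section Big

variable {J : Type v} [SmallCategory J] [IsFiltered J] (F : J ⥤ AddCommGrpCat.{max v w})

lemma zero_detect (j : J) (x : F.obj j)
    (h : (AddCommGrpCat.FilteredColimits.colimitCocone.{v, w} F).ι.app j x = 0) :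
    ∃ (k : J) (f : j ⟶ k), F.map f x = 0 := by
  let F₁ : J ⥤ AddGrpCat.{max v w} := F ⋙ forget₂ AddCommGrpCat.{max v w} AddGrpCat.{max v w}
  let F₂ : J ⥤ AddMonCat.{max v w} := F₁ ⋙ forget₂ AddGrpCat.{max v w} AddMonCat.{max v w}
  have h0 : (0 : AddMonCat.FilteredColimits.M.{v, w} F₂) =
      AddMonCat.FilteredColimits.M.mk F₂ ⟨j, 0⟩ :=
    AddMonCat.FilteredColimits.colimit_zero_eq F₂ j
  have h1 : AddMonCat.FilteredColimits.M.mk F₂ ⟨j, x⟩ =
      AddMonCat.FilteredColimits.M.mk F₂ ⟨j, (0 : F.obj j)⟩ := by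
    rw [← h0]
    exact h
  have h2 := ((F₂ ⋙ forget AddMonCat).ιColimitType_eq_iff_of_isFiltered' (j := j) x (0 : F.obj j)).1 h1
  obtain ⟨k, f, hf⟩ := h2
  refine ⟨k, f, ?_⟩
  have : F.map f x = F.map f 0 := hf
  rw [this, map_zero]

lemma exists_rep_big (z : (AddCommGrpCat.FilteredColimits.colimitCocone.{v, w} F).pt) :
    ∃ (j : J) (x : F.obj j),
      (AddCommGrpCat.FilteredColimits.colimitCocone.{v, w} F).ι.app j x = z := by
  let F₁ : J ⥤ AddGrpCat.{max v w} := F ⋙ forget₂ AddCommGrpCat.{max v w} AddGrpCat.{max v w}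
  let F₂ : J ⥤ AddMonCat.{max v w} := F₁ ⋙ forget₂ AddGrpCat.{max v w} AddMonCat.{max v w}
  obtain ⟨j, x, hx⟩ := AddMonCat.FilteredColimits.M.mk_surjective F₂ z
  exact ⟨j, x, hx⟩

end Big

section Small

variable {J : Type v} [SmallCategory J] [IsFiltered J] (G : J ⥤ AddCommGrpCat.{w})
  (c : Cocone G) (hc : IsColimit c)

/-- The comparison of the lifted cocone with Mathlib's explicit filtered colimit. -/
noncomputable def cmp :
    (AddCommGrpCat.FilteredColimits.colimitCocone.{v, w}
      (G ⋙ AddCommGrpCat.uliftFunctor.{v, w})).pt ≅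
      (AddCommGrpCat.uliftFunctor.{v, w}.mapCocone c).pt :=
  IsColimit.coconePointUniqueUpToIso
    (AddCommGrpCat.FilteredColimits.colimitCoconeIsColimit.{v, w}
      (G ⋙ AddCommGrpCat.uliftFunctor.{v, w}))
    (isColimitOfPreserves AddCommGrpCat.uliftFunctor.{v, w} hc)

lemma cmp_ι (j : J) (y : G.obj j) :
    (cmp G c hc).hom ((AddCommGrpCat.FilteredColimits.colimitCocone.{v, w}
      (G ⋙ AddCommGrpCat.uliftFunctor.{v, w})).ι.app j (ULift.up y)) =
      ULift.up (c.ι.app j y) := by
  have h := IsColimit.comp_coconePointUniqueUpToIso_hom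
    (AddCommGrpCat.FilteredColimits.colimitCoconeIsColimit.{v, w}
      (G ⋙ AddCommGrpCat.uliftFunctor.{v, w}))
    (isColimitOfPreserves AddCommGrpCat.uliftFunctor.{v, w} hc) j
  exact ConcreteCategory.congr_hom h (ULift.up y)

include hc in
/-- Every element of a filtered colimit of abelian groups comes from some stage. -/
theorem exists_rep (x : c.pt) : ∃ (j : J) (y : G.obj j), c.ι.app j y = x := by
  obtain ⟨j, z, hz⟩ := exists_rep_big (G ⋙ AddCommGrpCat.uliftFunctor.{v, w})
    ((cmp G c hc).inv (ULift.up x))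
  refine ⟨j, z.down, ?_⟩
  have h1 := cmp_ι G c hc j z.down
  have h2 : (cmp G c hc).hom ((cmp G c hc).inv (ULift.up x)) = ULift.up x :=
    ConcreteCategory.congr_hom (cmp G c hc).inv_hom_id (ULift.up x)
  have h3 : (ULift.up z.down : ULift.{v} (G.obj j)) = z := rfl
  rw [h3, hz, h2] at h1
  exact (congrArg ULift.down h1).symm

include hc in
/-- An element of a stage dies in the filtered colimit iff it dies at a later stage. -/
theorem exists_map_eq_zero (j : J) (y : G.obj j) (h : c.ι.app j y = 0) :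
    ∃ (k : J) (f : j ⟶ k), G.map f y = 0 := by
  have h1 := cmp_ι G c hc j y
  rw [h] at h1
  have h2 : (AddCommGrpCat.FilteredColimits.colimitCocone.{v, w}
      (G ⋙ AddCommGrpCat.uliftFunctor.{v, w})).ι.app j (ULift.up y) = 0 := by
    have hinj : Function.Injective (cmp G c hc).hom :=
      (ConcreteCategory.bijective_of_isIso (cmp G c hc).hom).1
    apply hinj
    rw [h1, map_zero]
    rfl
  obtain ⟨k, f, hf⟩ := zero_detect (G ⋙ AddCommGrpCat.uliftFunctor.{v, w}) j (ULift.up y) h2
  exact ⟨k, f, congrArg ULift.down hf⟩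

end Small

end Groth.Agent.H6.FiltColimAb
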