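import Mathlib.RingTheory.Flat.FaithfullyFlat.Algebra
import Mathlib.RingTheory.RingHom.Flat
import Mathlib.RingTheory.RingHom.FaithfullyFlat
import Mathlib.AlgebraicGeometry.Morphisms.Flat

set_option autoImplicit false
universe u

namespace Groth.Agent.H6

open TensorProduct

/-- If `C → B → A → B'` are ring maps with `B → B'` faithfully flat and `C → A` flat, then `C → B` is flat. -/
theorem flat_of_flat_of_faithfullyFlat_factor (C B A B' : Type u) [CommRing C] [CommRing B] [CommRing A] [CommRing B']
    [Algebra C B] [Algebra B A] [Algebra A B'] [Algebra C A] [Algebra B B'] [Algebra C B']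
    [IsScalarTower C B A] [IsScalarTower B A B'] [IsScalarTower C B B']
    [Module.Flat C A] [Module.FaithfullyFlat B B'] : Module.Flat C B := by
  rw [Module.Flat.iff_lTensor_preserves_injective_linearMap]
  intro N P _ _ _ _ f hf
  -- the maps B ⊗ N → A ⊗ N → B' ⊗ N
  let bA : B →ₗ[C] A := (IsScalarTower.toAlgHom C B A).toLinearMap
  let bB' : B →ₗ[C] B' := (IsScalarTower.toAlgHom C B B').toLinearMap
  have hinjB' : Function.Injective (bB'.rTensor N) := by
    have h1 : Function.Injective (TensorProduct.mk B B' (B ⊗[C] N) 1) :=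
      Module.FaithfullyFlat.tensorProduct_mk_injective (A := B) (B := B') (B ⊗[C] N)
    have h2 : ∀ x : B ⊗[C] N, bB'.rTensor N x =
        (AlgebraTensorModule.cancelBaseChange C B B B' N) (TensorProduct.mk B B' (B ⊗[C] N) 1 x) := by
      intro x
      induction x using TensorProduct.induction_on with
      | zero => simp
      | tmul b n =>
        simp [bB', Algebra.smul_def]
      | add x y hx hy => simp only [map_add, hx, hy]
    intro x y hxy
    rw [h2, h2] at hxy
    exact h1 ((AlgebraTensorModule.cancelBaseChange C B B B' N).injective hxy)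
  have hinjA : Function.Injective (bA.rTensor N) := by
    let aB' : A →ₗ[C] B' :=
      { toFun := algebraMap A B'
        map_add' := map_add _
        map_smul' := by
          intro c a
          simp only [RingHom.id_apply, Algebra.smul_def, map_mul]
          rw [IsScalarTower.algebraMap_apply C B A, ← IsScalarTower.algebraMap_apply B A B',
            ← IsScalarTower.algebraMap_apply C B B'] }
    have hcomp : aB' ∘ₗ bA = bB' := by
      ext b
      simp [aB', bA, bB', ← IsScalarTower.algebraMap_apply B A B']
    have : (aB'.rTensor N) ∘ₗ (bA.rTensor N) = bB'.rTensor N := by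
      rw [← LinearMap.rTensor_comp, hcomp]
    intro x y hxy
    apply hinjB'
    rw [← this]
    simp [hxy]
  have hflat : Function.Injective (f.lTensor A) :=
    Module.Flat.lTensor_preserves_injective_linearMap f hf
  have hsq : (bA.rTensor P) ∘ₗ (f.lTensor B) = (f.lTensor A) ∘ₗ (bA.rTensor N) := by
    rw [LinearMap.rTensor_comp_lTensor, LinearMap.lTensor_comp_rTensor]
  intro x y hxy
  apply hinjA
  apply hflat
  have := congrArg (bA.rTensor P) hxy
  have e1 := LinearMap.congr_fun hsq x
  have e2 := LinearMap.congr_fun hsq y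
  simp only [LinearMap.comp_apply] at e1 e2
  rw [← e1, ← e2, this]

end Groth.Agent.H6

namespace Groth.Agent.H6

/-- Ring hom version of `flat_of_flat_of_faithfullyFlat_factor`. -/
theorem ringHom_flat_of_factor {C B A B' : Type u} [CommRing C] [CommRing B] [CommRing A] [CommRing B']
    (c : C →+* B) (b : B →+* A) (a : A →+* B') (h1 : (b.comp c).Flat)
    (h2 : (a.comp b).FaithfullyFlat) : c.Flat := by
  let := c.toAlgebra
  let := b.toAlgebra
  let := a.toAlgebra
  let := (b.comp c).toAlgebra
  let := (a.comp b).toAlgebra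
  let := ((a.comp b).comp c).toAlgebra
  have : IsScalarTower C B A := IsScalarTower.of_algebraMap_eq' rfl
  have : IsScalarTower B A B' := IsScalarTower.of_algebraMap_eq' rfl
  have : IsScalarTower C B B' := IsScalarTower.of_algebraMap_eq' rfl
  have : Module.Flat C A := h1
  have : Module.FaithfullyFlat B B' := h2
  exact flat_of_flat_of_faithfullyFlat_factor C B A B'

open AlgebraicGeometry CategoryTheory

/-- If `l ≫ f` is flat and surjective and `f ≫ q` is flat, then `q` is flat. -/
theorem flat_of_flat_comp_of_factor {X Y Z Y' : Scheme.{u}} (f : X ⟶ Y) (q : Y ⟶ Z) (l : Y' ⟶ X)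
    [Flat (l ≫ f)] [Surjective (l ≫ f)] [Flat (f ≫ q)] : Flat q := by
  rw [Flat.iff_flat_stalkMap]
  intro y
  obtain ⟨y', rfl⟩ := (l ≫ f).surjective y
  have h1 : ((f ≫ q).stalkMap (l y')).hom.Flat := Flat.stalkMap (f ≫ q) (l y')
  have h2 : ((l ≫ f).stalkMap y').hom.Flat := Flat.stalkMap (l ≫ f) y'
  rw [Scheme.Hom.stalkMap_comp] at h1 h2
  refine ringHom_flat_of_factor (q.stalkMap (f (l y'))).hom (f.stalkMap (l y')).hom
    (l.stalkMap y').hom h1 ?_
  have h3 : IsLocalHom ((l.stalkMap y').hom.comp (f.stalkMap (l y')).hom) := by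
    infer_instance
  let := ((l.stalkMap y').hom.comp (f.stalkMap (l y')).hom).toAlgebra
  have : Module.Flat (Y.presheaf.stalk (f (l y'))) (Y'.presheaf.stalk y') := h2
  have : IsLocalHom (algebraMap (Y.presheaf.stalk (f (l y'))) (Y'.presheaf.stalk y')) := h3
  exact Module.FaithfullyFlat.of_flat_of_isLocalHom

end Groth.Agent.H6
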