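import Mathlib
import Groth.Prelude.Def_FEt
import Groth.Agent.H68.GalK.Defs

/-!
# (TRb) for helper68's S0290/S0298 squad: a categorically connected finite étale cover of `Spec K`
has a single image point.
-/

set_option autoImplicit false
set_option linter.style.haveILetI false
universe u
open CategoryTheory CategoryTheory.Limits AlgebraicGeometry
open Groth.Agent.H68.GalK

namespace Groth.Agent.H6.GalK_TRb

variable {K : Type u} [Field K]

/-- A scheme finite over the spectrum of a field is discrete. -/
theorem discreteTopology_of_isFinite {Z : Scheme.{u}} (f : Z ⟶ Spec (CommRingCat.of K))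
    [IsFinite f] : DiscreteTopology Z := by
  haveI : IsAffine Z := isAffine_of_isAffineHom f
  haveI : IsArtinianRing Γ(Spec (CommRingCat.of K), ⊤) :=
    (Scheme.ΓSpecIso (CommRingCat.of K)).symm.commRingCatIsoToRingEquiv.isArtinianRing
  have hfin : f.appTop.hom.Finite := f.finite_appTop
  letI : Algebra Γ(Spec (CommRingCat.of K), ⊤) Γ(Z, ⊤) := f.appTop.hom.toAlgebra
  haveI : Module.Finite Γ(Spec (CommRingCat.of K), ⊤) Γ(Z, ⊤) := hfin
  haveI : IsArtinianRing Γ(Z, ⊤) := IsArtinianRing.of_finite Γ(Spec (CommRingCat.of K), ⊤) Γ(Z, ⊤)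
  haveI : DiscreteTopology (Spec Γ(Z, ⊤)) := inferInstanceAs (DiscreteTopology (PrimeSpectrum _))
  exact Z.isoSpec.hom.homeomorph.symm.discreteTopology

/-- The empty cover. -/
noncomputable def emptyCover (X : Scheme.{u}) : FEt.Cat X :=
  MorphismProperty.Over.mk ⊤ (Scheme.emptyTo X)
    ⟨by
      haveI : IsClosedImmersion (Scheme.emptyTo X) :=
        IsClosedImmersion.of_isPreimmersion _ (by
          have : Set.range (Scheme.emptyTo X).base = ∅ := Set.range_eq_empty _
          rw [this]; exact isClosed_empty)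
      infer_instance, inferInstance⟩

theorem base_eq_of_noTrivialComponent (Y : FEt.Cat (Spec (CommRingCat.of K)))
    (hconn : ∀ (Y' : FEt.Cat (Spec (CommRingCat.of K))) (i : Y' ⟶ Y), Mono i →
      (IsInitial Y' → False) → IsIso i)
    (s t : FEt.fiberObj (ξ K) Y) (x y : Spec (CommRingCat.of (AlgebraicClosure K))) :
    s.1.base x = t.1.base y := by
  haveI hYfin : IsFinite Y.hom := Y.prop.1
  haveI hYet : Etale Y.hom := Y.prop.2
  haveI : DiscreteTopology Y.left := discreteTopology_of_isFinite Y.hom
  set y₀ : Y.left := s.1.base x with hy₀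
  let U : Y.left.Opens := ⟨{y₀}, isOpen_discrete _⟩
  haveI : IsClosedImmersion U.ι :=
    IsClosedImmersion.of_isPreimmersion _ (by
      rw [Scheme.Opens.range_ι]; exact isClosed_discrete _)
  have hprop : FEt.prop (U.ι ≫ Y.hom) :=
    FEt.prop.comp_mem _ _ ⟨inferInstance, inferInstance⟩ Y.prop
  let Y' : FEt.Cat (Spec (CommRingCat.of K)) := MorphismProperty.Over.mk ⊤ (U.ι ≫ Y.hom) hprop
  let i : Y' ⟶ Y := MorphismProperty.Over.homMk U.ι rfl
  let F : FEt.Cat (Spec (CommRingCat.of K)) ⥤ Scheme.{u} :=
    MorphismProperty.Over.forget FEt.prop ⊤ (Spec (CommRingCat.of K)) ⋙ Over.forget _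
  have hFi : F.map i = U.ι := rfl
  have hmono : Mono i := by
    haveI : Mono (F.map i) := by
      haveI : IsOpenImmersion U.ι := inferInstance
      show Mono U.ι
      infer_instance
    exact F.mono_of_mono_map this
  have hni : IsInitial Y' → False := by
    intro hI
    let φ : Y' ⟶ emptyCover _ := hI.to _
    have p : U.toScheme := ⟨y₀, rfl⟩
    have hE : IsEmpty (∅ : Scheme.{u}) := inferInstance
    exact hE.false (φ.left.base p)
  haveI hiso : IsIso i := hconn Y' i hmono hni
  haveI : IsIso U.ι := by rw [← hFi]; exact Functor.map_isIso F i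
  have hsurj : Function.Surjective U.ι.base := U.ι.surjective
  obtain ⟨p, hp⟩ := hsurj (t.1.base y)
  have : (U.ι.base p) ∈ ({y₀} : Set Y.left) := p.2
  rw [hp] at this
  exact (Set.mem_singleton_iff.1 this).symm

end Groth.Agent.H6.GalK_TRb
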