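import Mathlib
import Groth.Agent.H5.KInj.Triang
import Groth.Agent.H31.LpullAdj
import Groth.Agent.H31.KFlatSingleSite
import Groth.Agent.H31.KFlatResolutionSite
import Groth.Agent.H31.ExtZeroFlat
import Groth.Agent.H31.RpushRestrict
import Groth.Agent.H31.MVGamma
import Groth.Agent.H6.LerayBdd
import Groth.Agent.H8.UnitHom
import Groth.Agent.S0476

/-!
# The direct image of a K-injective complex is acyclic for global sections (helper6)

* abstract part: `KI_bijective_precomp`, `Qh_map_bijective_of_adj`, `postcomp_bijective_of_adj`,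
  `eq_zero_of_distTriang`, `exists_lift_of_hom_single_eq_zero`.
-/

set_option autoImplicit false
universe w w' v v' u u'
open CategoryTheory CategoryTheory.Limits AlgebraicGeometry Pretriangulated

namespace Groth.Agent.H6.PushAcyc

open Groth.Agent.H5.KInjDer

section Abstract

variable {A : Type u} [Category.{v} A] [Abelian A] [HasDerivedCategory.{w} A]

/-- K-injective objects are local for quasi-isomorphisms. -/
theorem KI_bijective_precomp {a' a b : HomotopyCategory A (ComplexShape.up ℤ)} (hb : KI A b)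
    (s : a' ⟶ a) (hs : HomotopyCategory.quasiIso A (ComplexShape.up ℤ) s) :
    Function.Bijective (fun χ : a ⟶ b => s ≫ χ) := by
  have hb' : (HomotopyCategory.subcategoryAcyclic A).trW.isLocal b := by
    rw [ObjectProperty.isLocal_trW]
    exact hb
  rw [HomotopyCategory.quasiIso_eq_trW_subcategoryAcyclic] at hs
  exact hb' s hs

variable {B : Type u'} [Category.{v'} B] [Abelian B] [HasDerivedCategory.{w'} B]
  {L : HomotopyCategory A (ComplexShape.up ℤ) ⥤ HomotopyCategory B (ComplexShape.up ℤ)}
  {R : HomotopyCategory B (ComplexShape.up ℤ) ⥤ HomotopyCategory A (ComplexShape.up ℤ)}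
  (adj : L ⊣ R) (PP : ObjectProperty (HomotopyCategory A (ComplexShape.up ℤ)))
  (h1 : ∀ p' : HomotopyCategory A (ComplexShape.up ℤ),
    ∃ (p'' : HomotopyCategory A (ComplexShape.up ℤ)) (r : p'' ⟶ p'), PP p'' ∧
      HomotopyCategory.quasiIso A (ComplexShape.up ℤ) r)
  (h2 : ∀ (p' p : HomotopyCategory A (ComplexShape.up ℤ)) (t : p' ⟶ p), PP p' → PP p →
    HomotopyCategory.quasiIso A (ComplexShape.up ℤ) t →
    HomotopyCategory.quasiIso B (ComplexShape.up ℤ) (L.map t))

include adj h1 h2 in
/-- If `L ⊣ R` on homotopy categories, `L` preserves quasi-isomorphisms between objects of a class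
`PP` which has enough resolutions, then morphisms from `p ∈ PP` to `R b`, `b` K-injective, are the
same in the homotopy category and in the derived category. -/
theorem Qh_map_bijective_of_adj {p : HomotopyCategory A (ComplexShape.up ℤ)} (hp : PP p)
    {b : HomotopyCategory B (ComplexShape.up ℤ)} (hb : KI B b) :
    Function.Bijective (DerivedCategory.Qh.map :
      (p ⟶ R.obj b) → (DerivedCategory.Qh.obj p ⟶ DerivedCategory.Qh.obj (R.obj b))) := by
  constructor
  · intro φ₁ φ₂ h
    obtain ⟨p', t, ht, e⟩ := (MorphismProperty.map_eq_iff_precomp DerivedCategory.Qh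
      (HomotopyCategory.quasiIso A (ComplexShape.up ℤ)) φ₁ φ₂).1 h
    obtain ⟨p'', r, hp'', hr⟩ := h1 p'
    have htr : HomotopyCategory.quasiIso A (ComplexShape.up ℤ) (r ≫ t) :=
      MorphismProperty.comp_mem _ _ _ hr ht
    have hL := h2 p'' p (r ≫ t) hp'' hp htr
    have e' : (r ≫ t) ≫ φ₁ = (r ≫ t) ≫ φ₂ := by simp only [Category.assoc, e]
    have e'' : L.map (r ≫ t) ≫ (adj.homEquiv p b).symm φ₁ =
        L.map (r ≫ t) ≫ (adj.homEquiv p b).symm φ₂ := by
      rw [← Adjunction.homEquiv_naturality_left_symm, ← Adjunction.homEquiv_naturality_left_symm,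
        e']
    exact (adj.homEquiv p b).symm.injective ((KI_bijective_precomp hb _ hL).1 e'')
  · intro φ
    obtain ⟨ψ, hψ⟩ := Localization.exists_rightFraction DerivedCategory.Qh
      (HomotopyCategory.quasiIso A (ComplexShape.up ℤ)) φ
    obtain ⟨p'', r, hp'', hr⟩ := h1 ψ.X'
    have htr : HomotopyCategory.quasiIso A (ComplexShape.up ℤ) (r ≫ ψ.s) :=
      MorphismProperty.comp_mem _ _ _ hr ψ.hs
    have hL := h2 p'' p (r ≫ ψ.s) hp'' hp htr
    obtain ⟨χ, hχ⟩ := (KI_bijective_precomp hb _ hL).2 ((adj.homEquiv p'' b).symm (r ≫ ψ.f))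
    refine ⟨adj.homEquiv p b χ, ?_⟩
    have e : (r ≫ ψ.s) ≫ adj.homEquiv p b χ = r ≫ ψ.f := by
      have hχ' : L.map (r ≫ ψ.s) ≫ χ = (adj.homEquiv p'' b).symm (r ≫ ψ.f) := hχ
      rw [← Adjunction.homEquiv_naturality_left, hχ', Equiv.apply_symm_apply]
    have i1 : IsIso (DerivedCategory.Qh.map r) :=
      Localization.inverts DerivedCategory.Qh _ _ hr
    have i2 : IsIso (DerivedCategory.Qh.map ψ.s) :=
      Localization.inverts DerivedCategory.Qh _ _ ψ.hs
    rw [hψ, ← cancel_epi (DerivedCategory.Qh.map ψ.s),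
      MorphismProperty.RightFraction.map_s_comp_map, ← cancel_epi (DerivedCategory.Qh.map r),
      ← Functor.map_comp, ← Functor.map_comp, ← Functor.map_comp, ← Category.assoc, e]

include adj h1 h2 in
/-- Postcomposition with a K-injective resolution `R b ⟶ i` is bijective on morphisms from
`p ∈ PP`. -/
theorem postcomp_bijective_of_adj {p : HomotopyCategory A (ComplexShape.up ℤ)} (hp : PP p)
    {b : HomotopyCategory B (ComplexShape.up ℤ)} (hb : KI B b)
    {i : HomotopyCategory A (ComplexShape.up ℤ)} (hi : KI A i) (s : R.obj b ⟶ i)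
    (hs : HomotopyCategory.quasiIso A (ComplexShape.up ℤ) s) :
    Function.Bijective (fun φ : p ⟶ R.obj b => φ ≫ s) := by
  have hQ1 := Qh_map_bijective_of_adj adj PP h1 h2 hp hb
  have hQ2 := ObjectProperty.rightOrthogonal.map_bijective_of_isTriangulated hi
    DerivedCategory.Qh p
  have i1 : IsIso (DerivedCategory.Qh.map s) := Localization.inverts DerivedCategory.Qh _ _ hs
  constructor
  · intro φ₁ φ₂ h
    apply hQ1.1
    have := congrArg (fun x => DerivedCategory.Qh.map x) h
    simp only [Functor.map_comp] at this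
    exact (cancel_mono (DerivedCategory.Qh.map s)).1 this
  · intro ψ
    obtain ⟨φ, hφ⟩ := hQ1.2 (DerivedCategory.Qh.map ψ ≫ inv (DerivedCategory.Qh.map s))
    refine ⟨φ, hQ2.1 ?_⟩
    change DerivedCategory.Qh.map (φ ≫ s) = DerivedCategory.Qh.map ψ
    rw [Functor.map_comp, hφ, Category.assoc, IsIso.inv_hom_id, Category.comp_id]

end Abstract

section Tri

variable {C : Type u} [Category.{v} C] [Preadditive C] [HasZeroObject C] [HasShift C ℤ]
  [∀ n : ℤ, (shiftFunctor C n).Additive] [Pretriangulated C]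

/-- If postcomposition with the first map of a distinguished triangle is surjective on morphisms
from `p` and injective on morphisms from `p⟦-1⟧`, every morphism from `p` to the third object
vanishes. -/
theorem eq_zero_of_distTriang (T : Triangle C) (hT : T ∈ distTriang C) (p : C)
    (hsurj : Function.Surjective (fun φ : p ⟶ T.obj₁ => φ ≫ T.mor₁))
    (hinj : Function.Injective (fun φ : (p⟦(-1 : ℤ)⟧) ⟶ T.obj₁ => φ ≫ T.mor₁))
    (x : p ⟶ T.obj₃) : x = 0 := by
  have hy : x ≫ T.mor₃ = 0 := by
    apply (shiftFunctor C (-1 : ℤ)).map_injective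
    rw [Functor.map_zero]
    have e := (shiftFunctorCompIsoId C (1 : ℤ) (-1) (by norm_num)).hom.naturality T.mor₁
    simp only [Functor.comp_map, Functor.id_map] at e
    have h0 : ((x ≫ T.mor₃)⟦(-1 : ℤ)⟧' ≫
        (shiftFunctorCompIsoId C (1 : ℤ) (-1) (by norm_num)).hom.app T.obj₁) ≫ T.mor₁ =
        0 ≫ T.mor₁ := by
      rw [Category.assoc, zero_comp, ← e, ← Category.assoc, ← Functor.map_comp, Category.assoc,
        comp_distTriang_mor_zero₃₁ _ hT, comp_zero, Functor.map_zero, zero_comp]
    have h1 := hinj h0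
    rwa [← cancel_mono ((shiftFunctorCompIsoId C (1 : ℤ) (-1) (by norm_num)).hom.app T.obj₁),
      zero_comp]
  obtain ⟨ψ, hψ⟩ := Triangle.coyoneda_exact₃ T hT x hy
  obtain ⟨χ, hχ⟩ := hsurj ψ
  rw [hψ, ← hχ]
  change (χ ≫ T.mor₁) ≫ T.mor₂ = 0
  rw [Category.assoc, comp_distTriang_mor_zero₁₂ _ hT, comp_zero]

end Tri

section Single

variable {A : Type u} [Category.{v} A] [Abelian A]

open CochainComplex HomComplex in
/-- If every morphism in the homotopy category from `G` placed in degree `q` to `C` vanishes, every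
`q`-cocycle `G ⟶ C^q` is a coboundary. -/
theorem exists_lift_of_hom_single_eq_zero (G : A) (C : CochainComplex A ℤ) (q : ℤ)
    (h : ∀ x : (HomotopyCategory.quotient A (ComplexShape.up ℤ)).obj
      ((CochainComplex.singleFunctor A q).obj G) ⟶
        (HomotopyCategory.quotient A (ComplexShape.up ℤ)).obj C, x = 0)
    (f : G ⟶ C.X q) (hf : f ≫ C.d q (q + 1) = 0) :
    ∃ g : G ⟶ C.X (q - 1), g ≫ C.d (q - 1) q = f := by
  let z : Cocycle ((CochainComplex.singleFunctor A q).obj G) C 0 :=
    Cocycle.fromSingleMk f (add_zero q) (q + 1) rfl hf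
  have hφ : (HomotopyCategory.quotient A (ComplexShape.up ℤ)).map (Cocycle.homOf z) =
      (HomotopyCategory.quotient A (ComplexShape.up ℤ)).map 0 := by
    rw [h ((HomotopyCategory.quotient _ _).map (Cocycle.homOf z)), Functor.map_zero]
  have hmt : Homotopy (Cocycle.homOf z) 0 := HomotopyCategory.homotopyOfEq _ _ hφ
  obtain ⟨β, hβ⟩ := Cochain.equivHomotopy (Cocycle.homOf z) 0 hmt
  rw [← Cocycle.fromSingleMk_mem_coboundaries_iff f (add_zero q) (q + 1) rfl hf (q - 1) (by omega)]
  rw [mem_coboundaries_iff _ (-1) (by norm_num)]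
  refine ⟨β, ?_⟩
  have h2 := Cocycle.cochain_ofHom_homOf_eq_coe z
  rw [hβ] at h2
  simp only [Cochain.ofHom_zero, add_zero] at h2
  exact h2

end Single

section Scheme

attribute [local instance] HasDerivedCategory.standard

variable {X Y : Scheme.{u}} (g : X ⟶ Y)

/-- Homotopy classes of K-flat complexes. -/
def KF (Y : Scheme.{u}) : ObjectProperty (HomotopyCategory Y.Modules (ComplexShape.up ℤ)) :=
  fun p => ∃ P : CochainComplex Y.Modules ℤ, DCoh.IsKFlat P ∧
    Nonempty (p ≅ (HomotopyCategory.quotient _ _).obj P)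

theorem KF_resolution (p' : HomotopyCategory Y.Modules (ComplexShape.up ℤ)) :
    ∃ (p'' : HomotopyCategory Y.Modules (ComplexShape.up ℤ)) (r : p'' ⟶ p'), KF Y p'' ∧
      HomotopyCategory.quasiIso Y.Modules (ComplexShape.up ℤ) r := by
  obtain ⟨P₀, rfl⟩ := HomotopyCategory.quotient_obj_surjective p'
  obtain ⟨P, q, hP, hq⟩ : ∃ (P : CochainComplex Y.Modules ℤ) (q : P ⟶ P₀),
      DCoh.IsKFlat P ∧ QuasiIso q := by
    obtain ⟨P, q, hP, -, hq, -⟩ :=
      Groth.Agent.H31.KFlat.exists_isKFlat_resolution (O := Y.sheaf) P₀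
    exact ⟨P, q, hP, hq⟩
  refine ⟨_, (HomotopyCategory.quotient _ _).map q, ⟨P, hP, ⟨Iso.refl _⟩⟩, ?_⟩
  rw [HomotopyCategory.quotient_map_mem_quasiIso_iff, HomologicalComplex.mem_quasiIso_iff]
  exact hq

theorem KF_pullback (p' p : HomotopyCategory Y.Modules (ComplexShape.up ℤ)) (t : p' ⟶ p)
    (hp' : KF Y p') (hp : KF Y p)
    (ht : HomotopyCategory.quasiIso Y.Modules (ComplexShape.up ℤ) t) :
    HomotopyCategory.quasiIso X.Modules (ComplexShape.up ℤ)
      (((Scheme.Modules.pullback g).mapHomotopyCategory (ComplexShape.up ℤ)).map t) := by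
  obtain ⟨P', hP', ⟨e'⟩⟩ := hp'
  obtain ⟨P, hP, ⟨e⟩⟩ := hp
  obtain ⟨α, hα⟩ := (HomotopyCategory.quotient _ _).map_surjective (e'.inv ≫ t ≫ e.hom)
  have hα' : QuasiIso α := by
    rw [← HomologicalComplex.mem_quasiIso_iff, ← HomotopyCategory.quotient_map_mem_quasiIso_iff,
      hα]
    exact (MorphismProperty.cancel_left_of_respectsIso _ _ _).2
      ((MorphismProperty.cancel_right_of_respectsIso _ _ _).2 ht)
  have h := Groth.Agent.H31.Stalk.quasiIso_pullback_map g α hα' hP' hP
  have ht' : t = e'.hom ≫ (HomotopyCategory.quotient _ _).map α ≫ e.inv := by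
    rw [hα]
    simp
  rw [ht', Functor.map_comp, Functor.map_comp]
  refine (MorphismProperty.cancel_left_of_respectsIso _ _ _).2
    ((MorphismProperty.cancel_right_of_respectsIso _ _ _).2 ?_)
  change HomotopyCategory.quasiIso _ _ ((HomotopyCategory.quotient _ _).map
    (((Scheme.Modules.pullback g).mapHomologicalComplex _).map α))
  rw [HomotopyCategory.quotient_map_mem_quasiIso_iff, HomologicalComplex.mem_quasiIso_iff]
  exact h

theorem KF_single (q : ℤ) : KF Y ((HomotopyCategory.quotient _ _).obj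
    ((CochainComplex.singleFunctor Y.Modules q).obj (Coh.structureModule Y))) :=
  ⟨_, Groth.Agent.H31.KFlat.isKFlat_single (O := Y.sheaf) _
    (Groth.Agent.H31.ExtZero.isFlat_unit Y.sheaf) q, ⟨Iso.refl _⟩⟩

theorem KF_single_shift (q : ℤ) : KF Y (((HomotopyCategory.quotient _ _).obj
    ((CochainComplex.singleFunctor Y.Modules q).obj (Coh.structureModule Y)))⟦(-1 : ℤ)⟧) := by
  refine ⟨(CochainComplex.singleFunctor Y.Modules (q + 1)).obj (Coh.structureModule Y),
    Groth.Agent.H31.KFlat.isKFlat_single (O := Y.sheaf) _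
      (Groth.Agent.H31.ExtZero.isFlat_unit Y.sheaf) (q + 1), ⟨?_⟩⟩
  exact (((HomotopyCategory.quotient Y.Modules (ComplexShape.up ℤ)).commShiftIso (-1 : ℤ)).app
    _).symm ≪≫ (HomotopyCategory.quotient _ _).mapIso
      (((CochainComplex.singleFunctors Y.Modules).shiftIso (-1) (q + 1) q (by omega)).app _)

section Main

variable (B : CochainComplex X.Modules ℤ) [B.IsKInjective]
  (I : CochainComplex Y.Modules ℤ) [I.IsKInjective]
  (s : ((Scheme.Modules.pushforward g).mapHomologicalComplex (ComplexShape.up ℤ)).obj B ⟶ I)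
  [QuasiIso s]

theorem hom_single_cone_eq_zero (q : ℤ)
    (x : (HomotopyCategory.quotient _ _).obj
      ((CochainComplex.singleFunctor Y.Modules q).obj (Coh.structureModule Y)) ⟶
        (HomotopyCategory.quotient _ _).obj (CochainComplex.mappingCone s)) : x = 0 := by
  have adj := Groth.Agent.H31.Stalk.adjMapHomotopyCategory
    (Scheme.Modules.pullbackPushforwardAdjunction g)
  have hb : KI X.Modules ((HomotopyCategory.quotient _ _).obj B) :=
    (CochainComplex.isKInjective_iff_rightOrthogonal B).1 inferInstance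
  have hi : KI Y.Modules ((HomotopyCategory.quotient _ _).obj I) :=
    (CochainComplex.isKInjective_iff_rightOrthogonal I).1 inferInstance
  have hs : HomotopyCategory.quasiIso Y.Modules (ComplexShape.up ℤ)
      ((HomotopyCategory.quotient _ _).map s) := by
    rw [HomotopyCategory.quotient_map_mem_quasiIso_iff, HomologicalComplex.mem_quasiIso_iff]
    infer_instance
  have key := fun (p : HomotopyCategory Y.Modules (ComplexShape.up ℤ)) (hp : KF Y p) =>
    postcomp_bijective_of_adj adj (KF Y) KF_resolution (KF_pullback g) hp hb hi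
      ((HomotopyCategory.quotient _ _).map s) hs
  exact eq_zero_of_distTriang (CochainComplex.mappingCone.triangleh s)
    (HomotopyCategory.mappingCone_triangleh_distinguished s) _
    (key _ (KF_single q)).2 (key _ (KF_single_shift q)).1 x

theorem acyclic_gamma_cone :
    (((DCoh.gammaAb Y).mapHomologicalComplex (ComplexShape.up ℤ)).obj
      (CochainComplex.mappingCone s)).Acyclic := by
  intro q
  rw [HomologicalComplex.exactAt_iff' _ (q - 1) q (q + 1) (by simp) (by simp),
    ShortComplex.ab_exact_iff]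
  intro x₂ hx₂
  obtain ⟨f, hf⟩ := (Groth.Agent.H8.unit_hom_ev_bijective Y
    ((CochainComplex.mappingCone s).X q)).2 x₂
  have hfd : f ≫ (CochainComplex.mappingCone s).d q (q + 1) = 0 := by
    apply (Groth.Agent.H8.unit_hom_ev_bijective Y ((CochainComplex.mappingCone s).X (q + 1))).1
    subst hf
    exact hx₂
  obtain ⟨g', hg'⟩ := exists_lift_of_hom_single_eq_zero _ (CochainComplex.mappingCone s) q
    (hom_single_cone_eq_zero g B I s q) f hfd
  subst hg'
  subst hf
  exact ⟨(ConcreteCategory.hom (Scheme.Modules.Hom.app g' ⊤))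
    (show Γ(Coh.structureModule Y, ⊤) from (1 : Γ(Y, ⊤))), rfl⟩

end Main

section Unit

variable (B : CochainComplex X.Modules ℤ) [B.IsKInjective]

/-- **The direct image of a K-injective complex is acyclic for global sections**: the unit of
`RΓ(Y, -)` at `g_* B` is an isomorphism. -/
theorem isIso_unit_pushforward [DCoh.HasRΓ Y] :
    IsIso (((DCoh.gammaKh Y).totalRightDerivedUnit DerivedCategory.Qh
      (HomotopyCategory.quasiIso Y.Modules (ComplexShape.up ℤ))).app
      ((HomotopyCategory.quotient Y.Modules (ComplexShape.up ℤ)).obj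
        (((Scheme.Modules.pushforward g).mapHomologicalComplex (ComplexShape.up ℤ)).obj B))) := by
  obtain ⟨I, s, hI, hs, -, -⟩ := Groth.Agent.S0476.result
    (((Scheme.Modules.pushforward g).mapHomologicalComplex (ComplexShape.up ℤ)).obj B)
  exact Groth.Agent.H6.LerayBdd.isIso_unit_of_acyclic_cone (DCoh.gammaAb Y) (DCoh.RΓ Y)
    ((DCoh.gammaKh Y).totalRightDerivedUnit DerivedCategory.Qh
      (HomotopyCategory.quasiIso Y.Modules (ComplexShape.up ℤ))) s
    (acyclic_gamma_cone g B I s)

/-- Local version (`S11124`). -/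
theorem isIso_unit_restrict_pushforward (U : Y.Opens) [DCoh.HasRΓ (U : Scheme.{u})] :
    IsIso (((DCoh.gammaKh (U : Scheme.{u})).totalRightDerivedUnit DerivedCategory.Qh
      (HomotopyCategory.quasiIso (U : Scheme.{u}).Modules (ComplexShape.up ℤ))).app
      ((HomotopyCategory.quotient (U : Scheme.{u}).Modules (ComplexShape.up ℤ)).obj
        ((DCoh.restrictCx U).obj (((Scheme.Modules.pushforward g).mapHomologicalComplex
          (ComplexShape.up ℤ)).obj B)))) := by
  have hB := Groth.Agent.H31.RpushRestrict.isKInjective_restrict (g ⁻¹ᵁ U) B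
  have e : (DCoh.restrictCx U).obj (((Scheme.Modules.pushforward g).mapHomologicalComplex
      (ComplexShape.up ℤ)).obj B) ≅
      ((Scheme.Modules.pushforward (g ∣_ U)).mapHomologicalComplex (ComplexShape.up ℤ)).obj
        (((Scheme.Modules.restrictFunctor (g ⁻¹ᵁ U).ι).mapHomologicalComplex
          (ComplexShape.up ℤ)).obj B) :=
    (NatIso.mapHomologicalComplex (Groth.Agent.H31.PushRestrict.pushRestrictIso g U)
      (ComplexShape.up ℤ)).app B
  rw [NatTrans.isIso_app_iff_of_iso _
    ((HomotopyCategory.quotient (U : Scheme.{u}).Modules (ComplexShape.up ℤ)).mapIso e)]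
  exact isIso_unit_pushforward (g ∣_ U) _

end Unit

end Scheme

end Groth.Agent.H6.PushAcyc
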