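import Mathlib
import Groth.Agent.H6.PushAcyc
import Groth.Agent.H31.RpushSupport

/-!
# `RΓ(Y, Rg_* -) ≅ RΓ(X, -)` (helper6)

* `isIso_uΓ_app_of`, `gammaPushIso'`, `cxΓIso`, `α₁`, `α₂`, `RΓRpushIso g`.
* `restrictRΓIso f V` (second part of `S6509`).
-/

set_option autoImplicit false
universe u
open CategoryTheory CategoryTheory.Limits AlgebraicGeometry Pretriangulated

namespace Groth.Agent.H6.GammaPush

open Groth.Agent.H5.KInjDer Groth.Agent.H6.PushAcyc

attribute [local instance] HasDerivedCategory.standard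

section Scheme

variable {X Y : Scheme.{u}} (g : X ⟶ Y)

section Comp

open Groth.Agent.H31.MV Groth.Agent.H31.RpushRestrict

variable [DCoh.HasRpush g] [DCoh.HasRΓ X] [DCoh.HasRΓ Y]

/-- The complex-level unit of `RΓ` is an isomorphism as soon as the homotopy-level one is. -/
theorem isIso_uΓ_app_of (K : CochainComplex Y.Modules ℤ)
    (h : IsIso (((DCoh.gammaKh Y).totalRightDerivedUnit DerivedCategory.Qh
      (HomotopyCategory.quasiIso Y.Modules (ComplexShape.up ℤ))).app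
      ((HomotopyCategory.quotient Y.Modules (ComplexShape.up ℤ)).obj K))) :
    IsIso ((uΓ Y).app K) := by
  have e : (uΓ Y).app K = (isoC (DCoh.gammaAb Y)).hom.app K ≫
      ((DCoh.gammaKh Y).totalRightDerivedUnit DerivedCategory.Qh
        (HomotopyCategory.quasiIso Y.Modules (ComplexShape.up ℤ))).app
        ((HomotopyCategory.quotient Y.Modules (ComplexShape.up ℤ)).obj K) ≫
      (DCoh.RΓ Y).map ((DerivedCategory.quotientCompQhIso Y.Modules).hom.app K) := by
    change ((isoC _).hom ≫ toC _ _ _).app K = _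
    rw [NatTrans.comp_app, toC_app]
  rw [e]
  infer_instance

/-- `Γ(Y, g_* M) = Γ(X, M)`. -/
noncomputable def gammaPushIso' : Scheme.Modules.pushforward g ⋙ DCoh.gammaAb Y ≅ DCoh.gammaAb X :=
  NatIso.ofComponents (fun M => Iso.refl _) (fun f => by
    simp only [Iso.refl_hom, Category.comp_id, Category.id_comp]
    rfl)

/-- `C(g_*) ⋙ C(Γ_Y) ≅ C(Γ_X)`. -/
noncomputable def cxΓIso :
    (Scheme.Modules.pushforward g).mapHomologicalComplex (ComplexShape.up ℤ) ⋙
      (DCoh.gammaAb Y).mapHomologicalComplex (ComplexShape.up ℤ) ≅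
    (DCoh.gammaAb X).mapHomologicalComplex (ComplexShape.up ℤ) :=
  NatIso.ofComponents
    (fun K => (NatIso.mapHomologicalComplex (gammaPushIso' g) (ComplexShape.up ℤ)).app K)
    (fun φ => (NatIso.mapHomologicalComplex (gammaPushIso' g)
      (ComplexShape.up ℤ)).hom.naturality φ)

/-- The functor of which both `Rg_* ⋙ RΓ_Y` and `RΓ_X` are right derived functors. -/
noncomputable abbrev F₀ : CochainComplex X.Modules ℤ ⥤ DerivedCategory AddCommGrpCat.{u} :=
  (Scheme.Modules.pushforward g).mapHomologicalComplex (ComplexShape.up ℤ) ⋙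
    ((DCoh.gammaAb Y).mapHomologicalComplex (ComplexShape.up ℤ) ⋙ DerivedCategory.Q)

noncomputable def α₁ : F₀ g ⟶ DerivedCategory.Q ⋙ (DCoh.Rpush g ⋙ DCoh.RΓ Y) :=
  Functor.whiskerLeft _ (uΓ Y) ≫ (Functor.associator _ _ _).inv ≫
    Functor.whiskerRight (uC g) (DCoh.RΓ Y) ≫ (Functor.associator _ _ _).hom

noncomputable def α₂ : F₀ g ⟶ DerivedCategory.Q ⋙ DCoh.RΓ X :=
  (Functor.associator _ _ _).inv ≫ Functor.whiskerRight (cxΓIso g).hom DerivedCategory.Q ≫ uΓ X

theorem inverts_F₀ : (HomologicalComplex.homotopyEquivalences X.Modules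
    (ComplexShape.up ℤ)).IsInvertedBy (F₀ g) := by
  rintro K L _ ⟨e, rfl⟩
  exact inverts_map_Q (DCoh.gammaAb Y) _
    ⟨(Scheme.Modules.pushforward g).mapHomotopyEquiv e, rfl⟩

instance isRightDerivedFunctor_α₁ : (DCoh.Rpush g ⋙ DCoh.RΓ Y).IsRightDerivedFunctor (α₁ g)
    (HomologicalComplex.quasiIso X.Modules (ComplexShape.up ℤ)) := by
  refine isRightDerivedFunctor_of_isIso (F₀ g) (inverts_F₀ g) (α₁ g) (fun I hI => ?_)
  haveI := hI
  haveI := isIso_uC_app g I
  haveI := isIso_uΓ_app_of (((Scheme.Modules.pushforward g).mapHomologicalComplex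
    (ComplexShape.up ℤ)).obj I) (isIso_unit_pushforward g I)
  simp only [α₁, NatTrans.comp_app, Functor.whiskerLeft_app, Functor.associator_inv_app,
    Functor.whiskerRight_app, Functor.associator_hom_app, Category.id_comp, Category.comp_id]
  infer_instance

instance isRightDerivedFunctor_α₂ : (DCoh.RΓ X).IsRightDerivedFunctor (α₂ g)
    (HomologicalComplex.quasiIso X.Modules (ComplexShape.up ℤ)) := by
  refine isRightDerivedFunctor_of_isIso (F₀ g) (inverts_F₀ g) (α₂ g) (fun I hI => ?_)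
  haveI := hI
  haveI := isIso_uΓ_app X I
  simp only [α₂, NatTrans.comp_app, Functor.associator_inv_app,
    Functor.whiskerRight_app, Category.id_comp]
  infer_instance

/-- **`RΓ(Y, Rg_* -) ≅ RΓ(X, -)`**. -/
noncomputable def RΓRpushIso : DCoh.Rpush g ⋙ DCoh.RΓ Y ≅ DCoh.RΓ X :=
  Functor.rightDerivedUnique _ _ (α₁ g) (α₂ g)
    (HomologicalComplex.quasiIso X.Modules (ComplexShape.up ℤ))

end Comp

end Scheme

section Restrict

variable {X Y : Scheme.{u}} (f : X ⟶ Y) (V : Y.Opens)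
  [DCoh.HasRpush f] [DCoh.HasRΓ (V : Scheme.{u})] [DCoh.HasRΓ (f ⁻¹ᵁ V : Scheme.{u})]
  [PreservesFiniteLimits (Scheme.Modules.restrictFunctor V.ι)]
  [PreservesFiniteLimits (Scheme.Modules.restrictFunctor (f ⁻¹ᵁ V).ι)]

/-- `RΓ(f⁻¹V, E|_{f⁻¹V}) ≅ RΓ(V, (Rf_* E)|_V)`. -/
noncomputable def restrictRΓIso :
    DCoh.restrictD (f ⁻¹ᵁ V).ι ⋙ DCoh.RΓ (f ⁻¹ᵁ V : Scheme.{u}) ≅
      DCoh.Rpush f ⋙ DCoh.restrictD V.ι ⋙ DCoh.RΓ (V : Scheme.{u}) :=
  haveI : DCoh.HasRpush (f ∣_ V) := Groth.Agent.H31.RpushSupport.hasRpush _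
  Functor.isoWhiskerLeft _ (RΓRpushIso (f ∣_ V)).symm ≪≫ (Functor.associator _ _ _).symm ≪≫
    Functor.isoWhiskerRight (Groth.Agent.H31.RpushRestrict.restrictRpushIso f V).symm _ ≪≫
      Functor.associator _ _ _

end Restrict

end Groth.Agent.H6.GammaPush
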