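import Groth.Prelude.Def_CohDer
import Mathlib.CategoryTheory.Triangulated.Pretriangulated
import Mathlib.CategoryTheory.Triangulated.TriangleShift
import Mathlib.CategoryTheory.Adjunction.Additive

/-!
# Generating families (`CohDer.Generates`): isomorphism criterion

`isIso_of_generates`: if `S` generates and `t : L ⟶ X` induces bijections on
`Hom((S a)⟦m⟧, -)` for all `a`, `m`, then `t` is an isomorphism.
-/

set_option autoImplicit false
universe w v u
open CategoryTheory CategoryTheory.Limits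

namespace Groth.Agent.H6

open Pretriangulated

variable {D : Type u} [Category.{v} D] [Preadditive D] [HasZeroObject D] [HasShift D ℤ]
  [∀ n : ℤ, (shiftFunctor D n).Additive] [Pretriangulated D]

lemma isIso_of_generates {ι : Type w} (S : ι → D) (hS : CohDer.Generates S) {L X : D} (t : L ⟶ X)
    (hsurj : ∀ (a : ι) (m : ℤ) (φ : (shiftFunctor D m).obj (S a) ⟶ X),
      ∃ ψ : (shiftFunctor D m).obj (S a) ⟶ L, ψ ≫ t = φ)
    (hinj : ∀ (a : ι) (m : ℤ) (ψ : (shiftFunctor D m).obj (S a) ⟶ L), ψ ≫ t = 0 → ψ = 0) :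
    IsIso t := by
  obtain ⟨Z, α, β, hTZ⟩ := distinguished_cocone_triangle t
  have hZ : IsZero Z := by
    apply hS
    intro a n g
    let adjn : shiftFunctor D (-n) ⊣ shiftFunctor D n :=
      (shiftEquiv' D (-n) n (by simp)).toAdjunction
    suffices h : (adjn.homEquiv _ _).symm g = 0 by
      have h' := congrArg (adjn.homEquiv _ _) h
      rw [Equiv.apply_symm_apply] at h'
      rw [h']
      exact map_zero (adjn.homAddEquiv _ _)
    have hβ : (adjn.homEquiv _ _).symm g ≫ β = 0 := by
      let adj1 : shiftFunctor D (-1 : ℤ) ⊣ shiftFunctor D (1 : ℤ) :=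
        (shiftEquiv' D (-1 : ℤ) 1 (by norm_num)).toAdjunction
      have h31 : β ≫ (shiftFunctor D (1 : ℤ)).map t = 0 := comp_distTriang_mor_zero₃₁ _ hTZ
      have hu : (adj1.homEquiv _ _).symm ((adjn.homEquiv _ _).symm g ≫ β) ≫ t = 0 := by
        rw [← Adjunction.homEquiv_naturality_right_symm, Category.assoc, h31, Limits.comp_zero]
        exact map_zero (adj1.homAddEquiv _ _).symm
      have hu' : ((shiftFunctorAdd D (-n) (-1)).app (S a)).hom ≫
          (adj1.homEquiv _ _).symm ((adjn.homEquiv _ _).symm g ≫ β) = 0 :=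
        hinj a (-n + -1) _ (by rw [Category.assoc, hu, Limits.comp_zero])
      have hu'' : (adj1.homEquiv _ _).symm ((adjn.homEquiv _ _).symm g ≫ β) = 0 := by
        rw [← cancel_epi ((shiftFunctorAdd D (-n) (-1)).app (S a)).hom, hu', Limits.comp_zero]
      have h' := congrArg (adj1.homEquiv _ _) hu''
      rw [Equiv.apply_symm_apply] at h'
      rw [h']
      exact map_zero (adj1.homAddEquiv _ _)
    obtain ⟨(g'' : (shiftFunctor D (-n)).obj (S a) ⟶ X), hg''⟩ :=
      Triangle.coyoneda_exact₃ _ hTZ _ hβ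
    replace hg'' : (adjn.homEquiv _ _).symm g = g'' ≫ α := hg''
    obtain ⟨ψ, hψ⟩ := hsurj a (-n) g''
    have htα : t ≫ α = 0 := comp_distTriang_mor_zero₁₂ _ hTZ
    rw [hg'', ← hψ, Category.assoc, htα, Limits.comp_zero]
  exact (Triangle.isZero₃_iff_isIso₁ _ hTZ).1 hZ

end Groth.Agent.H6
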