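import Mathlib
import Groth.Agent.H6.ModCoprod
import Groth.Agent.S7015

/-!
# Dualizable graded modules

In the monoidal category of `ℤ`-graded `R`-modules, if `X` has a (left) dual `Y` (exact pairing),
then `X n` is a finitely generated projective module for all `n` and zero for almost all `n`.
-/

set_option autoImplicit false
universe u
open CategoryTheory MonoidalCategory Limits

namespace Groth.Agent.H6.GradedDual

section GenPrj

variable {D : Type*} [Category D] [HasZeroMorphisms D] {ι : Type*} [DecidableEq ι] {Z : ι → D}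
  (c : Cofan Z) (hc : IsColimit c)

/-- Projection from the point of a colimit cofan to a factor. -/
noncomputable def gprj (j : ι) : c.pt ⟶ Z j :=
  Cofan.IsColimit.desc hc (fun i => if h : i = j then eqToHom (by rw [h]) else 0)

lemma inj_gprj_self (j : ι) : c.inj j ≫ gprj c hc j = 𝟙 _ := by
  rw [gprj, Cofan.IsColimit.fac, dif_pos rfl]
  rfl

lemma inj_gprj_ne (i j : ι) (h : i ≠ j) : c.inj i ≫ gprj c hc j = 0 := by
  rw [gprj, Cofan.IsColimit.fac, dif_neg h]

end GenPrj

section FinSupp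

variable {R : Type u} [Ring R] {ι : Type} [DecidableEq ι] {Z : ι → ModuleCat.{u} R}
  (c : Cofan Z) (hc : IsColimit c)

/-- A map from a finitely generated module to a coproduct (over a small index type) has only
finitely many nonzero components. -/
lemma exists_finset (N : ModuleCat.{u} R) [Module.Finite R N] (ψ : N ⟶ c.pt) :
    ∃ s : Finset ι, ∀ j, j ∉ s → ψ ≫ gprj c hc j = 0 := by
  classical
  let c' : Cofan (fun i : ULift.{u} ι => Z i.down) := Cofan.mk c.pt (fun i => c.inj i.down)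
  have hc' : IsColimit c' :=
    Cofan.IsColimit.mk _ (fun t => Cofan.IsColimit.desc hc (fun n => t.inj ⟨n⟩))
      (fun t i => Cofan.IsColimit.fac hc (fun n => t.inj ⟨n⟩) i.down)
      (fun t m hm => Cofan.IsColimit.hom_ext hc _ _ (fun n => by
        rw [Cofan.IsColimit.fac]
        exact hm ⟨n⟩))
  obtain ⟨s, hs⟩ := ModCoprod.exists_finset_of_fg c' hc' (fun i => gprj c hc i.down)
    (fun i => inj_gprj_self c hc i.down)
    (fun i j hij => inj_gprj_ne c hc i.down j.down (fun h => hij (ULift.ext _ _ h))) N ψ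
  exact ⟨s.image ULift.down, fun j hj =>
    hs ⟨j⟩ (fun h => hj (Finset.mem_image.2 ⟨⟨j⟩, h, rfl⟩))⟩

end FinSupp

section HalfPairing

variable {R : Type u} [CommRing R]

/-- One triangle identity suffices for finite projectivity. -/
lemma fp_of_half_pairing (A B : ModuleCat.{u} R) (τ : 𝟙_ (ModuleCat.{u} R) ⟶ A ⊗ B)
    (e : B ⊗ A ⟶ 𝟙_ (ModuleCat.{u} R))
    (I : (λ_ A).inv ≫ (τ ▷ A) ≫ (α_ A B A).hom ≫ (A ◁ e) ≫ (ρ_ A).hom = 𝟙 A) :
    Module.Finite R A ∧ Module.Projective R A := by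
  have I' : (τ ▷ A) ≫ (α_ A B A).hom ≫ (A ◁ e) = (λ_ A).hom ≫ (ρ_ A).inv := by
    calc (τ ▷ A) ≫ (α_ A B A).hom ≫ (A ◁ e)
        = (λ_ A).hom ≫ ((λ_ A).inv ≫ (τ ▷ A) ≫ (α_ A B A).hom ≫ (A ◁ e) ≫ (ρ_ A).hom) ≫
            (ρ_ A).inv := by
          simp only [Category.assoc, Iso.hom_inv_id, Category.comp_id, Iso.hom_inv_id_assoc]
      _ = _ := by rw [I, Category.id_comp]
  refine Groth.Agent.S7015.finite_projective_left (R := R) (M := A) (N := B) (τ.hom (1 : R))
    e.hom ?_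
  intro m
  have h' := congrArg (fun φ => (ModuleCat.Hom.hom φ) (TensorProduct.tmul R (1 : R) m)) I'
  have h'' : (e.hom.lTensor A) (TensorProduct.assoc R A B A
      (TensorProduct.tmul R (τ.hom (1 : R)) m)) =
      (TensorProduct.rid R A).symm (TensorProduct.lid R A (TensorProduct.tmul R (1 : R) m)) := h'
  rw [h'']
  simp

end HalfPairing

section Main

variable {R : Type u} [CommRing R]

variable (R) in
/-- The unit graded module. -/
noncomputable abbrev gU : GradedObject ℤ (ModuleCat.{u} R) := GradedObject.Monoidal.tensorUnit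

variable (R) in
/-- Degree zero of the unit. -/
noncomputable abbrev t0 : (gU R) 0 ≅ 𝟙_ (ModuleCat.{u} R) := GradedObject.Monoidal.tensorUnit₀

variable (X Y : GradedObject ℤ (ModuleCat.{u} R))

/-- The bigraded object `X i ⊗ Y j`. -/
noncomputable abbrev W : GradedObject (ℤ × ℤ) (ModuleCat.{u} R) :=
  ((GradedObject.mapBifunctor (curriedTensor (ModuleCat.{u} R)) ℤ ℤ).obj X).obj Y

/-- The cofan defining `(X ⊗ Y) 0`. -/
noncomputable abbrev cof : Cofan ((W X Y).mapObjFun (fun ⟨i, j⟩ => i + j) (0 : ℤ)) :=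
  (W X Y).cofanMapObj (fun ⟨i, j⟩ => i + j) 0

/-- It is a colimit. -/
noncomputable def hcof : IsColimit (cof X Y) := (W X Y).isColimitCofanMapObj _ 0

/-- Projection of `(X ⊗ Y) 0` to `X i ⊗ Y j`. -/
noncomputable def prjT (i j : ℤ) (h : i + j = 0) :
    GradedObject.Monoidal.tensorObj X Y 0 ⟶ X i ⊗ Y j :=
  gprj (cof X Y) (hcof X Y) ⟨(i, j), h⟩

lemma ι_prjT_self (i j : ℤ) (h : i + j = 0) :
    GradedObject.Monoidal.ιTensorObj X Y i j 0 h ≫ prjT X Y i j h = 𝟙 _ :=
  inj_gprj_self (cof X Y) (hcof X Y) ⟨(i, j), h⟩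

lemma ι_prjT_ne (i j : ℤ) (h : i + j = 0) (i' j' : ℤ) (h' : i' + j' = 0)
    (hne : (i, j) ≠ (i', j')) :
    GradedObject.Monoidal.ιTensorObj X Y i j 0 h ≫ prjT X Y i' j' h' = 0 :=
  inj_gprj_ne (cof X Y) (hcof X Y) ⟨(i, j), h⟩ ⟨(i', j'), h'⟩
    (fun e => hne (congrArg Subtype.val e))

lemma hom_ext_tR (A B : ModuleCat.{u} R)
    (f g : GradedObject.Monoidal.tensorObj X Y 0 ⊗ A ⟶ B)
    (h : ∀ (i j : ℤ) (hij : i + j = 0),
      (GradedObject.Monoidal.ιTensorObj X Y i j 0 hij ▷ A) ≫ f =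
        (GradedObject.Monoidal.ιTensorObj X Y i j 0 hij ▷ A) ≫ g) : f = g := by
  have hc := isColimitOfPreserves (tensorRight A) (hcof X Y)
  refine hc.hom_ext ?_
  rintro ⟨⟨⟨i, j⟩, hij⟩⟩
  exact h i j hij

lemma exists_finset_prjT (N : ModuleCat.{u} R) [Module.Finite R N]
    (ψ : N ⟶ GradedObject.Monoidal.tensorObj X Y 0) :
    ∃ S : Finset ℤ, ∀ n, n ∉ S → ψ ≫ prjT X Y n (-n) (add_neg_cancel n) = 0 := by
  classical
  obtain ⟨s, hs⟩ := exists_finset (cof X Y) (hcof X Y) N ψ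
  exact ⟨s.image (fun j => j.1.1), fun n hn =>
    hs ⟨(n, -n), add_neg_cancel n⟩ (fun h => hn (Finset.mem_image.2 ⟨_, h, rfl⟩))⟩

lemma ι_rightUnitor_hom (n : ℤ) :
    GradedObject.Monoidal.ιTensorObj X (gU R) n 0 n (add_zero n) ≫
      (GradedObject.Monoidal.rightUnitor X).hom n =
      (X n ◁ (t0 R).hom) ≫ (ρ_ (X n)).hom := by
  have hinv := GradedObject.Monoidal.rightUnitor_inv_apply X n
  have h1 : (GradedObject.Monoidal.rightUnitor X).inv n ≫
      (GradedObject.Monoidal.rightUnitor X).hom n = 𝟙 _ :=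
    congrFun (GradedObject.Monoidal.rightUnitor X).inv_hom_id n
  rw [hinv] at h1
  simp only [Category.assoc] at h1
  calc GradedObject.Monoidal.ιTensorObj X (gU R) n 0 n (add_zero n) ≫
        (GradedObject.Monoidal.rightUnitor X).hom n
      = (X n ◁ (t0 R).hom) ≫ (ρ_ (X n)).hom ≫ ((ρ_ (X n)).inv ≫ X n ◁ (t0 R).inv ≫
          GradedObject.Monoidal.ιTensorObj X (gU R) n 0 n (add_zero n) ≫
            (GradedObject.Monoidal.rightUnitor X).hom n) := by
        simp only [Iso.hom_inv_id_assoc, whiskerLeft_hom_inv_assoc]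
    _ = _ := by rw [h1, Category.comp_id]

variable {X Y}
variable (η : gU R ⟶ GradedObject.Monoidal.tensorObj X Y)
  (ε : GradedObject.Monoidal.tensorObj Y X ⟶ gU R)

/-- The map `Ψ_n : (X ⊗ Y)_0 ⊗ X_n ⟶ X_n`. -/
noncomputable def Psi (n : ℤ) : GradedObject.Monoidal.tensorObj X Y 0 ⊗ X n ⟶ X n :=
  GradedObject.Monoidal.ιTensorObj (GradedObject.Monoidal.tensorObj X Y) X 0 n n (zero_add n) ≫
    (GradedObject.Monoidal.associator X Y X).hom n ≫
      GradedObject.Monoidal.tensorHom (𝟙 X) ε n ≫ (GradedObject.Monoidal.rightUnitor X).hom n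

lemma whisker_ι_comp_Psi_of_ne (n i j : ℤ) (hij : i + j = 0) (hne : j + n ≠ 0) :
    (GradedObject.Monoidal.ιTensorObj X Y i j 0 hij ▷ X n) ≫ Psi ε n = 0 := by
  have h3 : i + j + n = n := by rw [hij, zero_add]
  have e1 : (GradedObject.Monoidal.ιTensorObj X Y i j 0 hij ▷ X n) ≫
      GradedObject.Monoidal.ιTensorObj (GradedObject.Monoidal.tensorObj X Y) X 0 n n
        (zero_add n) = GradedObject.Monoidal.ιTensorObj₃' X Y X i j n n h3 :=
    (GradedObject.Monoidal.ιTensorObj₃'_eq X Y X i j n n h3 0 hij).symm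
  have hε : ε (j + n) = 0 :=
    (GradedObject.Monoidal.isInitialTensorUnitApply (C := ModuleCat.{u} R)
      (j + n) hne).isZero.eq_of_tgt _ _
  unfold Psi
  rw [reassoc_of% e1, GradedObject.Monoidal.ιTensorObj₃'_associator_hom_assoc,
    GradedObject.Monoidal.ιTensorObj₃_eq X Y X i j n n h3 (j + n) rfl, Category.assoc,
    GradedObject.Monoidal.ι_tensorHom_assoc, hε]
  simp

lemma whisker_ι_comp_Psi_self (n : ℤ) :
    (GradedObject.Monoidal.ιTensorObj X Y n (-n) 0 (add_neg_cancel n) ▷ X n) ≫ Psi ε n =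
      (α_ (X n) (Y (-n)) (X n)).hom ≫
        (X n ◁ (GradedObject.Monoidal.ιTensorObj Y X (-n) n 0 (neg_add_cancel n) ≫ ε 0 ≫
          (t0 R).hom)) ≫ (ρ_ (X n)).hom := by
  have h3 : n + -n + n = n := by rw [add_neg_cancel, zero_add]
  have e1 : (GradedObject.Monoidal.ιTensorObj X Y n (-n) 0 (add_neg_cancel n) ▷ X n) ≫
      GradedObject.Monoidal.ιTensorObj (GradedObject.Monoidal.tensorObj X Y) X 0 n n
        (zero_add n) = GradedObject.Monoidal.ιTensorObj₃' X Y X n (-n) n n h3 :=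
    (GradedObject.Monoidal.ιTensorObj₃'_eq X Y X n (-n) n n h3 0 (add_neg_cancel n)).symm
  have e2 : ((𝟙 X : X ⟶ X) n ⊗ₘ ε 0) = X n ◁ ε 0 := id_tensorHom (X n) (ε 0)
  unfold Psi
  rw [reassoc_of% e1, GradedObject.Monoidal.ιTensorObj₃'_associator_hom_assoc,
    GradedObject.Monoidal.ιTensorObj₃_eq X Y X n (-n) n n h3 0 (neg_add_cancel n),
    Category.assoc, GradedObject.Monoidal.ι_tensorHom_assoc, ι_rightUnitor_hom, e2]
  simp only [MonoidalCategory.whiskerLeft_comp, Category.assoc]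

theorem core (n : ℤ)
    (H : (GradedObject.Monoidal.leftUnitor X).inv n ≫
      GradedObject.Monoidal.tensorHom η (𝟙 X) n ≫
      (GradedObject.Monoidal.associator X Y X).hom n ≫
      GradedObject.Monoidal.tensorHom (𝟙 X) ε n ≫
      (GradedObject.Monoidal.rightUnitor X).hom n = 𝟙 (X n)) :
    (λ_ (X n)).inv ≫ (((t0 R).inv ≫ η 0 ≫ prjT X Y n (-n) (add_neg_cancel n)) ▷ X n) ≫
      (α_ (X n) (Y (-n)) (X n)).hom ≫
        (X n ◁ (GradedObject.Monoidal.ιTensorObj Y X (-n) n 0 (neg_add_cancel n) ≫ ε 0 ≫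
          (t0 R).hom)) ≫ (ρ_ (X n)).hom = 𝟙 (X n) := by
  have H1 : (λ_ (X n)).inv ≫ ((t0 R).inv ▷ X n) ≫ (η 0 ▷ X n) ≫ Psi ε n = 𝟙 (X n) := by
    have e2 : (η 0 ⊗ₘ (𝟙 X : X ⟶ X) n) = η 0 ▷ X n := tensorHom_id (η 0) (X n)
    rw [← H, GradedObject.Monoidal.leftUnitor_inv_apply]
    unfold Psi
    simp only [Category.assoc]
    rw [GradedObject.Monoidal.ι_tensorHom_assoc, e2]
  have H2 : Psi ε n = ((prjT X Y n (-n) (add_neg_cancel n) ≫
      GradedObject.Monoidal.ιTensorObj X Y n (-n) 0 (add_neg_cancel n)) ▷ X n) ≫ Psi ε n := by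
    apply hom_ext_tR X Y
    intro i j hij
    by_cases hc : (i, j) = (n, -n)
    · obtain ⟨hi, hj⟩ := Prod.mk.inj hc
      subst hi
      subst hj
      rw [← comp_whiskerRight_assoc, ← Category.assoc
        (GradedObject.Monoidal.ιTensorObj X Y i (-i) 0 hij), ι_prjT_self, Category.id_comp]
    · have hne : j + n ≠ 0 := by
        intro h0
        apply hc
        have hj : j = -n := by linarith
        have hi : i = n := by linarith
        rw [hi, hj]
      rw [whisker_ι_comp_Psi_of_ne ε n i j hij hne, ← comp_whiskerRight_assoc,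
        ← Category.assoc (GradedObject.Monoidal.ιTensorObj X Y i j 0 hij),
        ι_prjT_ne X Y i j hij n (-n) _ hc, zero_comp, MonoidalPreadditive.zero_whiskerRight,
        zero_comp]
  rw [H2] at H1
  refine Eq.trans ?_ H1
  simp only [comp_whiskerRight, Category.assoc]
  rw [whisker_ι_comp_Psi_self]

end Main

section Final

variable {R : Type u} [CommRing R]

/-- In the category of graded modules, an object with a dual is termwise finite projective
and has finite support. -/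
theorem main (X Y : GradedObject ℤ (ModuleCat.{u} R)) [ExactPairing X Y] :
    (∃ S : Finset ℤ, ∀ n, n ∉ S → IsZero (X n)) ∧
      ∀ n, Module.Finite R (X n) ∧ Module.Projective R (X n) := by
  let η : gU R ⟶ GradedObject.Monoidal.tensorObj X Y := η_ X Y
  let ε : GradedObject.Monoidal.tensorObj Y X ⟶ gU R := ε_ X Y
  have H : ∀ n, (GradedObject.Monoidal.leftUnitor X).inv n ≫
      GradedObject.Monoidal.tensorHom η (𝟙 X) n ≫
      (GradedObject.Monoidal.associator X Y X).hom n ≫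
      GradedObject.Monoidal.tensorHom (𝟙 X) ε n ≫
      (GradedObject.Monoidal.rightUnitor X).hom n = 𝟙 (X n) := by
    intro n
    have E0 := ExactPairing.evaluation_coevaluation X Y
    have E : (λ_ X).inv ≫ η_ X Y ▷ X ≫ (α_ X Y X).hom ≫ X ◁ ε_ X Y ≫ (ρ_ X).hom = 𝟙 X := by
      calc (λ_ X).inv ≫ η_ X Y ▷ X ≫ (α_ X Y X).hom ≫ X ◁ ε_ X Y ≫ (ρ_ X).hom
          = (λ_ X).inv ≫ (η_ X Y ▷ X ≫ (α_ X Y X).hom ≫ X ◁ ε_ X Y) ≫ (ρ_ X).hom := by
            simp only [Category.assoc]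
        _ = _ := by
            rw [E0]
            simp only [Category.assoc, Iso.inv_hom_id, Category.comp_id, Iso.inv_hom_id_assoc]
    exact congrFun E n
  haveI : Module.Finite R (𝟙_ (ModuleCat.{u} R) : ModuleCat.{u} R) :=
    (inferInstance : Module.Finite R R)
  obtain ⟨S, hS⟩ := exists_finset_prjT X Y (𝟙_ (ModuleCat.{u} R)) ((t0 R).inv ≫ η 0)
  refine ⟨⟨S, fun n hn => ?_⟩, fun n => ?_⟩
  · have I := core η ε n (H n)
    have hz : (t0 R).inv ≫ η 0 ≫ prjT X Y n (-n) (add_neg_cancel n) = 0 :=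
      (Category.assoc _ _ _).symm.trans (hS n hn)
    rw [hz] at I
    rw [IsZero.iff_id_eq_zero, ← I]
    simp
  · exact fp_of_half_pairing _ _ _ _ (core η ε n (H n))

end Final

end Groth.Agent.H6.GradedDual
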