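import Mathlib

/-!
# Homology of a colimit of complexes along an exact colimit shape (helper6 library)

If colimits of shape `J` are exact in the abelian category `A` (e.g. `J = Discrete ℕ` in a
Grothendieck abelian category), then for a colimit cocone `s` of `E : J ⥤ HomologicalComplex A c`
the maps `H^p(E j) ⟶ H^p(s.pt)` are jointly epimorphic.

* `homologyMap_jointly_epi E s hs p f g h : f = g`.
* `homologyMap_eq_zero_of_comp E s hs p f h : f = 0`.
-/

set_option autoImplicit false
universe v u
open CategoryTheory CategoryTheory.Limits HomologicalComplex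

namespace Groth.Agent.H6.HomologyCoprod

variable {A : Type u} [Category.{v} A] [Abelian A] {J : Type*} [Category J]
  [HasColimitsOfShape J A] [HasExactColimitsOfShape J A]
  {ι : Type*} {c : ComplexShape ι}

/-- the colimit coprojection as a natural transformation `ev_j ⟶ colim` -/
noncomputable def τ (j : J) : (evaluation J A).obj j ⟶ (colim : (J ⥤ A) ⥤ A) where
  app G := colimit.ι G j
  naturality _ _ γ := (ι_colimMap γ j).symm

theorem homologyMap_jointly_epi_aux (E : J ⥤ HomologicalComplex A c) (s : Cocone E)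
    (hs : IsColimit s) (p : ι) {T : A} (f g : (s.pt.sc p).homology ⟶ T)
    (h : ∀ j, ShortComplex.homologyMap ((shortComplexFunctor A c p).map (s.ι.app j)) ≫ f =
      ShortComplex.homologyMap ((shortComplexFunctor A c p).map (s.ι.app j)) ≫ g) : f = g := by
  let α : E ⋙ eval A c (c.prev p) ⟶ E ⋙ eval A c p :=
    { app := fun j => (E.obj j).d (c.prev p) p
      naturality := fun _ _ f => (E.map f).comm (c.prev p) p }
  let β : E ⋙ eval A c p ⟶ E ⋙ eval A c (c.next p) :=
    { app := fun j => (E.obj j).d p (c.next p)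
      naturality := fun _ _ f => (E.map f).comm p (c.next p) }
  let SJ : ShortComplex (J ⥤ A) := ShortComplex.mk α β (by
    ext j
    exact (E.obj j).d_comp_d _ _ _)
  have h1 := isColimitOfPreserves (eval A c (c.prev p)) hs
  have h2 := isColimitOfPreserves (eval A c p) hs
  have h3 := isColimitOfPreserves (eval A c (c.next p)) hs
  let e1 := IsColimit.coconePointUniqueUpToIso (colimit.isColimit _) h1
  let e2 := IsColimit.coconePointUniqueUpToIso (colimit.isColimit _) h2
  let e3 := IsColimit.coconePointUniqueUpToIso (colimit.isColimit _) h3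
  have a1 : ∀ j, colimit.ι (E ⋙ eval A c (c.prev p)) j ≫ e1.hom = (s.ι.app j).f (c.prev p) :=
    fun j => IsColimit.comp_coconePointUniqueUpToIso_hom (colimit.isColimit _) h1 j
  have a2 : ∀ j, colimit.ι (E ⋙ eval A c p) j ≫ e2.hom = (s.ι.app j).f p :=
    fun j => IsColimit.comp_coconePointUniqueUpToIso_hom (colimit.isColimit _) h2 j
  have a3 : ∀ j, colimit.ι (E ⋙ eval A c (c.next p)) j ≫ e3.hom = (s.ι.app j).f (c.next p) :=
    fun j => IsColimit.comp_coconePointUniqueUpToIso_hom (colimit.isColimit _) h3 j
  have c1 : e1.hom ≫ (s.pt.sc p).f = (SJ.map colim).f ≫ e2.hom := by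
    apply colimit.hom_ext
    intro j
    refine Eq.symm ?_
    have b1 : colimit.ι _ j ≫ colimMap α = α.app j ≫ colimit.ι _ j := ι_colimMap α j
    show colimit.ι _ j ≫ colimMap α ≫ e2.hom = colimit.ι _ j ≫ e1.hom ≫ s.pt.d (c.prev p) p
    rw [reassoc_of% b1, a2]
    exact ((s.ι.app j).comm (c.prev p) p).symm.trans
      ((congrArg (fun x => x ≫ s.pt.d (c.prev p) p) (a1 j).symm).trans (Category.assoc _ _ _))
  have c2 : e2.hom ≫ (s.pt.sc p).g = (SJ.map colim).g ≫ e3.hom := by
    apply colimit.hom_ext
    intro j
    refine Eq.symm ?_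
    have b1 : colimit.ι _ j ≫ colimMap β = β.app j ≫ colimit.ι _ j := ι_colimMap β j
    show colimit.ι _ j ≫ colimMap β ≫ e3.hom = colimit.ι _ j ≫ e2.hom ≫ s.pt.d p (c.next p)
    rw [reassoc_of% b1, a3]
    exact ((s.ι.app j).comm p (c.next p)).symm.trans
      ((congrArg (fun x => x ≫ s.pt.d p (c.next p)) (a2 j).symm).trans (Category.assoc _ _ _))
  let eS : SJ.map colim ≅ s.pt.sc p := ShortComplex.isoMk e1 e2 e3 c1 c2
  have : ∀ j : J, PreservesFiniteLimits ((evaluation J A).obj j) :=
    fun j => ⟨fun _ _ _ => inferInstance⟩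
  have : ∀ j : J, PreservesFiniteColimits ((evaluation J A).obj j) :=
    fun j => ⟨fun _ _ _ => inferInstance⟩
  -- the key compatibility
  have key : ∀ j, colimit.ι SJ.homology j ≫ (SJ.mapHomologyIso colim).inv ≫
      ShortComplex.homologyMap eS.hom =
      (SJ.mapHomologyIso ((evaluation J A).obj j)).inv ≫
        ShortComplex.homologyMap ((shortComplexFunctor A c p).map (s.ι.app j)) := by
    intro j
    have e := NatTrans.app_homology (τ j) SJ
    have e' : colimit.ι SJ.homology j ≫ (SJ.mapHomologyIso colim).inv =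
        (SJ.mapHomologyIso ((evaluation J A).obj j)).inv ≫
          ShortComplex.homologyMap (SJ.mapNatTrans (τ j)) := by
      have e0 : colimit.ι SJ.homology j = (τ j).app SJ.homology := rfl
      rw [e0, e]
      simp only [Category.assoc, Iso.hom_inv_id, Category.comp_id]
    have hm : SJ.mapNatTrans (τ j) ≫ eS.hom = (shortComplexFunctor A c p).map (s.ι.app j) := by
      apply ShortComplex.hom_ext
      · exact a1 j
      · exact a2 j
      · exact a3 j
    rw [reassoc_of% e', ← ShortComplex.homologyMap_comp, hm]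
    rfl
  have hiso : IsIso (ShortComplex.homologyMap eS.hom) := inferInstance
  have main : (SJ.mapHomologyIso colim).inv ≫ ShortComplex.homologyMap eS.hom ≫ f =
      (SJ.mapHomologyIso colim).inv ≫ ShortComplex.homologyMap eS.hom ≫ g := by
    refine colimit.hom_ext (fun j => ?_)
    have k := key j
    have kk : ∀ (x : (s.pt.sc p).homology ⟶ T),
        colimit.ι SJ.homology j ≫ (SJ.mapHomologyIso colim).inv ≫
          ShortComplex.homologyMap eS.hom ≫ x =
        (SJ.mapHomologyIso ((evaluation J A).obj j)).inv ≫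
          (ShortComplex.homologyMap ((shortComplexFunctor A c p).map (s.ι.app j)) ≫ x) := by
      intro x
      have := congrArg (fun y => y ≫ x) k
      exact ((Category.assoc _ _ _).trans (congrArg (fun y => _ ≫ y) (Category.assoc _ _ _))).symm.trans
        (this.trans (Category.assoc _ _ _))
    exact (kk f).trans ((congrArg (fun y => (SJ.mapHomologyIso ((evaluation J A).obj j)).inv ≫ y)
      (h j)).trans (kk g).symm)
  exact (cancel_epi (ShortComplex.homologyMap eS.hom)).1
    ((cancel_epi (SJ.mapHomologyIso colim).inv).1 main)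

theorem homologyMap_jointly_epi (E : J ⥤ HomologicalComplex A c) (s : Cocone E)
    (hs : IsColimit s) (p : ι) {T : A} (f g : s.pt.homology p ⟶ T)
    (h : ∀ j, homologyMap (s.ι.app j) p ≫ f = homologyMap (s.ι.app j) p ≫ g) : f = g :=
  homologyMap_jointly_epi_aux E s hs p f g h

theorem homologyMap_eq_zero_of_comp (E : J ⥤ HomologicalComplex A c) (s : Cocone E)
    (hs : IsColimit s) (p : ι) {T : A} (f : s.pt.homology p ⟶ T)
    (h : ∀ j, homologyMap (s.ι.app j) p ≫ f = 0) : f = 0 :=
  homologyMap_jointly_epi E s hs p f 0 (fun j => by rw [h j, comp_zero])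

end Groth.Agent.H6.HomologyCoprod
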