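import Mathlib
import Groth.Agent.H28.K0Derived

/-!
# Transfer of `K₀` of a triangulated subcategory along a fully faithful triangulated functor
(helper6)

`T : C ⥤ D` triangulated, full and faithful, `P` on `C`, `Q` on `D` with `Q (T X) ↔ P X`, every
object of `Q` in the essential image of `T`, `Q` iso-invariant: `K0tr P ≃+ K0tr Q`,
`[X] ↦ [T X]`.
-/

set_option autoImplicit false
universe v₁ v₂ u₁ u₂

open CategoryTheory Limits Pretriangulated
open scoped ZeroObject
open Groth.Agent.H28.K0D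

namespace Groth.Agent.H6.K0Transfer

variable {C : Type u₁} [Category.{v₁} C] [Preadditive C] [HasZeroObject C] [HasShift C ℤ]
  [∀ n : ℤ, (shiftFunctor C n).Additive] [Pretriangulated C]
  {D : Type u₂} [Category.{v₂} D] [Preadditive D] [HasZeroObject D] [HasShift D ℤ]
  [∀ n : ℤ, (shiftFunctor D n).Additive] [Pretriangulated D]
  (T : C ⥤ D) [T.CommShift ℤ] [T.IsTriangulated] [T.Full] [T.Faithful]
  (P : ObjectProperty C) (Q : ObjectProperty D)
  (hPQ : ∀ X : C, Q (T.obj X) ↔ P X)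
  (hess : ∀ K : D, Q K → ∃ X : C, Nonempty (T.obj X ≅ K))
  (hQiso : ∀ {K K' : D}, (K ≅ K') → Q K → Q K')
  (hP0 : P (0 : C)) (hQ0 : Q (0 : D))

include hPQ in
/-- The forward map `[X] ↦ [T X]`. -/
noncomputable def fwd : KZero.K0tr P →+ KZero.K0tr Q :=
  QuotientAddGroup.lift (KZero.relTr P)
    (FreeAbelianGroup.lift (fun X : Subtype P => KZero.clTr Q (T.obj X.1)))
    (by
      rw [KZero.relTr, AddSubgroup.closure_le]
      rintro x ⟨Tr, h₁, h₂, h₃, hT, rfl⟩
      have h := clTr_rel Q (T.mapTriangle.obj Tr) (T.map_distinguished Tr hT)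
        ((hPQ _).2 h₁) ((hPQ _).2 h₂) ((hPQ _).2 h₃)
      change KZero.clTr Q (T.obj Tr.obj₂) =
        KZero.clTr Q (T.obj Tr.obj₁) + KZero.clTr Q (T.obj Tr.obj₃) at h
      simp only [SetLike.mem_coe, AddMonoidHom.mem_ker, map_sub, FreeAbelianGroup.lift_apply_of]
      rw [h]
      abel)

include hPQ in
theorem fwd_clTr {X : C} (hX : P X) :
    fwd T P Q hPQ (KZero.clTr P X) = KZero.clTr Q (T.obj X) := by
  rw [clTr_eq P hX]
  change (FreeAbelianGroup.lift (fun X : Subtype P => KZero.clTr Q (T.obj X.1)))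
    (FreeAbelianGroup.of ⟨X, hX⟩) = _
  rw [FreeAbelianGroup.lift_apply_of]

/-- A chosen preimage of an object of `Q`. -/
noncomputable def pre (K : Subtype Q) : C := (hess K.1 K.2).choose

noncomputable def preIso (K : Subtype Q) : T.obj (pre T Q hess K) ≅ K.1 :=
  (hess K.1 K.2).choose_spec.some

include hPQ hQiso in
theorem pre_mem (K : Subtype Q) : P (pre T Q hess K) :=
  (hPQ _).1 (hQiso (preIso T Q hess K).symm K.2)

include hPQ hQiso hP0 in
/-- The backward map `[K] ↦ [chosen preimage of K]`. -/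
noncomputable def bwd : KZero.K0tr Q →+ KZero.K0tr P :=
  QuotientAddGroup.lift (KZero.relTr Q)
    (FreeAbelianGroup.lift (fun K : Subtype Q => KZero.clTr P (pre T Q hess K)))
    (by
      rw [KZero.relTr, AddSubgroup.closure_le]
      rintro x ⟨Tr, h₁, h₂, h₃, hT, rfl⟩
      simp only [SetLike.mem_coe, AddMonoidHom.mem_ker, map_sub, FreeAbelianGroup.lift_apply_of]
      let X₁ := pre T Q hess ⟨Tr.obj₁, h₁⟩
      let X₂ := pre T Q hess ⟨Tr.obj₂, h₂⟩
      let X₃ := pre T Q hess ⟨Tr.obj₃, h₃⟩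
      let e₁ : T.obj X₁ ≅ Tr.obj₁ := preIso T Q hess ⟨Tr.obj₁, h₁⟩
      let e₂ : T.obj X₂ ≅ Tr.obj₂ := preIso T Q hess ⟨Tr.obj₂, h₂⟩
      let e₃ : T.obj X₃ ≅ Tr.obj₃ := preIso T Q hess ⟨Tr.obj₃, h₃⟩
      let g : X₁ ⟶ X₂ := T.preimage (e₁.hom ≫ Tr.mor₁ ≫ e₂.inv)
      obtain ⟨Z, f', h', hZ⟩ := distinguished_cocone_triangle g
      have hTZ := T.map_distinguished _ hZ
      have comm : (T.mapTriangle.obj (Triangle.mk g f' h')).mor₁ ≫ e₂.hom = e₁.hom ≫ Tr.mor₁ := by
        change T.map g ≫ e₂.hom = e₁.hom ≫ Tr.mor₁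
        simp [g]
      let eT := isoTriangleOfIso₁₂ _ _ hTZ hT e₁ e₂ comm
      let e₃' : T.obj Z ≅ Tr.obj₃ := Triangle.π₃.mapIso eT
      have hQZ : Q (T.obj Z) := hQiso e₃'.symm h₃
      have hPZ : P Z := (hPQ Z).1 hQZ
      let eZ : Z ≅ X₃ := T.preimageIso (e₃' ≪≫ e₃.symm)
      have hX₁ : P X₁ := pre_mem T P Q hPQ hess hQiso _
      have hX₂ : P X₂ := pre_mem T P Q hPQ hess hQiso _
      have hX₃ : P X₃ := pre_mem T P Q hPQ hess hQiso _
      have hrel := clTr_rel P (Triangle.mk g f' h') hZ hX₁ hX₂ hPZ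
      change KZero.clTr P X₂ = KZero.clTr P X₁ + KZero.clTr P Z at hrel
      have hiso := clTr_iso P eZ hPZ hX₃ hP0
      change KZero.clTr P X₂ - KZero.clTr P X₁ - KZero.clTr P X₃ = 0
      rw [hrel, hiso]
      abel)

include hPQ hQiso hP0 in
theorem bwd_mk (K : Subtype Q) :
    bwd T P Q hPQ hess hQiso hP0 (QuotientAddGroup.mk (FreeAbelianGroup.of K)) =
      KZero.clTr P (pre T Q hess K) := by
  change (FreeAbelianGroup.lift (fun K : Subtype Q => KZero.clTr P (pre T Q hess K)))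
    (FreeAbelianGroup.of K) = _
  rw [FreeAbelianGroup.lift_apply_of]

include hPQ hQiso hP0 in
theorem bwd_fwd (x : KZero.K0tr P) :
    bwd T P Q hPQ hess hQiso hP0 (fwd T P Q hPQ x) = x := by
  obtain ⟨z, rfl⟩ := QuotientAddGroup.mk_surjective x
  induction z using FreeAbelianGroup.induction_on with
  | zero => rw [QuotientAddGroup.mk_zero, map_zero, map_zero]
  | of X =>
    have h1 : fwd T P Q hPQ (QuotientAddGroup.mk (FreeAbelianGroup.of X)) =
        KZero.clTr Q (T.obj X.1) := by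
      rw [← clTr_eq P X.2]
      exact fwd_clTr T P Q hPQ X.2
    have hQX : Q (T.obj X.1) := (hPQ _).2 X.2
    rw [h1, clTr_eq Q hQX, bwd_mk]
    have e : pre T Q hess ⟨T.obj X.1, hQX⟩ ≅ X.1 :=
      T.preimageIso (preIso T Q hess ⟨T.obj X.1, hQX⟩)
    rw [clTr_iso P e (pre_mem T P Q hPQ hess hQiso _) X.2 hP0, clTr_eq P X.2]
  | neg X ih => rw [QuotientAddGroup.mk_neg, map_neg, map_neg, ih]
  | add x y hx hy => rw [QuotientAddGroup.mk_add, map_add, map_add, hx, hy]

include hPQ hQiso hP0 hQ0 in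
theorem fwd_bwd (y : KZero.K0tr Q) :
    fwd T P Q hPQ (bwd T P Q hPQ hess hQiso hP0 y) = y := by
  obtain ⟨z, rfl⟩ := QuotientAddGroup.mk_surjective y
  induction z using FreeAbelianGroup.induction_on with
  | zero => rw [QuotientAddGroup.mk_zero, map_zero, map_zero]
  | of K =>
    rw [bwd_mk, fwd_clTr T P Q hPQ (pre_mem T P Q hPQ hess hQiso K)]
    rw [clTr_iso Q (preIso T Q hess K) (hQiso (preIso T Q hess K).symm K.2) K.2 hQ0,
      clTr_eq Q K.2]
  | neg X ih => rw [QuotientAddGroup.mk_neg, map_neg, map_neg, ih]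
  | add x y hx hy => rw [QuotientAddGroup.mk_add, map_add, map_add, hx, hy]

include hPQ hess hQiso hP0 hQ0 in
/-- **Transfer of `K₀`** along a fully faithful triangulated functor. -/
theorem main : ∃ φ : KZero.K0tr P ≃+ KZero.K0tr Q,
    ∀ X : C, P X → φ (KZero.clTr P X) = KZero.clTr Q (T.obj X) :=
  ⟨{ toFun := fwd T P Q hPQ
     invFun := bwd T P Q hPQ hess hQiso hP0
     left_inv := bwd_fwd T P Q hPQ hess hQiso hP0
     right_inv := fwd_bwd T P Q hPQ hess hQiso hP0 hQ0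
     map_add' := fun x y => map_add _ x y },
    fun X hX => fwd_clTr T P Q hPQ hX⟩

end Groth.Agent.H6.K0Transfer
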