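import Mathlib.RingTheory.Nakayama
import Mathlib.RingTheory.FiniteType
import Mathlib.LinearAlgebra.Projection
import Mathlib.LinearAlgebra.Finsupp.Span
import Mathlib.LinearAlgebra.TensorProduct.Basic
import Mathlib.RingTheory.LocalRing.MaximalIdeal.Basic
import Mathlib.RingTheory.Ideal.Operations

/-!
# A Nakayama-type injectivity statement for tensor products

`rTensor_injective_of_sub_id_mem`: over a local ring `R`, if `L` is a direct sum of finite
submodules and `ũ : L → L` is congruent to the identity modulo `𝔪 L`, then `ũ ⊗ M` is injective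
for every `R`-module `M`.
-/

set_option autoImplicit false
universe u v w x

namespace Groth.Agent.H6

open TensorProduct

section

variable {R : Type u} [CommRing R] {N : Type v} [AddCommGroup N] [Module R N]
  {M : Type w} [AddCommGroup M] [Module R M]

lemma range_rTensor_mono {P P' : Submodule R N} (h : P ≤ P') :
    LinearMap.range (LinearMap.rTensor M P.subtype) ≤
      LinearMap.range (LinearMap.rTensor M P'.subtype) := by
  have e : P.subtype = P'.subtype ∘ₗ Submodule.inclusion h := by
    ext x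
    rfl
  rw [e, LinearMap.rTensor_comp]
  exact LinearMap.range_comp_le_range _ _

lemma exists_finset_mem_range_rTensor {ι : Type x} (F : ι → Submodule R N) (hsup : iSup F = ⊤)
    (z : N ⊗[R] M) :
    ∃ J : Finset ι, z ∈ LinearMap.range (LinearMap.rTensor M (⨆ i ∈ J, F i).subtype) := by
  classical
  induction z using TensorProduct.induction_on with
  | zero => exact ⟨∅, zero_mem _⟩
  | tmul n m =>
    have hn : n ∈ ⨆ i, F i := by rw [hsup]; trivial
    obtain ⟨J, hJ⟩ := Submodule.mem_iSup_iff_exists_finset.1 hn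
    exact ⟨J, ⟨(⟨n, hJ⟩ : ↥(⨆ i ∈ J, F i)) ⊗ₜ m, by simp⟩⟩
  | add x y hx hy =>
    obtain ⟨J₁, h₁⟩ := hx
    obtain ⟨J₂, h₂⟩ := hy
    refine ⟨J₁ ∪ J₂, add_mem (range_rTensor_mono ?_ h₁) (range_rTensor_mono ?_ h₂)⟩
    · exact biSup_mono (fun i hi => Finset.mem_union_left _ hi)
    · exact biSup_mono (fun i hi => Finset.mem_union_right _ hi)

end

theorem rTensor_injective_of_sub_id_mem {R : Type u} [CommRing R] [IsLocalRing R]
    {L : Type v} [AddCommGroup L] [Module R L] {ι : Type x} (F : ι → Submodule R L)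
    (hsup : iSup F = ⊤)
    (hdisj : ∀ J : Finset ι, Disjoint (⨆ i ∈ J, F i) (⨆ i ∈ ((J : Set ι)ᶜ), F i))
    (hfin : ∀ i, Module.Finite R (F i)) (ũ : L →ₗ[R] L)
    (hũ : ∀ y, ũ y - y ∈ IsLocalRing.maximalIdeal R • (⊤ : Submodule R L))
    (M : Type w) [AddCommGroup M] [Module R M] :
    Function.Injective (LinearMap.rTensor M ũ) := by
  classical
  rw [injective_iff_map_eq_zero]
  intro z hz0
  obtain ⟨J, z', hz'⟩ := exists_finset_mem_range_rTensor F hsup z
  have hcompl : IsCompl (⨆ i ∈ J, F i) (⨆ i ∈ ((J : Set ι)ᶜ), F i) := by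
    constructor
    · exact hdisj J
    · rw [codisjoint_iff, eq_top_iff, ← hsup]
      refine iSup_le (fun i => ?_)
      by_cases hi : i ∈ J
      · exact le_sup_of_le_left (le_biSup F (show i ∈ (J : Set ι) from hi))
      · exact le_sup_of_le_right (le_biSup F (show i ∈ ((J : Set ι)ᶜ) from hi))
  haveI hfinN' : Module.Finite R ↥(⨆ i ∈ J, F i) :=
    Module.Finite.iff_fg.2 (Submodule.fg_biSup J F (fun i _ => Module.Finite.iff_fg.1 (hfin i)))
  have hπ : ∀ y ∈ IsLocalRing.maximalIdeal R • (⊤ : Submodule R L),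
      Submodule.projectionOnto _ _ hcompl y ∈
        (IsLocalRing.maximalIdeal R) • (⊤ : Submodule R ↥(⨆ i ∈ J, F i)) := by
    intro y hy
    have h1 : Submodule.projectionOnto _ _ hcompl y ∈
        (IsLocalRing.maximalIdeal R • (⊤ : Submodule R L)).map
          (Submodule.projectionOnto _ _ hcompl) := Submodule.mem_map_of_mem hy
    rw [Submodule.map_smul''] at h1
    exact Submodule.smul_mono le_rfl le_top h1
  have hsurj : Function.Surjective ((Submodule.projectionOnto _ _ hcompl) ∘ₗ
      ũ ∘ₗ (⨆ i ∈ J, F i).subtype) := by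
    rw [← LinearMap.range_eq_top, eq_top_iff]
    apply Submodule.le_of_le_smul_of_le_jacobson_bot Module.Finite.fg_top
      (IsLocalRing.maximalIdeal_le_jacobson _)
    intro n _
    have hn : n = ((Submodule.projectionOnto _ _ hcompl) ∘ₗ
        ũ ∘ₗ (⨆ i ∈ J, F i).subtype) n -
        Submodule.projectionOnto _ _ hcompl (ũ (n : L) - (n : L)) := by
      have e1 : ((Submodule.projectionOnto _ _ hcompl) ∘ₗ
        ũ ∘ₗ (⨆ i ∈ J, F i).subtype) n =
          Submodule.projectionOnto _ _ hcompl (ũ (n : L)) := rfl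
      rw [e1, ← map_sub, sub_sub_cancel, Submodule.projectionOnto_apply_left]
    rw [hn]
    exact sub_mem (Submodule.mem_sup_left (LinearMap.mem_range_self _ _))
      (Submodule.mem_sup_right (hπ _ (hũ _)))
  have hinj := OrzechProperty.injective_of_surjective_endomorphism _ hsurj
  have h0 : LinearMap.rTensor M ((Submodule.projectionOnto _ _ hcompl) ∘ₗ
      ũ ∘ₗ (⨆ i ∈ J, F i).subtype) z' = 0 := by
    rw [LinearMap.rTensor_comp, LinearMap.rTensor_comp, LinearMap.comp_apply,
      LinearMap.comp_apply, hz', hz0, map_zero]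
  have hz'0 : z' = 0 := by
    have hinj' : Function.Injective (LinearMap.rTensor M
        ((Submodule.projectionOnto _ _ hcompl) ∘ₗ ũ ∘ₗ (⨆ i ∈ J, F i).subtype)) :=
      (LinearEquiv.rTensor M (LinearEquiv.ofBijective _ ⟨hinj, hsurj⟩)).injective
    exact hinj' (by rw [h0, map_zero])
  rw [← hz', hz'0, map_zero]

end Groth.Agent.H6
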