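import Groth.Agent.H56.PerfDual
import Groth.Agent.S6515
import Groth.Agent.H31.KFlatCycles
import Groth.Agent.H31.TotFunctor

/-!
# (Q1-b) for helper31's S6498: the total complex of `P ⊗ S` for `S` concentrated in one degree
(helper6)
-/

set_option autoImplicit false
set_option backward.isDefEq.respectTransparency false
universe u
open CategoryTheory CategoryTheory.Limits AlgebraicGeometry HomologicalComplex
  CategoryTheory.Pretriangulated
attribute [local instance] HasDerivedCategory.standard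

namespace Groth.Agent.H6.PCQ1b

open Groth.Agent.H31.KFlat

section General

variable {C₁ C₂ D : Type*} [Category C₁] [Category C₂] [Category D]
  [Abelian C₁] [Abelian C₂] [Abelian D]
  (F : C₁ ⥤ C₂ ⥤ D) [F.Additive] [∀ X, (F.obj X).Additive]
  [∀ (K₁ : CochainComplex C₁ ℤ) (K₂ : CochainComplex C₂ ℤ),
    HasMapBifunctor K₁ K₂ F (ComplexShape.up ℤ)]

theorem isIso_ιMapBifunctor_of_isZero_right (K : CochainComplex C₁ ℤ) (S : CochainComplex C₂ ℤ)
    (j : ℤ) (hS : ∀ q, q ≠ j → IsZero (S.X q)) (p n : ℤ)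
    (h : ComplexShape.π (ComplexShape.up ℤ) (ComplexShape.up ℤ) (ComplexShape.up ℤ) (p, j) = n) :
    IsIso (ιMapBifunctor K S F (ComplexShape.up ℤ) p j n h) := by
  refine isIso_inj_of_isZero ((gr F K S).cofanMapObj pp n)
    ((gr F K S).isColimitCofanMapObj pp n) ⟨(p, j), h⟩ ?_
  rintro ⟨⟨p', q'⟩, hpq'⟩ hne
  have hq : q' ≠ j := by
    rintro rfl
    apply hne
    have h1 : p' + q' = n := hpq'
    have h2 : p + q' = n := h
    have h3 : p' = p := by omega
    subst h3
    rfl
  exact (F.obj (K.X p')).map_isZero (hS q' hq)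

theorem nonempty_homology_iso (K : CochainComplex C₁ ℤ) (S : CochainComplex C₂ ℤ) (b : ℤ)
    (hS : ∀ q, q ≠ b → IsZero (S.X q)) (p : ℤ) [(F.flip.obj (S.X b)).Additive] :
    Nonempty ((mapBifunctor K S F (ComplexShape.up ℤ)).homology (p + b) ≅
      (((F.flip.obj (S.X b)).mapHomologicalComplex (ComplexShape.up ℤ)).obj K).homology p) := by
  let T := mapBifunctor K S F (ComplexShape.up ℤ)
  let A := ((F.flip.obj (S.X b)).mapHomologicalComplex (ComplexShape.up ℤ)).obj K
  have πb : ∀ r : ℤ, ComplexShape.π (ComplexShape.up ℤ) (ComplexShape.up ℤ) (ComplexShape.up ℤ)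
      (r, b) = r + b := fun r => rfl
  have hd0 : S.d b (b + 1) = 0 := (hS (b + 1) (by omega)).eq_of_tgt _ _
  have key : ∀ (r s : ℤ) (hrs : r + 1 = s),
      ιMapBifunctor K S F (ComplexShape.up ℤ) r b (r + b) (πb r) ≫ T.d (r + b) (s + b) =
        (F.map (K.d r s)).app (S.X b) ≫
          ιMapBifunctor K S F (ComplexShape.up ℤ) s b (s + b) (πb s) := by
    intro r s hrs
    subst hrs
    have h := ι_d F K S r b (r + b) (r + 1 + b) (πb r) (πb (r + 1))
      (by show r + (b + 1) = r + 1 + b; omega)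
    have hε : ComplexShape.ε₁ (ComplexShape.up ℤ) (ComplexShape.up ℤ) (ComplexShape.up ℤ)
        (r, b) = 1 := rfl
    rw [hε, one_smul, hd0, Functor.map_zero, zero_comp, smul_zero, add_zero] at h
    exact h
  have i1 := isIso_ιMapBifunctor_of_isZero_right F K S b hS (p - 1) (p - 1 + b) (πb _)
  have i2 := isIso_ιMapBifunctor_of_isZero_right F K S b hS p (p + b) (πb _)
  have i3 := isIso_ιMapBifunctor_of_isZero_right F K S b hS (p + 1) (p + 1 + b) (πb _)
  let e : A.sc' (p - 1) p (p + 1) ≅ T.sc' (p - 1 + b) (p + b) (p + 1 + b) :=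
    ShortComplex.isoMk (@asIso _ _ _ _ _ i1) (@asIso _ _ _ _ _ i2) (@asIso _ _ _ _ _ i3)
      (key (p - 1) p (by omega)) (key p (p + 1) rfl)
  exact ⟨T.homologyIsoSc' (p - 1 + b) (p + b) (p + 1 + b) (by simp; omega) (by simp; omega) ≪≫
    (ShortComplex.homologyMapIso e).symm ≪≫
    (A.homologyIsoSc' (p - 1) p (p + 1) (by simp) (by simp)).symm⟩

end General

/-- **(Q1-b)** -/
theorem nonempty_homology_tot_single_iso {Z : Scheme.{u}} (P S : CochainComplex Z.Modules ℤ)
    (b : ℤ) (hS : ∀ q : ℤ, q ≠ b → IsZero (S.X q)) (p : ℤ) :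
    Nonempty (((DCoh.tensorCx.obj P).obj S).homology (p + b) ≅
      ((((DCoh.tensorBi (X := Z)).flip.obj (S.X b)).mapHomologicalComplex
        (ComplexShape.up ℤ)).obj P).homology p) :=
  nonempty_homology_iso (DCoh.tensorBi (X := Z)) P S b hS p

end Groth.Agent.H6.PCQ1b
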