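import Mathlib
import Groth.Agent.H6.AcycUnit
import Groth.Agent.S0028
import Groth.Agent.S11319

/-!
# `Rf_*` of `M~` for a morphism of affine schemes (helper6)

* `pushTildeIso φ : ~ ⋙ (Spec φ)_* ≅ restrictScalars φ ⋙ ~` on modules;
* `RpushTildeIso φ : ~ ⋙ R(Spec φ)_* ≅ restrictD φ ⋙ ~` on derived categories.
-/

set_option autoImplicit false
set_option backward.isDefEq.respectTransparency false
universe u
open CategoryTheory CategoryTheory.Limits AlgebraicGeometry Opposite
attribute [local instance] HasDerivedCategory.standard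

namespace Groth.Agent.H6.PushTilde

open Groth.Agent.H31.RpushRestrict Groth.Agent.H6.AcycUnit

section Modules

/-- `M~` is quasi-coherent (explicit form of Mathlib's instance). -/
theorem isQuasicoherent_tilde_obj (R : CommRingCat.{u}) (M : ModuleCat.{u} R) :
    ((tilde.functor R).obj M).IsQuasicoherent := by
  infer_instance

variable {R S : CommRingCat.{u}} (φ : R ⟶ S)

/-- Global sections of a pushforward along `Spec φ` (as in `H31.LpullTilde`). -/
noncomputable def pushΓIso :
    Scheme.Modules.pushforward (Spec.map φ) ⋙ moduleSpecΓFunctor (R := R) ≅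
      moduleSpecΓFunctor (R := S) ⋙ ModuleCat.restrictScalars φ.hom :=
  Functor.isoWhiskerRight (pushforwardCompModulesSpecToSheafIso φ)
    (TopCat.Sheaf.forget _ _ ⋙ (evaluation _ _).obj (op ⊤))

/-- `Γ((Spec φ)_* M~) ≅ M_R`. -/
noncomputable def pushTildeΓIso :
    (tilde.functor S ⋙ Scheme.Modules.pushforward (Spec.map φ)) ⋙ moduleSpecΓFunctor (R := R) ≅
      ModuleCat.restrictScalars φ.hom :=
  Functor.associator _ _ _ ≪≫ Functor.isoWhiskerLeft (tilde.functor S) (pushΓIso φ) ≪≫
    (Functor.associator _ _ _).symm ≪≫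
    Functor.isoWhiskerRight (tilde.toTildeΓNatIso (R := S)).symm
      (ModuleCat.restrictScalars φ.hom) ≪≫
    Functor.leftUnitor _

theorem isIso_whisker :
    IsIso (Functor.whiskerLeft (tilde.functor S ⋙ Scheme.Modules.pushforward (Spec.map φ))
      (Scheme.Modules.fromTildeΓNatTrans (R := R))) := by
  apply (config := { allowSynthFailures := true }) NatIso.isIso_of_isIso_app
  intro M
  have hM := isQuasicoherent_tilde_obj S M
  have : ((Scheme.Modules.pushforward (Spec.map φ)).obj ((tilde.functor S).obj M)).IsQuasicoherent :=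
    Groth.Agent.H8.isQuasicoherent_pushforward _ _
  exact inferInstanceAs (IsIso (Scheme.Modules.fromTildeΓ
    ((Scheme.Modules.pushforward (Spec.map φ)).obj ((tilde.functor S).obj M))))

/-- `(Spec φ)_* (M~) ≅ (M_R)~`, naturally in `M`. -/
noncomputable def pushTildeIso :
    tilde.functor S ⋙ Scheme.Modules.pushforward (Spec.map φ) ≅
      ModuleCat.restrictScalars φ.hom ⋙ tilde.functor R :=
  haveI := isIso_whisker φ
  (Functor.rightUnitor _).symm ≪≫
    (asIso (Functor.whiskerLeft (tilde.functor S ⋙ Scheme.Modules.pushforward (Spec.map φ))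
      (Scheme.Modules.fromTildeΓNatTrans (R := R)))).symm ≪≫
    (Functor.associator _ _ _).symm ≪≫ Functor.isoWhiskerRight (pushTildeΓIso φ) (tilde.functor R)

end Modules

section Derived

theorem additive_tilde (R : CommRingCat.{u}) : (tilde.functor R).Additive := inferInstance

instance additive_tilde_of (A : Type u) [CommRing A] :
    Functor.Additive (C := ModuleCat.{u} A) (D := (Spec (CommRingCat.of A)).Modules)
      (tilde.functor (CommRingCat.of A)) :=
  additive_tilde (CommRingCat.of A)

instance preservesFiniteColimits_tilde_of (A : Type u) [CommRing A] :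
    PreservesFiniteColimits (C := ModuleCat.{u} A) (D := (Spec (CommRingCat.of A)).Modules)
      (tilde.functor (CommRingCat.of A)) :=
  ⟨fun _ _ _ => (tilde.adjunction
    (R := CommRingCat.of A)).leftAdjoint_preservesColimits.preservesColimitsOfShape⟩

variable {A B : Type u} [CommRing A] [CommRing B] (φ : A →+* B)
  [PreservesFiniteLimits (C := ModuleCat.{u} A) (D := (Spec (CommRingCat.of A)).Modules)
    (tilde.functor (CommRingCat.of A))]
  [PreservesFiniteLimits (C := ModuleCat.{u} B) (D := (Spec (CommRingCat.of B)).Modules)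
    (tilde.functor (CommRingCat.of B))]
  [DCoh.HasRpush (Spec.map (CommRingCat.ofHom φ))]

/-- `C(~_B) ⋙ C(f_*) ≅ C(res) ⋙ C(~_A)`. -/
noncomputable def cxIso :
    (tilde.functor (CommRingCat.of B)).mapHomologicalComplex (ComplexShape.up ℤ) ⋙
      (Scheme.Modules.pushforward (Spec.map (CommRingCat.ofHom φ))).mapHomologicalComplex
        (ComplexShape.up ℤ) ≅
    (ModuleCat.restrictScalars.{u} φ).mapHomologicalComplex (ComplexShape.up ℤ) ⋙
      (tilde.functor (CommRingCat.of A)).mapHomologicalComplex (ComplexShape.up ℤ) :=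
  NatIso.ofComponents
    (fun K => (NatIso.mapHomologicalComplex (pushTildeIso (CommRingCat.ofHom φ))
      (ComplexShape.up ℤ)).app K)
    (fun g => (NatIso.mapHomologicalComplex (pushTildeIso (CommRingCat.ofHom φ))
      (ComplexShape.up ℤ)).hom.naturality g)

theorem isIso_uC_tilde (K : CochainComplex (ModuleCat.{u} B) ℤ) :
    IsIso ((uC (Spec.map (CommRingCat.ofHom φ))).app
      (((tilde.functor (CommRingCat.of B)).mapHomologicalComplex (ComplexShape.up ℤ)).obj K)) := by
  have hN : ∀ G : (Spec (CommRingCat.of B)).Modules, G.IsQuasicoherent → ∀ p : ℕ, 1 ≤ p →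
      IsZero ((Coh.Rpush (Spec.map (CommRingCat.ofHom φ)) p).obj G) := by
    intro G hG p hp
    obtain ⟨q, rfl⟩ : ∃ q, p = q + 1 := ⟨p - 1, by omega⟩
    obtain ⟨e⟩ := Groth.Agent.S11319.result (Spec.map (CommRingCat.ofHom φ)) G (q + 1)
    have : Coh.IsQCoh G := hG
    exact Groth.Agent.H30.RpushQcoh.isZero_of_isZero_toAb _
      ((Groth.Agent.S0028.result (Spec.map (CommRingCat.ofHom φ)) G (q + 1)
        (Nat.succ_pos q)).of_iso e)
  have hq : ∀ n : ℤ, Coh.IsQCoh
      ((((tilde.functor (CommRingCat.of B)).mapHomologicalComplex (ComplexShape.up ℤ)).obj K).X n) :=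
    fun n => isQuasicoherent_tilde_obj (CommRingCat.of B) (K.X n)
  exact isIso_uC_of_bound _ 1 hN _ hq (fun n i hi => hN _ (hq n) i hi)

/-- The natural isomorphism `~ ⋙ Rf_* ≅ restrictD φ ⋙ ~`. -/
noncomputable def RpushTildeIso :
    DCoh.tildeD (CommRingCat.of B) ⋙ DCoh.Rpush (Spec.map (CommRingCat.ofHom φ)) ≅
      DRing.restrictD φ ⋙ DCoh.tildeD (CommRingCat.of A) :=
  haveI hη : IsIso (Functor.whiskerLeft
      ((tilde.functor (CommRingCat.of B)).mapHomologicalComplex (ComplexShape.up ℤ))
      (uC (Spec.map (CommRingCat.ofHom φ)))) := by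
    apply (config := { allowSynthFailures := true }) NatIso.isIso_of_isIso_app
    intro K
    exact isIso_uC_tilde φ K
  haveI : Localization.Lifting DerivedCategory.Q
      (HomologicalComplex.quasiIso (ModuleCat.{u} B) (ComplexShape.up ℤ))
      (((tilde.functor (CommRingCat.of B)).mapHomologicalComplex (ComplexShape.up ℤ) ⋙
        (Scheme.Modules.pushforward (Spec.map (CommRingCat.ofHom φ))).mapHomologicalComplex
          (ComplexShape.up ℤ)) ⋙ DerivedCategory.Q)
      (DCoh.tildeD (CommRingCat.of B) ⋙ DCoh.Rpush (Spec.map (CommRingCat.ofHom φ))) :=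
    ⟨(Functor.associator _ _ _).symm ≪≫
      Functor.isoWhiskerRight (tilde.functor (CommRingCat.of B)).mapDerivedCategoryFactors _ ≪≫
      Functor.associator _ _ _ ≪≫
      (asIso (Functor.whiskerLeft
        ((tilde.functor (CommRingCat.of B)).mapHomologicalComplex (ComplexShape.up ℤ))
        (uC (Spec.map (CommRingCat.ofHom φ))))).symm ≪≫
      (Functor.associator _ _ _).symm⟩
  haveI : Localization.Lifting DerivedCategory.Q
      (HomologicalComplex.quasiIso (ModuleCat.{u} B) (ComplexShape.up ℤ))
      (((ModuleCat.restrictScalars.{u} φ).mapHomologicalComplex (ComplexShape.up ℤ) ⋙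
        (tilde.functor (CommRingCat.of A)).mapHomologicalComplex (ComplexShape.up ℤ)) ⋙
          DerivedCategory.Q)
      (DRing.restrictD φ ⋙ DCoh.tildeD (CommRingCat.of A)) :=
    ⟨(Functor.associator _ _ _).symm ≪≫
      Functor.isoWhiskerRight (ModuleCat.restrictScalars.{u} φ).mapDerivedCategoryFactors _ ≪≫
      Functor.associator _ _ _ ≪≫
      Functor.isoWhiskerLeft _ (tilde.functor (CommRingCat.of A)).mapDerivedCategoryFactors ≪≫
      (Functor.associator _ _ _).symm⟩
  Localization.liftNatIso DerivedCategory.Q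
    (HomologicalComplex.quasiIso (ModuleCat.{u} B) (ComplexShape.up ℤ)) _ _ _ _
    (Functor.isoWhiskerRight (cxIso φ) DerivedCategory.Q)

end Derived

end Groth.Agent.H6.PushTilde
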