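import Mathlib
import Groth.Agent.H6.QCoprod
import Groth.Agent.H5.KInj.DerivedAdj

/-!
# Total right derived functors on `D(A)` are additive (helper6 library)

`A` Grothendieck abelian, `X : K(A) ⥤ H` an additive functor to a preadditive category, `RF` a right
derived functor of `X` along `Qh : K(A) ⥤ D(A)` with unit `β`.

* `map_Q_map` : for `I` K-injective, `RF (Q h) = β_I⁻¹ ≫ X h ≫ β_J`.
* `additive` : `RF` is additive.
-/

set_option autoImplicit false
universe w v u v' u'
open CategoryTheory CategoryTheory.Limits DerivedCategory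

namespace Groth.Agent.H6.RFAdditive

variable {A : Type u} [Category.{v} A] [Abelian A] [IsGrothendieckAbelian.{v} A]
  [HasDerivedCategory.{w} A]
  {H : Type u'} [Category.{v'} H] [Preadditive H]
  (X : HomotopyCategory A (ComplexShape.up ℤ) ⥤ H) [X.Additive] (RF : DerivedCategory A ⥤ H)
  (β : X ⟶ DerivedCategory.Qh ⋙ RF)
  [RF.IsRightDerivedFunctor β (HomotopyCategory.quasiIso A (ComplexShape.up ℤ))]

omit [X.Additive] [Preadditive H] [IsGrothendieckAbelian.{v} A]
  [RF.IsRightDerivedFunctor β (HomotopyCategory.quasiIso A (ComplexShape.up ℤ))] in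
theorem map_Q_map (I J : CochainComplex A ℤ) (h : I ⟶ J) :
    β.app ((HomotopyCategory.quotient A (ComplexShape.up ℤ)).obj I) ≫ RF.map (Q.map h) =
      X.map ((HomotopyCategory.quotient A (ComplexShape.up ℤ)).map h) ≫
        β.app ((HomotopyCategory.quotient A (ComplexShape.up ℤ)).obj J) :=
  (β.naturality ((HomotopyCategory.quotient A (ComplexShape.up ℤ)).map h)).symm

include β in
theorem additive : RF.Additive := by
  constructor
  intro Y Z f g
  obtain ⟨I, hI, ⟨eI⟩⟩ := QCoprod.exists_model Y
  obtain ⟨J, hJ, ⟨eJ⟩⟩ := QCoprod.exists_model Z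
  have := hI
  have := hJ
  obtain ⟨f', hf'⟩ := QCoprod.exists_lift I J (eI.hom ≫ f ≫ eJ.inv)
  obtain ⟨g', hg'⟩ := QCoprod.exists_lift I J (eI.hom ≫ g ≫ eJ.inv)
  have ef : f = eI.inv ≫ Q.map f' ≫ eJ.hom := by rw [hf']; simp
  have eg : g = eI.inv ≫ Q.map g' ≫ eJ.hom := by rw [hg']; simp
  have efg : f + g = eI.inv ≫ Q.map (f' + g') ≫ eJ.hom := by
    rw [Functor.map_add, Preadditive.add_comp, Preadditive.comp_add, ← ef, ← eg]
  have key : RF.map (Q.map (f' + g')) = RF.map (Q.map f') + RF.map (Q.map g') := by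
    have hiso : IsIso (β.app ((HomotopyCategory.quotient A (ComplexShape.up ℤ)).obj I)) :=
      Groth.Agent.H5.KInjDer.isIso_app_quotient_of_isKInjective X RF β I
    have k1 := map_Q_map X RF β I J (f' + g')
    have k2 := map_Q_map X RF β I J f'
    have k3 := map_Q_map X RF β I J g'
    refine (cancel_epi (β.app ((HomotopyCategory.quotient A (ComplexShape.up ℤ)).obj I))).1 ?_
    refine k1.trans ?_
    rw [Functor.map_add, Functor.map_add, Preadditive.add_comp]
    refine Eq.trans ?_ (Preadditive.comp_add _ _ _ _ _ _).symm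
    exact congrArg₂ (· + ·) k2.symm k3.symm
  rw [efg]
  conv_rhs => rw [ef, eg]
  simp only [Functor.map_comp, key, Preadditive.add_comp, Preadditive.comp_add]

end Groth.Agent.H6.RFAdditive
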