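import Mathlib

/-!
# The lattice of subobjects in an abelian category is modular

Second isomorphism theorem, `x ⋖ z ↔ z/x` simple, modular law, and lattice-level
chain lemmas used for finite length objects / Jordan–Hölder.
-/

set_option autoImplicit false
universe v u
open CategoryTheory CategoryTheory.Limits

namespace Groth.Agent.H6

section SubobjectAbelian

variable {A : Type u} [Category.{v} A] [Abelian A] {X : A}

lemma exists_lift_of_comp_cokernel_π_eq_zero {x z : Subobject X} (h : x ≤ z) {T : A}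
    (t : T ⟶ (z : A)) (ht : t ≫ cokernel.π (Subobject.ofLE x z h) = 0) :
    ∃ s : T ⟶ (x : A), s ≫ Subobject.ofLE x z h = t :=
  ⟨Abelian.monoLift _ t ht, Abelian.monoLift_comp _ _ _⟩

/-- a map out of `x ⊔ y` vanishing on `x` and on `y` is zero -/
lemma eq_zero_of_ofLE_sup_comp {x y : Subobject X} {C : A} (q : ((x ⊔ y : Subobject X) : A) ⟶ C)
    (hx : Subobject.ofLE x (x ⊔ y) le_sup_left ≫ q = 0)
    (hy : Subobject.ofLE y (x ⊔ y) le_sup_right ≫ q = 0) : q = 0 := by
  have hxk : x ≤ Subobject.mk (kernel.ι q ≫ (x ⊔ y).arrow) :=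
    Subobject.le_mk_of_comm (kernel.lift q _ hx) (by simp)
  have hyk : y ≤ Subobject.mk (kernel.ι q ≫ (x ⊔ y).arrow) :=
    Subobject.le_mk_of_comm (kernel.lift q _ hy) (by simp)
  have hT : x ⊔ y ≤ Subobject.mk (kernel.ι q ≫ (x ⊔ y).arrow) := sup_le hxk hyk
  have he : Subobject.ofLEMk _ _ hT ≫ kernel.ι q = 𝟙 _ := by
    rw [← cancel_mono (x ⊔ y).arrow, Category.assoc, Subobject.ofLEMk_comp, Category.id_comp]
  rw [← Category.id_comp q, ← he, Category.assoc, kernel.condition, comp_zero]

lemma epi_ofLE_sup_right_comp_cokernel_π (x y : Subobject X) :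
    Epi (Subobject.ofLE y (x ⊔ y) le_sup_right ≫
      cokernel.π (Subobject.ofLE x (x ⊔ y) le_sup_left)) := by
  apply Preadditive.epi_of_cancel_zero
  intro C p hp
  have hx : Subobject.ofLE x (x ⊔ y) le_sup_left ≫
      (cokernel.π (Subobject.ofLE x (x ⊔ y) le_sup_left) ≫ p) = 0 := by
    rw [← Category.assoc, cokernel.condition, zero_comp]
  have hy : Subobject.ofLE y (x ⊔ y) le_sup_right ≫
      (cokernel.π (Subobject.ofLE x (x ⊔ y) le_sup_left) ≫ p) = 0 := by
    rw [← Category.assoc]; exact hp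
  have hq := eq_zero_of_ofLE_sup_comp _ hx hy
  exact (cancel_epi (cokernel.π (Subobject.ofLE x (x ⊔ y) le_sup_left))).1 (by rw [hq, comp_zero])

/-- Second isomorphism theorem for subobjects in an abelian category. -/
lemma nonempty_cokernel_inf_iso_cokernel_sup (x y : Subobject X) :
    Nonempty (cokernel (Subobject.ofLE (x ⊓ y) y inf_le_right) ≅
      cokernel (Subobject.ofLE x (x ⊔ y) le_sup_left)) := by
  have : Epi (Subobject.ofLE y (x ⊔ y) le_sup_right ≫
      cokernel.π (Subobject.ofLE x (x ⊔ y) le_sup_left)) := epi_ofLE_sup_right_comp_cokernel_π x y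
  have w : Subobject.ofLE (x ⊓ y) y inf_le_right ≫ (Subobject.ofLE y (x ⊔ y) le_sup_right ≫
      cokernel.π (Subobject.ofLE x (x ⊔ y) le_sup_left)) = 0 := by
    have : Subobject.ofLE (x ⊓ y) y inf_le_right ≫ Subobject.ofLE y (x ⊔ y) le_sup_right
        = Subobject.ofLE (x ⊓ y) x inf_le_left ≫ Subobject.ofLE x (x ⊔ y) le_sup_left := by
      rw [Subobject.ofLE_comp_ofLE, Subobject.ofLE_comp_ofLE]
    rw [← Category.assoc, this, Category.assoc, cokernel.condition, comp_zero]
  have hlim : IsLimit (KernelFork.ofι (Subobject.ofLE (x ⊓ y) y inf_le_right) w) :=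
    KernelFork.IsLimit.ofι' _ _ (fun {T} t ht => by
      have hs := Abelian.monoLift_comp (Subobject.ofLE x (x ⊔ y) le_sup_left)
        (t ≫ Subobject.ofLE y (x ⊔ y) le_sup_right) (by rw [Category.assoc]; exact ht)
      have hs' : Abelian.monoLift (Subobject.ofLE x (x ⊔ y) le_sup_left)
        (t ≫ Subobject.ofLE y (x ⊔ y) le_sup_right) (by rw [Category.assoc]; exact ht) ≫ x.arrow
          = t ≫ y.arrow := by
        rw [← Subobject.ofLE_arrow (le_sup_left : x ≤ x ⊔ y), ← Category.assoc, hs,
          Category.assoc, Subobject.ofLE_arrow]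
      have hfac : (x ⊓ y).Factors (t ≫ y.arrow) :=
        (Subobject.inf_factors _).2 ⟨by rw [← hs']; exact Subobject.factors_comp_arrow _,
          Subobject.factors_comp_arrow t⟩
      exact ⟨(x ⊓ y).factorThru (t ≫ y.arrow) hfac, by
        rw [← cancel_mono y.arrow, Category.assoc, Subobject.ofLE_arrow,
          Subobject.factorThru_arrow]⟩)
  exact ⟨IsColimit.coconePointUniqueUpToIso (cokernelIsCokernel _)
    (Abelian.epiIsCokernelOfKernel _ hlim)⟩

lemma covBy_of_simple_cokernel {x z : Subobject X} (h : x ≤ z)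
    (hs : Simple (cokernel (Subobject.ofLE x z h))) : x ⋖ z := by
  have key : ∀ w : Subobject X, x ≤ w → w ≤ z → w ≤ x ∨ z ≤ w := by
    intro w hxw hwz
    by_cases hφ : Subobject.ofLE w z hwz ≫ cokernel.π (Subobject.ofLE x z h) = 0
    · left
      obtain ⟨s, hs⟩ := exists_lift_of_comp_cokernel_π_eq_zero h _ hφ
      exact Subobject.le_of_comm s
        (by rw [← Subobject.ofLE_arrow h, ← Category.assoc, hs, Subobject.ofLE_arrow])
    · right
      have : Epi (Subobject.ofLE w z hwz ≫ cokernel.π (Subobject.ofLE x z h)) :=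
        epi_of_nonzero_to_simple hφ
      have : Epi (Subobject.ofLE w z hwz) := by
        apply Preadditive.epi_of_cancel_zero
        intro C p hp
        have hxp : Subobject.ofLE x z h ≫ p = 0 := by
          rw [← Subobject.ofLE_comp_ofLE x w z hxw hwz, Category.assoc, hp, comp_zero]
        have hd : cokernel.π (Subobject.ofLE x z h) ≫ cokernel.desc _ p hxp = p :=
          cokernel.π_desc _ _ _
        have h0 : cokernel.desc _ p hxp = 0 := by
          rw [← cancel_epi (Subobject.ofLE w z hwz ≫ cokernel.π (Subobject.ofLE x z h)),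
            Category.assoc, hd, hp, comp_zero]
        rw [← hd, h0, comp_zero]
      have : IsIso (Subobject.ofLE w z hwz) := isIso_of_mono_of_epi _
      exact Subobject.le_of_comm (inv (Subobject.ofLE w z hwz))
        (by rw [IsIso.inv_comp_eq, Subobject.ofLE_arrow])
  have hne : ¬ z ≤ x := by
    intro hzx
    have h1 : cokernel.π (Subobject.ofLE x z h) = 0 := by
      have : 𝟙 (z : A) = Subobject.ofLE z x hzx ≫ Subobject.ofLE x z h := by
        rw [Subobject.ofLE_comp_ofLE, Subobject.ofLE_refl]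
      rw [← Category.id_comp (cokernel.π _), this, Category.assoc, cokernel.condition, comp_zero]
    apply id_nonzero (cokernel (Subobject.ofLE x z h))
    rw [← cancel_epi (cokernel.π (Subobject.ofLE x z h)), h1, zero_comp, zero_comp]
  refine ⟨lt_of_le_not_ge h hne, fun w hxw hwz => ?_⟩
  rcases key w hxw.le hwz.le with h1 | h1
  · exact absurd h1 (not_le_of_gt hxw)
  · exact absurd h1 (not_le_of_gt hwz)

lemma simple_cokernel_of_covBy {x z : Subobject X} (hc : x ⋖ z) :
    Simple (cokernel (Subobject.ofLE x z hc.le)) := by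
  have hπ0 : cokernel.π (Subobject.ofLE x z hc.le) ≠ 0 := by
    intro h0
    have : Epi (Subobject.ofLE x z hc.le) := Abelian.epi_of_cokernel_π_eq_zero _ h0
    have : IsIso (Subobject.ofLE x z hc.le) := isIso_of_mono_of_epi _
    exact hc.lt.not_ge (Subobject.le_of_comm (inv (Subobject.ofLE x z hc.le))
      (by rw [IsIso.inv_comp_eq, Subobject.ofLE_arrow]))
  generalize hπ : cokernel.π (Subobject.ofLE x z hc.le) = π at hπ0
  have : Epi π := by rw [← hπ]; infer_instance
  have hcond : Subobject.ofLE x z hc.le ≫ π = 0 := by rw [← hπ]; exact cokernel.condition _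
  refine ⟨fun {S} j _ => ?_⟩
  have hwz : Subobject.mk (pullback.fst π j ≫ z.arrow) ≤ z :=
    Subobject.mk_le_of_comm (pullback.fst π j) rfl
  have hxw : x ≤ Subobject.mk (pullback.fst π j ≫ z.arrow) :=
    Subobject.le_mk_of_comm (pullback.lift (Subobject.ofLE x z hc.le) 0
      (by rw [zero_comp]; exact hcond))
      (by rw [pullback.lift_fst_assoc, Subobject.ofLE_arrow])
  rcases hc.eq_or_eq hxw hwz with h1 | h1
  · -- the pullback is `x`, so `j = 0`
    have hj : j = 0 := by
      have hd : Subobject.ofMkLE (pullback.fst π j ≫ z.arrow) x h1.le ≫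
          Subobject.ofLE x z hc.le = pullback.fst π j := by
        rw [← cancel_mono z.arrow, Category.assoc, Subobject.ofLE_arrow, Subobject.ofMkLE_arrow]
      have h2 : pullback.fst π j ≫ π = 0 := by
        rw [← hd, Category.assoc, hcond, comp_zero]
      rw [← cancel_epi (pullback.snd π j), comp_zero, ← pullback.condition, h2]
    constructor
    · intro hiso
      exfalso
      apply hπ0
      have h2 : (π ≫ inv j) ≫ j = π := by simp
      have h3 : ∀ {T : A} (g : T ⟶ S), g ≫ j = 0 := fun g => by rw [hj, comp_zero]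
      rw [← h2, h3]
    · intro h; exact absurd hj h
  · -- the pullback is `z`, so `j` is an isomorphism
    have he : Subobject.ofLEMk z (pullback.fst π j ≫ z.arrow) h1.ge ≫ pullback.fst π j = 𝟙 _ := by
      rw [← cancel_mono z.arrow, Category.assoc, Subobject.ofLEMk_comp, Category.id_comp]
    have hπj : π = (Subobject.ofLEMk z (pullback.fst π j ≫ z.arrow) h1.ge ≫
        pullback.snd π j) ≫ j := by
      rw [Category.assoc, ← pullback.condition, ← Category.assoc, he, Category.id_comp]
    have : Epi ((Subobject.ofLEMk z (pullback.fst π j ≫ z.arrow) h1.ge ≫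
        pullback.snd π j) ≫ j) := by
      rw [← hπj]; infer_instance
    have : Epi j := epi_of_epi (Subobject.ofLEMk z (pullback.fst π j ≫ z.arrow) h1.ge ≫
        pullback.snd π j) j
    have : IsIso j := isIso_of_mono_of_epi j
    constructor
    · intro _ hj
      apply hπ0
      have h3 : ∀ {T : A} (g : T ⟶ S), g ≫ j = 0 := fun g => by rw [hj, comp_zero]
      rw [hπj, h3]
    · intro _; infer_instance

instance instIsModularLatticeSubobject : IsModularLattice (Subobject X) where
  sup_inf_le_assoc_of_le := by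
    intro x y z hxz
    have huT : (x ⊔ y) ⊓ z ≤ x ⊔ y := inf_le_left
    have huz : (x ⊔ y) ⊓ z ≤ z := inf_le_right
    have hxv : x ≤ x ⊔ y ⊓ z := le_sup_left
    have hyzv : y ⊓ z ≤ x ⊔ y ⊓ z := le_sup_right
    generalize hu : (x ⊔ y) ⊓ z = u at huT huz ⊢
    generalize hv : x ⊔ y ⊓ z = v at hxv hyzv ⊢
    have hψ : Epi (Subobject.ofLE y (x ⊔ y) le_sup_right ≫
      cokernel.π (Subobject.ofLE x (x ⊔ y) le_sup_left)) := epi_ofLE_sup_right_comp_cokernel_π x y
    generalize hψ' : Subobject.ofLE y (x ⊔ y) le_sup_right ≫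
      cokernel.π (Subobject.ofLE x (x ⊔ y) le_sup_left) = ψ at hψ
    generalize hθ' : Subobject.ofLE u (x ⊔ y) huT ≫
      cokernel.π (Subobject.ofLE x (x ⊔ y) le_sup_left) = θ
    have : Epi (pullback.fst θ ψ) := inferInstance
    have hcond : pullback.fst θ ψ ≫ θ = pullback.snd θ ψ ≫ ψ := pullback.condition
    obtain ⟨r, hr⟩ := exists_lift_of_comp_cokernel_π_eq_zero (le_sup_left : x ≤ x ⊔ y)
      (pullback.fst θ ψ ≫ Subobject.ofLE u (x ⊔ y) huT -
        pullback.snd θ ψ ≫ Subobject.ofLE y (x ⊔ y) le_sup_right) (by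
      rw [Preadditive.sub_comp, Category.assoc, Category.assoc, hψ', hθ']
      exact sub_eq_zero.2 hcond)
    have hr' : r ≫ x.arrow = pullback.fst θ ψ ≫ u.arrow - pullback.snd θ ψ ≫ y.arrow := by
      have := congrArg (· ≫ (x ⊔ y).arrow) hr
      simpa [Preadditive.sub_comp] using this
    have hz : z.Factors (pullback.snd θ ψ ≫ y.arrow) := by
      have : pullback.snd θ ψ ≫ y.arrow = (pullback.fst θ ψ ≫ Subobject.ofLE u z huz -
          r ≫ Subobject.ofLE x z hxz) ≫ z.arrow := by
        rw [Preadditive.sub_comp, Category.assoc, Category.assoc, Subobject.ofLE_arrow,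
          Subobject.ofLE_arrow, hr']
        abel
      rw [this]; exact Subobject.factors_comp_arrow _
    have hyz : (y ⊓ z).Factors (pullback.snd θ ψ ≫ y.arrow) :=
      (Subobject.inf_factors _).2 ⟨Subobject.factors_comp_arrow _, hz⟩
    have hv' : pullback.fst θ ψ ≫ u.arrow = (r ≫ Subobject.ofLE x v hxv +
        (y ⊓ z).factorThru _ hyz ≫ Subobject.ofLE (y ⊓ z) v hyzv) ≫ v.arrow := by
      rw [Preadditive.add_comp, Category.assoc, Category.assoc, Subobject.ofLE_arrow,
        Subobject.ofLE_arrow, Subobject.factorThru_arrow, hr']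
      abel
    have h0 : u.arrow ≫ cokernel.π v.arrow = 0 := by
      rw [← cancel_epi (pullback.fst θ ψ), ← Category.assoc, hv', Category.assoc,
        cokernel.condition, comp_zero, comp_zero]
    exact Subobject.le_of_comm (Abelian.monoLift v.arrow u.arrow h0) (Abelian.monoLift_comp _ _ _)

end SubobjectAbelian

section LatticeLemmas

variable {L : Type*} [Lattice L] [IsModularLattice L]

lemma eventually_const_of_wcovBy {p q : L} (hpq : p ⩿ q) (c : ℕ → L)
    (hc : Monotone c ∨ Antitone c) (hq : ∀ i, c i ≤ q)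
    (hinf : ∃ N, ∀ i, N ≤ i → c i ⊓ p = c N ⊓ p) :
    ∃ N, ∀ i, N ≤ i → c i = c N := by
  obtain ⟨N₀, hN₀⟩ := hinf
  have hd : ∀ i, c i ⊔ p = p ∨ c i ⊔ p = q :=
    fun i => hpq.eq_or_eq le_sup_right (sup_le (hq i) hpq.le)
  have hsup : ∃ N, ∀ i, N ≤ i → c i ⊔ p = c N ⊔ p := by
    rcases hc with hc | hc
    · by_cases h : ∃ N, c N ⊔ p = q
      · obtain ⟨N, hN⟩ := h
        refine ⟨N, fun i hi => ?_⟩
        rw [hN]
        refine le_antisymm (sup_le (hq i) hpq.le) ?_
        rw [← hN]
        exact sup_le_sup_right (hc hi) p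
      · push Not at h
        exact ⟨0, fun i _ => by rw [(hd i).resolve_right (h i), (hd 0).resolve_right (h 0)]⟩
    · by_cases h : ∃ N, c N ⊔ p = p
      · obtain ⟨N, hN⟩ := h
        refine ⟨N, fun i hi => ?_⟩
        rw [hN]
        exact le_antisymm ((sup_le_sup_right (hc hi) p).trans hN.le) le_sup_right
      · push Not at h
        exact ⟨0, fun i _ => by rw [(hd i).resolve_left (h i), (hd 0).resolve_left (h 0)]⟩
  obtain ⟨N₁, hN₁⟩ := hsup
  refine ⟨max N₀ N₁, fun i hi => ?_⟩
  have hi0 : N₀ ≤ i := le_trans (le_max_left _ _) hi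
  have hi1 : N₁ ≤ i := le_trans (le_max_right _ _) hi
  have e1 : c i ⊓ p = c (max N₀ N₁) ⊓ p := by rw [hN₀ i hi0, hN₀ _ (le_max_left _ _)]
  have e2 : c i ⊔ p = c (max N₀ N₁) ⊔ p := by rw [hN₁ i hi1, hN₁ _ (le_max_right _ _)]
  rcases hc with hc | hc
  · exact (eq_of_le_of_inf_le_of_sup_le (hc hi) e1.le e2.le).symm
  · exact eq_of_le_of_inf_le_of_sup_le (hc hi) e1.ge e2.ge

lemma eventually_const_of_chain {n : ℕ} (F : Fin (n + 1) → L)
    (hF : ∀ i : Fin n, F i.castSucc ⩿ F i.succ) (k : Fin (n + 1)) :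
    ∀ (c : ℕ → L), (Monotone c ∨ Antitone c) → (∀ i, F 0 ≤ c i) → (∀ i, c i ≤ F k) →
      ∃ N, ∀ i, N ≤ i → c i = c N := by
  have hmono : Monotone F := Fin.monotone_iff_le_succ.2 (fun i => (hF i).le)
  induction k using Fin.induction with
  | zero =>
    intro c _ h0 hk
    exact ⟨0, fun i _ => by rw [le_antisymm (hk i) (h0 i), le_antisymm (hk 0) (h0 0)]⟩
  | succ k ih =>
    intro c hc h0 hk
    apply eventually_const_of_wcovBy (hF k) c hc hk
    apply ih (fun i => c i ⊓ F k.castSucc)
    · rcases hc with hc | hc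
      · left; exact fun a b hab => inf_le_inf_right _ (hc hab)
      · right; exact fun a b hab => inf_le_inf_right _ (hc hab)
    · intro i; exact le_inf (h0 i) (hmono (Fin.zero_le _))
    · intro i; exact inf_le_right

end LatticeLemmas

lemma exists_covBy_chain {L : Type*} [PartialOrder L] [OrderTop L] [WellFoundedLT L]
    [WellFoundedGT L] (b : L) :
    ∃ (n : ℕ) (F : Fin (n + 1) → L), F 0 = b ∧ F (Fin.last n) = ⊤ ∧
      ∀ i : Fin n, F i.castSucc ⋖ F i.succ := by
  induction b using WellFoundedGT.induction with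
  | ind b ih =>
    by_cases hb : b = ⊤
    · exact ⟨0, fun _ => ⊤, hb.symm, rfl, fun i => i.elim0⟩
    · obtain ⟨c, hbc⟩ := exists_covBy_of_wellFoundedLT (a := b) (by rwa [isMax_iff_eq_top])
      obtain ⟨n, F, hF0, hFn, hF⟩ := ih c hbc.lt
      refine ⟨n + 1, Fin.cons b F, by simp, ?_, fun i => ?_⟩
      · rw [← Fin.succ_last, Fin.cons_succ, hFn]
      · induction i using Fin.cases with
        | zero => simpa [hF0] using hbc
        | succ j =>
          rw [← Fin.succ_castSucc, Fin.cons_succ, Fin.cons_succ]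
          exact hF j

end Groth.Agent.H6
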