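import Groth.Agent.H31.ShriekProj
import Groth.Agent.H40.LTensorInv
import Groth.Agent.H6.TensorQCoh

/-!
# (R) for helper31's S6498: the derived tensor product commutes with restriction to an open (helper6)
-/

set_option autoImplicit false
set_option backward.isDefEq.respectTransparency false
universe u
open CategoryTheory CategoryTheory.Limits AlgebraicGeometry HomologicalComplex
attribute [local instance] HasDerivedCategory.standard

namespace Groth.Agent.H6.TensRestr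

open Groth.Agent.H31 Groth.Agent.H31.Stalk Groth.Agent.H31.KFlat Groth.Agent.H31.PullTensor
  Groth.Agent.H6.TensorQCoh

/-- **(R)** `(L ⊗^L E)|_U ≅ L|_U ⊗^L E|_U`. -/
theorem restrictD_LTensorCx {X : Scheme.{u}} (U : X.Opens) (E : CochainComplex X.Modules ℤ)
    [DCoh.HasLTensorCx E] [DCoh.HasLTensorCx ((DCoh.restrictCx U).obj E)] (L : DCoh.D X) :
    Nonempty ((DCoh.restrictD U.ι).obj ((DCoh.LTensorCx E).obj L) ≅
      (DCoh.LTensorCx ((DCoh.restrictCx U).obj E)).obj ((DCoh.restrictD U.ι).obj L)) := by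
  let P := DerivedCategory.Q.objPreimage L
  let eL : DerivedCategory.Q.obj P ≅ L := DerivedCategory.Q.objObjPreimageIso L
  obtain ⟨F₁, q, hF₁, -, hq, -⟩ := KFlat.exists_isKFlat_resolution (O := shX X) E
  have hF₁' : DCoh.IsKFlat F₁ := hF₁
  have i0 : ModSite.HasLTensorCx (O := shX X) F₁ := hasLTensorCx F₁
  have i1 : ModSite.HasLTensorCx (O := shX X) E := ‹DCoh.HasLTensorCx E›
  have i0' : DCoh.HasLTensorCx F₁ := hasLTensorCx F₁
  let φ : DCoh.LTensorCx F₁ ≅ DCoh.LTensorCx E :=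
    Groth.Agent.H40.LTensorInv.invIso (O := shX X) q hq hF₁
  -- `(L ⊗^L E) ≅ Q (Tot (P ⊗ F₁))`
  let a : (DCoh.LTensorCx E).obj L ≅ DerivedCategory.Q.obj ((DCoh.tensorCx.obj P).obj F₁) :=
    (DCoh.LTensorCx E).mapIso eL.symm ≪≫ (φ.app _).symm ≪≫ LTensorCxObjIso F₁ hF₁' P
  let R := Scheme.Modules.restrictFunctor U.ι
  let eRP : R ≅ Scheme.Modules.pullback U.ι := Scheme.Modules.restrictFunctorIsoPullback U.ι
  let eC := NatIso.mapHomologicalComplex eRP (ComplexShape.up ℤ)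
  -- `(Q Y)|_U ≅ Q (j^* Y)`
  have b : ∀ Y : CochainComplex X.Modules ℤ,
      (DCoh.restrictD U.ι).obj (DerivedCategory.Q.obj Y) ≅
        DerivedCategory.Q.obj ((fC U.ι).obj Y) := fun Y =>
    (R.mapDerivedCategoryFactors).app Y ≪≫ DerivedCategory.Q.mapIso (eC.app Y)
  have hfF := isKFlat_pullback U.ι F₁ hF₁'
  have j0 : DCoh.HasLTensorCx ((fC U.ι).obj F₁) := hasLTensorCx _
  let c : DerivedCategory.Q.obj ((fC U.ι).obj ((DCoh.tensorCx.obj P).obj F₁)) ≅
      (DCoh.LTensorCx ((fC U.ι).obj F₁)).obj (DerivedCategory.Q.obj ((fC U.ι).obj P)) :=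
    DerivedCategory.Q.mapIso (pullTotIso U.ι P F₁) ≪≫
      (LTensorCxObjIso ((fC U.ι).obj F₁) hfF ((fC U.ι).obj P)).symm
  have hRq : IsIso (DerivedCategory.Q.map ((DCoh.restrictCx U).map q)) := by
    have hq' : IsIso (DerivedCategory.Q.map q) :=
      (DerivedCategory.isIso_Q_map_iff_quasiIso _ q).2 hq
    exact (NatIso.isIso_map_iff (R.mapDerivedCategoryFactors) q).1
      (inferInstanceAs (IsIso ((DCoh.restrictD U.ι).map (DerivedCategory.Q.map q))))
  obtain ⟨d⟩ := nonempty_LTensorCx_iso ((fC U.ι).obj F₁) ((DCoh.restrictCx U).obj E)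
    (DerivedCategory.Q.mapIso (eC.app F₁).symm ≪≫
      asIso (DerivedCategory.Q.map ((DCoh.restrictCx U).map q)))
  exact ⟨(DCoh.restrictD U.ι).mapIso a ≪≫ b _ ≪≫ c ≪≫ d.app _ ≪≫
    (DCoh.LTensorCx _).mapIso ((b P).symm ≪≫ (DCoh.restrictD U.ι).mapIso eL)⟩

end Groth.Agent.H6.TensRestr
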